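import Cfsg.Agent.Mrg.Omega.All.Basic_m3
import Cfsg.Agent.Mrg.Omega.Mix.Pts_m3
import Cfsg.Agent.Mrg.Omega.HTwo.TComp_m3
import Cfsg.Agent.Mrg.Omega.VP
import Cfsg.Agent.Mrg.Omega.BTwo.Entry
import Cfsg.Agent.Mrg.Omega.FrameI
import Cfsg.Agent.Mrg.Omega.SQT.Rank
import Cfsg.Agent.Mrg.Omega.FFMutual
import Cfsg.Agent.Mrg.Omega.NatPair.Pair
import Cfsg.Agent.Mrg.Omega.IId.SwNat.Trace
import Cfsg.Agent.Involutions.BaerSuzuki
import Cfsg.Agent.Mrg.Omega.NOThreeL.RTwo_m3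
import Mathlib
import Cfsg.Agent.Mrg.Omega.TC.Crit_m3
import Cfsg.Agent.Mrg.Omega.ThmC.TwoData_m3
import Cfsg.Agent.Mrg.Omega.BTwo.Basic
import Cfsg.Agent.Mrg.Omega.NOThreeL.RTools.Two_m3
import Cfsg.Agent.Omega.NO3S.PointTI_m3
import Cfsg.Agent.FastGrp
import Cfsg.Agent.Prune
set_option linter.all false

section
prune_inst 0x7fbcfefbaffd8fffffff7e7faefddffdf8b87fffffdff98bffe0fbffcb9f4384cbe5fb878de050fe1ef6e21410b87813f9ffceffe26bdc7ffffd5ff45ffbee1fe5f7bd0951d798341fbc0fff63f07f8e7f3fffffffffffffffffffffffffffbeffbfffffffff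

-- part: Mrg/Omega/MixOne/OfSplit
section
prune_inst 0x41000010003000000001805100000205408000000002400018040034602808300a042812188201400100aaa4400340060031000d00000000000000000011801a0802842028248a004260009801004000000000000000000000000000000000004000000000
set_option linter.all false
open scoped Cfsg.Agent.FastGrp

section


/-!
# The normal form of a mutual pair of split one-factor parabolics

`Spl P V D M` : `V = N × D`, `D ≤ Z(P)`, `M : RMod F N K`, `P ≤ K` transitive on `N^#` (this is `V_P`,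
`N = [V_P, O²(P)]`, `D = C_{V_P}(O²(P))`, or a conjugate).
* `Spl.mixedW` : two such data, `V₂ ≤ S₁ ≤ P₁`, `V₁ ≤ S₂ ≤ P₂`, `[V₁, V₂] ≠ 1`, no mutual pair `(V₁, V₁^n)`,
  `(V₂, V₂^n)` ⇒ `MixedW M₁ (M₂.conj k) (N₁ ⊓ N₂)` for some `k ∈ N(N₁ ⊓ N₂)`;
* `Spl.false_of` : `|F₁| ≥ 4` ⇒ `D₁ = 1`.
-/

set_option autoImplicit false
set_option linter.unusedSectionVars false

namespace Cfsg.Agent.Omega.MixOne

open Subgroup Cfsg Cfsg.Agent.Lib.SL2Mat Cfsg.Agent.Omega.BTwo Cfsg.Agent.Omega.Mix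
open scoped Pointwise

universe u

variable {G : Type u} [Group G]

/-- a split one-factor parabolic: `V = N × D`, `D ≤ Z(P)`, `N` a natural module -/
structure Spl {F : Type*} [Field F] (P V D : Subgroup G) {N K : Subgroup G} (M : RMod F N K) : Prop where
  PK : P ≤ K
  PV : P ≤ normalizer (V : Set G)
  NV : N ≤ V
  DV : D ≤ V
  dec : ∀ v ∈ V, ∃ n ∈ N, ∃ d ∈ D, v = n * d
  comm : ∀ v ∈ V, ∀ w ∈ V, v * w = w * v
  inf : N ⊓ D = ⊥
  cen : P ≤ centralizer (D : Set G)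
  trans : ∀ v ∈ N, v ≠ 1 → ∀ v' ∈ N, v' ≠ 1 → ∃ g ∈ P, g * v * g⁻¹ = v'

namespace Spl

section one

variable {F : Type*} [Field F] {P V D N K : Subgroup G} {M : RMod F N K} (s : Spl P V D M)
include s

theorem conj (k : G) : Spl (cj k P) (cj k V) (cj k D) (M.conj k) where
  PK := cj_mono s.PK
  PV := by rw [normalizer_cj]; exact cj_mono s.PV
  NV := cj_mono s.NV
  DV := cj_mono s.DV
  dec := by
    rintro _ ⟨v, hv, rfl⟩
    obtain ⟨n, hn, d, hd, rfl⟩ := s.dec v hv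
    exact ⟨_, conj_mem_cj hn, _, conj_mem_cj hd, by
      change k * (n * d) * k⁻¹ = _
      group⟩
  comm := by
    rintro _ ⟨v, hv, rfl⟩ _ ⟨w, hw, rfl⟩
    exact comm_conj k v w (s.comm v hv w hw)
  inf := by
    have h := cj_inf k N D
    rw [s.inf, cj_bot] at h
    exact h.symm
  cen := by
    rw [centralizer_cj]
    exact cj_mono s.cen
  trans := by
    rintro _ ⟨v, hv, rfl⟩ hv1 _ ⟨w, hw, rfl⟩ hw1
    obtain ⟨g, hg, hgv⟩ := s.trans v hv (fun h => hv1 (by rw [h]; exact map_one _)) w hw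
      (fun h => hw1 (by rw [h]; exact map_one _))
    refine ⟨k * g * k⁻¹, conj_mem_cj hg, ?_⟩
    change k * g * k⁻¹ * (k * v * k⁻¹) * (k * g * k⁻¹)⁻¹ = k * w * k⁻¹
    rw [← hgv]; group

variable [Finite G] [Finite F] [CharP F 2]

theorem N_pGroup : IsPGroup 2 N := fun v => ⟨1, by
  rw [pow_one, pow_two]; exact Subtype.ext (M.sq v.2)⟩

theorem N_ne : N ≠ ⊥ := by
  intro h
  have h1 : M.e ![1, 0] = 1 := mem_bot.1 (h.le (M.e_mem _))
  rw [M.e_eq_one] at h1
  simpa using congrFun h1 0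

/-- every point of `N` is normalised by a Sylow 2-subgroup in `P` -/
theorem exists_sylow (S : Sylow 2 G) (hS : (S : Subgroup G) ≤ P) {w : Fin 2 → F} (hw : w ≠ 0) :
    ∃ T : Sylow 2 G, (T : Subgroup G) ≤ P ∧ (T : Subgroup G) ≤ normalizer ((M.line w : Subgroup G) : Set G) := by
  obtain ⟨z, hzN, -, hz1, -, hzc⟩ := exists_central s.N_pGroup ((hS.trans s.PK).trans M.le) s.N_ne
  obtain ⟨g, hg, hgz⟩ := s.trans z hzN hz1 (M.e w) (M.e_mem w) (fun h => hw (M.e_eq_one.1 h))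
  refine ⟨g • S, ?_, ?_⟩
  · rw [coe_smul_eq]
    have h1 := cj_mono (g := g) hS
    rwa [cj_of_mem hg] at h1
  · rw [coe_smul_eq]
    rintro _ ⟨t, ht, rfl⟩
    have h1 : g * t * g⁻¹ ∈ K := s.PK (mul_mem (mul_mem hg (hS ht)) (inv_mem hg))
    have h2 : M.act (g * t * g⁻¹) w = w := by
      rw [← M.commute_e h1, ← hgz]
      have h3 := hzc t ht
      calc g * t * g⁻¹ * (g * z * g⁻¹) = g * (t * z) * g⁻¹ := by group
        _ = g * (z * t) * g⁻¹ := by rw [h3]
        _ = g * z * g⁻¹ * (g * t * g⁻¹) := by group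
    change g * t * g⁻¹ ∈ _
    rw [← cj_eq_self_iff]
    have h3 : cj (g * t * g⁻¹) (M.line w) = M.line (M.act (g * t * g⁻¹) w) := M.cj_line h1 w
    rw [h3, h2]

/-- `V ≤ O₂(N(R))` -/
theorem V_le_Q {T : Sylow 2 G} (hTP : (T : Subgroup G) ≤ P) {w : Fin 2 → F} (hw : w ≠ 0) {R : Subgroup G}
    (hR : R = M.line w) (hTR : (T : Subgroup G) ≤ normalizer (R : Set G)) (hch : Char2 (normalizer (R : Set G))) :
    V ≤ QQ R := by
  subst hR
  have hRN : M.line w ≤ N := M.line_le w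
  have h1 : N ≤ QQ (M.line w) := M.V_le_Q hw T (hTP.trans s.PK) hTR hch
  intro v hv
  obtain ⟨n, hn, d, hd, rfl⟩ := s.dec v hv
  refine mul_mem (h1 hn) (hch d ?_ ?_)
  · exact centralizer_le_normalizer _ (mem_centralizer_iff.2 fun r hr => s.comm r (s.NV (hRN hr)) d (s.DV hd))
  · intro q hq
    exact mem_centralizer_iff.1 (s.cen (hTP (QQ_le_sylow T hTR hq))) d hd

end one

end Spl

/-- `no mutual pair (V, V^n)` -/
def NoSame (V : Subgroup G) : Prop :=
  ∀ n : G, V ≤ normalizer (cj n V : Set G) → cj n V ≤ normalizer (V : Set G) → ∀ v ∈ V, ∀ w ∈ cj n V, v * w = w * v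

theorem LL_mono {N V R r : Subgroup G} (h : N ≤ V) : _root_.Cfsg.Agent.Omega.Mix.LL N R r ≤ _root_.Cfsg.Agent.Omega.Mix.LL V R r :=
  Mix.LL_le fun _ hg => (cj_mono h).trans (cj_le_LL hg)

section two

variable [Finite G] {F₁ F₂ : Type*} [Field F₁] [Field F₂] [Finite F₁] [Finite F₂] [CharP F₁ 2] [CharP F₂ 2]
  {P₁ V₁ D₁ N₁ K₁ P₂ V₂ D₂ N₂ K₂ : Subgroup G} {M₁ : RMod F₁ N₁ K₁} {M₂ : RMod F₂ N₂ K₂}

/-- **The normal form of a mutual pair of split one-factor parabolics.** -/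
theorem Spl.mixedW (hchar : ∀ K : Subgroup G, IsPGroup 2 K → K ≠ ⊥ → Char2 (normalizer (K : Set G)))
    (s₁ : Spl P₁ V₁ D₁ M₁) (s₂ : Spl P₂ V₂ D₂ M₂) (S₁ S₂ : Sylow 2 G) (hS₁ : (S₁ : Subgroup G) ≤ P₁)
    (hS₂ : (S₂ : Subgroup G) ≤ P₂) (h₁ : V₂ ≤ (S₁ : Subgroup G)) (h₂ : V₁ ≤ (S₂ : Subgroup G))
    (hne : ∃ v ∈ V₁, ∃ w ∈ V₂, v * w ≠ w * v) (hno₁ : NoSame V₁) (hno₂ : NoSame V₂) :
    ∃ k ∈ normalizer ((N₁ ⊓ N₂ : Subgroup G) : Set G), ∃ T : Sylow 2 G, (T : Subgroup G) ≤ P₁ ∧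
      (T : Subgroup G) ≤ cj k P₂ ∧ (T : Subgroup G) ≤ normalizer ((N₁ ⊓ N₂ : Subgroup G) : Set G) ∧
      MixedW M₁ (M₂.conj k) (N₁ ⊓ N₂) := by
  -- `N₁`, `N₂` do not commute
  obtain ⟨v, hv, w, hw, hvw⟩ := hne
  obtain ⟨n, hn, d, hd, rfl⟩ := s₁.dec v hv
  obtain ⟨n', hn', d', hd', rfl⟩ := s₂.dec w hw
  have c1 : ∀ x ∈ V₂, ∀ d ∈ D₁, d * x = x * d := fun x hx d hd =>
    mem_centralizer_iff.1 (s₁.cen (hS₁ (h₁ hx))) d hd
  have c2 : ∀ x ∈ V₁, ∀ d ∈ D₂, d * x = x * d := fun x hx d hd =>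
    mem_centralizer_iff.1 (s₂.cen (hS₂ (h₂ hx))) d hd
  have hnn : n * n' ≠ n' * n := by
    intro h
    apply hvw
    have e1 := c1 _ hw d hd
    have e2 := c2 n (s₁.NV hn) d' hd'
    calc n * d * (n' * d') = n * (d * (n' * d')) := by group
      _ = n * (n' * d' * d) := by rw [e1]
      _ = n * n' * d' * d := by group
      _ = n' * (n * d') * d := by rw [h]; group
      _ = n' * (d' * n) * d := by rw [e2]
      _ = n' * d' * (n * d) := by group
  have hmut : RMutual N₁ N₂ K₁ K₂ :=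
    ⟨(s₂.NV.trans h₁).trans (hS₁.trans s₁.PK), (s₁.NV.trans h₂).trans (hS₂.trans s₂.PK), n, hn, n', hn', hnn⟩
  obtain ⟨-, u, u', hu, hu', hl, hl'⟩ := pair M₁ M₂ hmut
  obtain ⟨R, hR⟩ : ∃ R, R = N₁ ⊓ N₂ := ⟨_, rfl⟩
  rw [← hR] at hl hl' ⊢
  obtain ⟨T₁, hT₁P, hT₁R⟩ := s₁.exists_sylow S₁ hS₁ hu.ne
  obtain ⟨T₂, hT₂P, hT₂R⟩ := s₂.exists_sylow S₂ hS₂ hu'.ne
  rw [← hl] at hT₁R
  rw [← hl'] at hT₂R
  obtain ⟨k, hk, hkT⟩ := exists_conj_eq T₂ T₁ hT₂R hT₁R
  have hTk : (T₁ : Subgroup G) ≤ cj k P₂ := by rw [hkT]; exact cj_mono hT₂P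
  have hcjR : cj k R = R := cj_eq_self_iff.2 hk
  have hlk : R = (M₂.conj k).line u' := by
    rw [M₂.conj_line k u', ← hl']
    exact hcjR.symm
  have hR2 : IsPGroup 2 R := s₁.N_pGroup.to_le (by rw [hR]; exact inf_le_left)
  have hR1 : R ≠ ⊥ := by rw [hl]; exact M₁.line_ne_bot hu.ne
  have hchR := hchar R hR2 hR1
  have hV₁Q := s₁.V_le_Q hT₁P hu.ne hl hT₁R hchR
  have hV₂Q := (s₂.conj k).V_le_Q hTk hu'.ne hlk hT₁R hchR
  refine ⟨k, hk, T₁, hT₁P, hTk, hT₁R, ⟨u, hu.ne, hl⟩, ⟨u', hu'.ne, hlk⟩,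
    ⟨T₁, hT₁P.trans s₁.PK, hTk.trans (s₂.conj k).PK, hT₁R⟩, hchar, ?_, ?_, ?_⟩
  · intro a ha b hb
    exact LL_comm T₁ hV₁Q (hT₁P.trans s₁.PV) hT₁R hno₁ a (LL_mono s₁.NV ha) b (LL_mono s₁.NV hb)
  · intro a ha b hb
    exact LL_comm T₁ hV₂Q (hTk.trans (s₂.conj k).PV) hT₁R (cj_no k hno₂) a (LL_mono (s₂.conj k).NV ha) b
      (LL_mono (s₂.conj k).NV hb)
  · refine ⟨n, V_le_LL _ _ hn, n', ?_, hnn⟩
    have h3 : cj k⁻¹ (cj k N₂) ≤ _root_.Cfsg.Agent.Omega.Mix.LL (cj k N₂) R R := cj_le_LL (cj_eq_self_iff.2 (inv_mem hk))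
    rw [cj_inv_cj] at h3
    exact h3 hn'

/-- **`|F₁| ≥ 4` ⇒ `D₁ = 1`** -/
theorem Spl.eq_bot (hchar : ∀ K : Subgroup G, IsPGroup 2 K → K ≠ ⊥ → Char2 (normalizer (K : Set G)))
    (s₁ : Spl P₁ V₁ D₁ M₁) (s₂ : Spl P₂ V₂ D₂ M₂) (S₁ S₂ : Sylow 2 G) (hS₁ : (S₁ : Subgroup G) ≤ P₁)
    (hS₂ : (S₂ : Subgroup G) ≤ P₂) (h₁ : V₂ ≤ (S₁ : Subgroup G)) (h₂ : V₁ ≤ (S₂ : Subgroup G))
    (hne : ∃ v ∈ V₁, ∃ w ∈ V₂, v * w ≠ w * v) (hno₁ : NoSame V₁) (hno₂ : NoSame V₂) (h4 : 4 ≤ Nat.card F₁) :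
    D₁ = ⊥ := by
  obtain ⟨k, -, T, hT₁, hT₂, hTR, m⟩ := s₁.mixedW hchar s₂ S₁ S₂ hS₁ hS₂ h₁ h₂ hne hno₁ hno₂
  rw [eq_bot_iff]
  intro d hd
  have h5 : d ∈ N₁ ⊓ N₂ := m.center_le h4 (hT₁.trans s₁.PK) (hT₂.trans (s₂.conj k).PK) hTR (fun t ht =>
    (mem_centralizer_iff.1 (s₁.cen (hT₁ ht)) d hd).symm)
  have h6 : d ∈ N₁ ⊓ D₁ := ⟨h5.1, hd⟩
  rwa [s₁.inf] at h6

end two

end Cfsg.Agent.Omega.MixOne

end

section


/-!
# Split one-factor parabolics: `V_P = [V_P, O²(P)] × C_{V_P}(O²(P))`, and the socket `Mixed4` of II.0h1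

* `zl_sup` : `V_P = [V_P, O²(P)] C_{V_P}(O²(P))` if `V_P / C_{V_P}(O²(P))` is one natural module;
* `le_centralizer_cv` : `P` centralises `C_{V_P}(O²(P))` in the split case;
* `exists_spl` : the data `Spl`;
* `exists_move` : a mutual pair can be moved to `V' ≤ S ≤ P`, `V ≤ S' ≤ P'`;
* `exists_mixedW` : the normal form of a non-free split mutual pair, no such pair of one type (all `q`);
* `mixed4 : Mixed4 K`.
-/

set_option autoImplicit false
set_option linter.unusedSectionVars false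

namespace Cfsg.Agent.Omega.MixOne

open Subgroup Cfsg Cfsg.Agent.ZN Cfsg.Agent.Lib.SL2Mat Cfsg.Agent.Omega.BTwo Cfsg.Agent.Omega.Mix
open Cfsg.Agent.Omega.MinPar Cfsg.Agent.Omega.Frame
open Cfsg.Agent.Omega.FrameFF
open Cfsg.Agent.Omega.FrameLE (AllIn)
open Cfsg.Agent.Omega.HOne.Main (vx SplitPar AllSplit NonFree Mixed4)
open Cfsg.Agent.MinSimple.VModule (oddGen mem_oddGen oddGen_le le_normalizer_oddGen le_normalizer_zl zl_le zc_le_zl
  mem_zc)
open Cfsg.Agent.Omega.NatPair (ap ap_mul ap_one ap_zero' ap_one' ext2 exists_ap)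
open scoped Pointwise commutatorElement

universe u

variable {G : Type u} [Group G]

/-! ### `[V_P, O²(P)]` and `C_{V_P}(O²(P))` -/

theorem cv_le_zl (S P : Subgroup G) : cv S P ≤ zl S P := inf_le_left

theorem vx_le_zl (S P : Subgroup G) : vx S P ≤ zl S P := by
  rw [vx, commutator_le]
  intro v hv o ho
  have h1 : o * v⁻¹ * o⁻¹ ∈ zl S P :=
    conj_mem_of_normalizer (le_normalizer_zl S P (oddGen_le P ho)) (inv_mem hv)
  have e : ⁅v, o⁆ = v * (o * v⁻¹ * o⁻¹) := by rw [commutatorElement_def]; group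
  rw [e]
  exact mul_mem hv h1

theorem cj_commutator (g : G) (A B : Subgroup G) : cj g ⁅A, B⁆ = ⁅cj g A, cj g B⁆ := map_commutator _ _ _

theorem le_normalizer_vx (S P : Subgroup G) : P ≤ normalizer (vx S P : Set G) := by
  intro g hg
  rw [← cj_eq_self_iff, vx, cj_commutator, cj_eq_self_iff.2 (le_normalizer_zl S P hg),
    cj_eq_self_iff.2 (le_normalizer_oddGen P hg)]

theorem le_normalizer_cv' (S P : Subgroup G) : P ≤ normalizer (cv S P : Set G) := by
  intro g hg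
  rw [← cj_eq_self_iff, cv, cj_inf, ← centralizer_cj, cj_eq_self_iff.2 (le_normalizer_zl S P hg),
    cj_eq_self_iff.2 (le_normalizer_oddGen P hg)]

/-- an element of order 3 of `SL₂(F)` without fixed vectors -/
theorem exists_three {F : Type*} [Field F] [CharP F 2] : ∃ A : Matrix.SpecialLinearGroup (Fin 2) F, A ^ 3 = 1 ∧
    ∀ x : Fin 2 → F, ∃ y, ap A y - y = x := by
  refine ⟨_root_.Cfsg.Agent.Lib.SL2Mat.mk 0 1 1 1 (by
    rw [zero_mul, one_mul, zero_sub]; exact neg_eq_of_add_eq_zero_left (CharTwo.add_self_eq_zero 1)), ?_, fun x => ?_⟩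
  · rw [pow_succ, pow_two]
    refine ext_ent ?_ ?_ ?_ ?_ <;> simp [ent_mul, CharTwo.add_self_eq_zero]
  · refine ⟨![x 1, x 0 + x 1], ?_⟩
    apply ext2
    · rw [Pi.sub_apply, ap_zero']; simp
    · rw [Pi.sub_apply, ap_one']; simp

theorem e_pow {F : Type} [Field F] {P V D : Subgroup G} (o : NatOver F P V D) (hPV : P ≤ normalizer (V : Set G))
    {g : G} (hg : g ∈ P) {A : Matrix.SpecialLinearGroup (Fin 2) F}
    (hA : ∀ v ∈ V, o.e (g * v * g⁻¹) = ap A (o.e v)) (n : ℕ) :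
    ∀ v ∈ V, o.e (g ^ n * v * (g ^ n)⁻¹) = ap (A ^ n) (o.e v) := by
  induction n with
  | zero => intro v _; rw [pow_zero, pow_zero, ap_one]; simp
  | succ n ih =>
    intro v hv
    have h1 : g ^ n * v * (g ^ n)⁻¹ ∈ V := conj_mem_of_normalizer (hPV (pow_mem hg n)) hv
    have e : g ^ (n + 1) * v * (g ^ (n + 1))⁻¹ = g * (g ^ n * v * (g ^ n)⁻¹) * g⁻¹ := by
      rw [pow_succ']; group
    rw [e, hA _ h1, ih v hv, ← ap_mul, ← pow_succ']

/-- every element of `V` is in `[V, O²(P)] D` -/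
theorem dec_of_natOver [Finite G] {F : Type} [Field F] [CharP F 2] {P V D : Subgroup G} (o : NatOver F P V D)
    (hPV : P ≤ normalizer (V : Set G)) : ∀ v ∈ V, ∃ n ∈ ⁅V, oddGen P⁆, ∃ d ∈ D, v = n * d := by
  obtain ⟨A, hA3, hA⟩ := exists_three (F := F)
  obtain ⟨g, hg, hgA, -⟩ := o.lift A
  obtain ⟨k, m, hm, hkm⟩ := Nat.exists_eq_two_pow_mul_odd (n := orderOf g) (orderOf_pos g).ne'
  set h := g ^ 4 ^ k with hh
  have hhP : h ∈ P := pow_mem hg _
  have hhE : h ∈ oddGen P := by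
    refine mem_oddGen hhP ?_
    have h1 : orderOf h ∣ m := by
      apply orderOf_dvd_of_pow_eq_one
      have e : g ^ 4 ^ k ^ 1 = g ^ 4 ^ k := by rw [pow_one]
      rw [hh, ← pow_mul]
      have e2 : 4 ^ k * m = 2 ^ k * m * 2 ^ k := by
        rw [show (4 : ℕ) = 2 * 2 from rfl, mul_pow]; ring
      rw [e2, ← hkm, pow_mul, pow_orderOf_eq_one, one_pow]
    exact Odd.of_dvd_nat hm h1
  have hhA : ∀ v ∈ V, o.e (h * v * h⁻¹) = ap A (o.e v) := by
    intro v hv
    rw [hh, e_pow o hPV hg hgA _ v hv]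
    congr 1
    have h3 : 4 ^ k % 3 = 1 := by
      rw [Nat.pow_mod]; norm_num
    have h4 : 4 ^ k = 3 * (4 ^ k / 3) + 1 := by
      conv_lhs => rw [← Nat.div_add_mod (4 ^ k) 3, h3]
    rw [h4, pow_succ, pow_mul, hA3, one_pow, one_mul]
  intro v hv
  obtain ⟨y, hy⟩ := hA (o.e v)
  obtain ⟨w, hw, rfl⟩ := o.surj y
  have hww : h * w * h⁻¹ ∈ V := conj_mem_of_normalizer (hPV hhP) hw
  set n := h * w * h⁻¹ * w⁻¹ with hn
  have hnV : n ∈ V := mul_mem hww (inv_mem hw)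
  have e1 : o.e 1 = 0 := (o.ker 1 (one_mem V)).2 (one_mem D)
  have hinv : ∀ z ∈ V, o.e z⁻¹ = - o.e z := by
    intro z hz
    have h1 := o.mul z hz z⁻¹ (inv_mem hz)
    rw [mul_inv_cancel, e1] at h1
    exact (neg_eq_of_add_eq_zero_right h1.symm).symm
  have hne : o.e n = o.e v := by
    rw [hn, o.mul _ hww _ (inv_mem hw), hhA w hw, hinv w hw, ← sub_eq_add_neg, hy]
  refine ⟨n, ?_, n⁻¹ * v, ?_, by group⟩
  · have h1 : ⁅w, h⁆ ∈ ⁅V, oddGen P⁆ := commutator_mem_commutator hw hhE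
    have e : n = ⁅w, h⁆⁻¹ := by rw [commutatorElement_def, hn]; group
    rw [e]
    exact inv_mem h1
  · rw [← o.ker _ (mul_mem (inv_mem hnV) hv), o.mul _ (inv_mem hnV) _ hv, hinv n hnV, hne, neg_add_cancel]

section par

variable [Finite G] {S : Sylow 2 G} {P : Subgroup G}

theorem not_dvd_relIndex (hS : (S : Subgroup G) ≤ P) : ¬ 2 ∣ (S : Subgroup G).relIndex P := fun h =>
  S.not_dvd_index (h.trans (relIndex_dvd_index_of_le hS))

/-- `P` centralises `C_{V_P}(O²(P))` in the split case -/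
theorem le_centralizer_cv (hS : (S : Subgroup G) ≤ P)
    (hVa : ∀ v ∈ zl (S : Subgroup G) P, ∀ w ∈ zl (S : Subgroup G) P, v * w = w * v)
    (hsp : SplitPar (S : Subgroup G) P) : P ≤ centralizer (cv (S : Subgroup G) P : Set G) := by
  set V := zl (S : Subgroup G) P with hV
  set N := vx (S : Subgroup G) P with hN
  have hPV : P ≤ normalizer (V : Set G) := le_normalizer_zl _ _
  have hPN : P ≤ normalizer (N : Set G) := le_normalizer_vx _ _
  have hNV : N ≤ V := vx_le_zl _ _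
  -- the elements `v` with `[P, v] ≤ N`
  let C : Subgroup G :=
    { carrier := {v | v ∈ V ∧ ∀ p ∈ P, p * v * p⁻¹ * v⁻¹ ∈ N}
      one_mem' := ⟨one_mem _, fun p _ => by
        have e : p * 1 * p⁻¹ * 1⁻¹ = 1 := by group
        rw [e]; exact one_mem _⟩
      mul_mem' := by
        rintro v w ⟨hv, hv'⟩ ⟨hw, hw'⟩
        refine ⟨mul_mem hv hw, fun p hp => ?_⟩
        have e : p * (v * w) * p⁻¹ * (v * w)⁻¹ = p * v * p⁻¹ * v⁻¹ * (v * (p * w * p⁻¹ * w⁻¹) * v⁻¹) := by group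
        have h1 := hw' p hp
        rw [e, hVa v hv _ (hNV h1), mul_inv_cancel_right]
        exact mul_mem (hv' p hp) h1
      inv_mem' := by
        rintro v ⟨hv, hv'⟩
        refine ⟨inv_mem hv, fun p hp => ?_⟩
        have h1 := hv' p hp
        have e : p * v⁻¹ * p⁻¹ * v⁻¹⁻¹ = (v⁻¹ * (p * v * p⁻¹ * v⁻¹) * v)⁻¹ := by group
        rw [e, hVa v⁻¹ (inv_mem hv) _ (hNV h1), inv_mul_cancel_right]
        exact inv_mem h1 }
  have hC : V ≤ C := by
    refine zl_le ?_ ?_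
    · intro z hz
      refine ⟨zc_le_zl _ _ hz, fun p hp => ?_⟩
      let T : Subgroup G :=
        { carrier := {p | p ∈ P ∧ p * z * p⁻¹ * z⁻¹ ∈ N}
          one_mem' := ⟨one_mem _, by
            have e : 1 * z * 1⁻¹ * z⁻¹ = 1 := by group
            rw [e]; exact one_mem _⟩
          mul_mem' := by
            rintro p q ⟨hp, hp'⟩ ⟨hq, hq'⟩
            refine ⟨mul_mem hp hq, ?_⟩
            have e : p * q * z * (p * q)⁻¹ * z⁻¹ = p * (q * z * q⁻¹ * z⁻¹) * p⁻¹ * (p * z * p⁻¹ * z⁻¹) := by group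
            rw [e]
            exact mul_mem (conj_mem_of_normalizer (hPN hp) hq') hp'
          inv_mem' := by
            rintro p ⟨hp, hp'⟩
            refine ⟨inv_mem hp, ?_⟩
            have e : p⁻¹ * z * p⁻¹⁻¹ * z⁻¹ = p⁻¹ * (p * z * p⁻¹ * z⁻¹)⁻¹ * p := by group
            rw [e]
            exact conj_inv_mem_of_normalizer (hPN hp) (inv_mem hp') }
      have hT : oddGen P ⊔ (S : Subgroup G) ≤ T := by
        refine sup_le ?_ ?_
        · intro o ho
          refine ⟨oddGen_le P ho, ?_⟩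
          have h1 : ⁅z, o⁆ ∈ N := commutator_mem_commutator (zc_le_zl _ _ hz) ho
          have e : o * z * o⁻¹ * z⁻¹ = ⁅z, o⁆⁻¹ := by rw [commutatorElement_def]; group
          rw [e]
          exact inv_mem h1
        · intro x hx
          refine ⟨hS hx, ?_⟩
          have h1 := (mem_zc.1 hz).2.1 x hx
          rw [h1, mul_inv_cancel_right, mul_inv_cancel]
          exact one_mem _
      rw [NoFF.LinesPlug.oddGen_sup hS (not_dvd_relIndex hS)] at hT
      exact (hT hp).2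
    · intro g hg
      refine mem_normalizer_of_conj fun v hv => ?_
      obtain ⟨hv, hv'⟩ := hv
      refine ⟨conj_mem_of_normalizer (hPV hg) hv, fun p hp => ?_⟩
      have h1 := hv' (g⁻¹ * p * g) (mul_mem (mul_mem (inv_mem hg) hp) hg)
      have e : p * (g * v * g⁻¹) * p⁻¹ * (g * v * g⁻¹)⁻¹ =
          g * (g⁻¹ * p * g * v * (g⁻¹ * p * g)⁻¹ * v⁻¹) * g⁻¹ := by group
      rw [e]
      exact conj_mem_of_normalizer (hPN hg) h1
  intro p hp
  rw [mem_centralizer_iff]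
  intro d hd
  have h1 : p * d * p⁻¹ * d⁻¹ ∈ N := (hC (cv_le_zl _ _ hd)).2 p hp
  have h2 : p * d * p⁻¹ * d⁻¹ ∈ cv (S : Subgroup G) P :=
    mul_mem (conj_mem_of_normalizer (le_normalizer_cv' _ _ hp) hd) (inv_mem hd)
  have h3 : p * d * p⁻¹ * d⁻¹ ∈ N ⊓ cv (S : Subgroup G) P := ⟨h1, h2⟩
  have h4 : N ⊓ cv (S : Subgroup G) P = ⊥ := hsp
  rw [h4, mem_bot] at h3
  exact (mul_inv_eq_iff_eq_mul.1 (mul_inv_eq_one.1 h3)).symm

/-- **The data of a split one-factor parabolic.** -/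
theorem exists_spl (hG : IsCharacteristicTwoType G) (hP : IsParS (S : Subgroup G) P) {F : Type} [Field F] [Finite F]
    [CharP F 2] (o : NatOver F P (zl (S : Subgroup G) P) (cv (S : Subgroup G) P))
    (hsp : SplitPar (S : Subgroup G) P) : ∃ (K : Subgroup G) (M : RMod F (vx (S : Subgroup G) P) K),
      Spl P (zl (S : Subgroup G) P) (cv (S : Subgroup G) P) M := by
  have hS : (S : Subgroup G) ≤ P := hP.le
  have hVa : ∀ v ∈ zl (S : Subgroup G) P, ∀ w ∈ zl (S : Subgroup G) P, v * w = w * v := fun v hv w hw =>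
    MinSimple.VModule.zc_comm _ _ (hP.isLoc.zl_le S hG hv) _ (hP.isLoc.zl_le S hG hw)
  have hdec := dec_of_natOver o (le_normalizer_zl _ _)
  have hVND : zl (S : Subgroup G) P ≤ vx (S : Subgroup G) P ⊔ cv (S : Subgroup G) P := by
    intro v hv
    obtain ⟨n, hn, d, hd, rfl⟩ := hdec v hv
    exact mul_mem ((le_sup_left : vx (S : Subgroup G) P ≤ _) hn) ((le_sup_right : cv (S : Subgroup G) P ≤ _) hd)
  let o' := natOverSplit o hVa (vx_le_zl _ _) (cv_le_zl _ _) (le_normalizer_vx _ _) (le_normalizer_cv' _ _) hsp hVND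
  obtain ⟨K, hPK, ⟨M⟩⟩ := exists_rmod o' (le_normalizer_vx _ _)
  refine ⟨K, M, ?_⟩
  exact
    { PK := hPK
      PV := le_normalizer_zl _ _
      NV := vx_le_zl _ _
      DV := cv_le_zl _ _
      dec := hdec
      comm := hVa
      inf := hsp
      cen := le_centralizer_cv hS hVa hsp
      trans := by
        intro v hv hv1 v' hv' hv1'
        have k1 : o'.e v ≠ 0 := fun h => hv1 (mem_bot.1 ((o'.ker v hv).1 h))
        have k2 : o'.e v' ≠ 0 := fun h => hv1' (mem_bot.1 ((o'.ker v' hv').1 h))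
        obtain ⟨A, hA⟩ := exists_ap k1 k2
        obtain ⟨g, hg, hgA, -⟩ := o'.lift A
        refine ⟨g, hg, ?_⟩
        have h1 : g * v * g⁻¹ ∈ vx (S : Subgroup G) P := conj_mem_of_normalizer (le_normalizer_vx _ _ hg) hv
        have h2 : o'.e (g * v * g⁻¹ * v'⁻¹) = 0 := by
          have h3 := o'.mul (g * v * g⁻¹ * v'⁻¹) (mul_mem h1 (inv_mem hv')) v' hv'
          rw [inv_mul_cancel_right, hgA v hv, hA] at h3
          exact right_eq_add.1 h3
        exact mul_inv_eq_one.1 (mem_bot.1 ((o'.ker _ (mul_mem h1 (inv_mem hv'))).1 h2)) }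

end par

/-! ### Mutual pairs -/

theorem NoSame.conj {V : Subgroup G} (h : NoSame V) (k : G) : NoSame (cj k V) := cj_no k h

/-- a mutual pair can be moved to `V' ≤ S`, `V ≤ S'` -/
theorem exists_move [Finite G] (S : Sylow 2 G) {P₁ P₂ : Subgroup G} {x : G}
    (hG : IsCharacteristicTwoType G) (h : Mutual (S : Subgroup G) P₁ P₂ x) :
    ∃ y : G, cj y (zl (S : Subgroup G) P₂) ≤ (S : Subgroup G) ∧
      zl (S : Subgroup G) P₁ ≤ cj y (S : Subgroup G) ∧
      ∃ v ∈ zl (S : Subgroup G) P₁, ∃ w ∈ cj y (zl (S : Subgroup G) P₂), v * w ≠ w * v := by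
  set V₁ := zl (S : Subgroup G) P₁ with hV₁
  set V₂ := zl (S : Subgroup G) P₂ with hV₂
  have k1 : V₁ ≤ normalizer (cj x V₂ : Set G) := h.le₁
  have k2 : cj x V₂ ≤ normalizer (V₁ : Set G) := h.le₂
  have hp1 : IsPGroup 2 V₁ := S.isPGroup'.to_le (((h.star₁.isLoc.zl_le S hG).trans
    (MinSimple.VModule.zc_le _)).trans (h.star₁.isLoc.o2_le S))
  have hp2 : IsPGroup 2 V₂ := S.isPGroup'.to_le (((h.star₂.isLoc.zl_le S hG).trans
    (MinSimple.VModule.zc_le _)).trans (h.star₂.isLoc.o2_le S))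
  have hne : ∃ v ∈ V₁, ∃ w ∈ cj x V₂, v * w ≠ w * v := by
    by_contra hcon
    push Not at hcon
    refine h.ne ((commutator_eq_bot_iff_le_centralizer).2 fun v hv => mem_centralizer_iff.2 fun w hw => ?_)
    exact (hcon v hv w hw).symm
  have hSV₁ : (S : Subgroup G) ≤ normalizer (V₁ : Set G) := h.star₁.le.trans (le_normalizer_zl _ _)
  obtain ⟨n, hn, hn'⟩ := exists_conj_sylow S hSV₁ (isPGroup_cj hp2) k2
  -- `y₁ = n⁻¹ x`
  have hnV : cj n⁻¹ V₁ = V₁ := cj_eq_self_iff.2 (inv_mem hn)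
  have k3 : cj (n⁻¹ * x) V₂ ≤ (S : Subgroup G) := by
    have := cj_mono (g := n⁻¹) hn'
    rwa [← cj_mul, cj_inv_cj] at this
  have k4 : V₁ ≤ normalizer (cj (n⁻¹ * x) V₂ : Set G) := by
    rw [cj_mul, normalizer_cj, ← hnV]
    exact cj_mono k1
  have hSV₂ : (((n⁻¹ * x) • S : Sylow 2 G) : Subgroup G) ≤ normalizer (cj (n⁻¹ * x) V₂ : Set G) := by
    rw [coe_smul_eq, normalizer_cj]
    exact cj_mono (h.star₂.le.trans (le_normalizer_zl _ _))
  obtain ⟨m, hm, hm'⟩ := exists_conj_sylow ((n⁻¹ * x) • S : Sylow 2 G) hSV₂ hp1 k4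
  have hmV : cj m (cj (n⁻¹ * x) V₂) = cj (n⁻¹ * x) V₂ := cj_eq_self_iff.2 hm
  refine ⟨m * (n⁻¹ * x), ?_, ?_, ?_⟩
  · rw [cj_mul, hmV]; exact k3
  · rw [cj_mul]; exact hm'
  · obtain ⟨v, hv, w, hw, hvw⟩ := hne
    refine ⟨n⁻¹ * v * n, ?_, n⁻¹ * w * n, ?_, ?_⟩
    · exact conj_inv_mem_of_normalizer hn hv
    · rw [cj_mul m, hmV, cj_mul]
      have := conj_mem_cj (g := n⁻¹) hw
      rwa [inv_inv] at this
    · intro h1
      apply hvw
      calc v * w = n * (n⁻¹ * v * n * (n⁻¹ * w * n)) * n⁻¹ := by group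
        _ = n * (n⁻¹ * w * n * (n⁻¹ * v * n)) * n⁻¹ := by rw [h1]
        _ = w * v := by group

/-- no non-free mutual pair of one type -/
theorem noSame_of {S P : Subgroup G} (hP : IsParS S P) (hne : cv S P ≠ ⊥)
    (hno : ∀ g : G, ¬ NonFree S P P g) : NoSame (zl S P) := by
  intro n h1 h2
  by_contra hcon
  refine hno n ⟨⟨hP, hP, h1, h2, fun h3 => hcon ?_⟩, hne, hne⟩
  intro v hv w hw
  have h4 : ⁅v, w⁆ ∈ ⁅zl S P, MulAut.conj n • zl S P⁆ := commutator_mem_commutator hv hw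
  rw [h3, mem_bot] at h4
  exact commutatorElement_eq_one_iff_mul_comm.1 h4

/-- **The normal form** of a non-free split mutual pair, if there is no such pair of one type (all `q`). -/
theorem exists_mixedW [Finite G] (hG : IsCharacteristicTwoType G) (S : Sylow 2 G)
    (hno : ∀ (P : Subgroup G) (g : G), ¬ NonFree (S : Subgroup G) P P g) {P₁ P₂ : Subgroup G} {x : G}
    (h : NonFree (S : Subgroup G) P₁ P₂ x) (hs₁ : SplitPar (S : Subgroup G) P₁)
    (hs₂ : SplitPar (S : Subgroup G) P₂) {F₁ F₂ : Type} [Field F₁] [Finite F₁] [CharP F₁ 2] [Field F₂] [Finite F₂]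
    [CharP F₂ 2] (o₁ : NatOver F₁ P₁ (zl (S : Subgroup G) P₁) (cv (S : Subgroup G) P₁))
    (o₂ : NatOver F₂ P₂ (zl (S : Subgroup G) P₂) (cv (S : Subgroup G) P₂)) :
    ∃ (K₁ N₂ K₂ : Subgroup G) (M₁ : RMod F₁ (vx (S : Subgroup G) P₁) K₁) (M₂ : RMod F₂ N₂ K₂) (k : G)
      (R : Subgroup G) (T : Sylow 2 G), N₂ = cj k (vx (S : Subgroup G) P₂) ∧
      Spl P₁ (zl (S : Subgroup G) P₁) (cv (S : Subgroup G) P₁) M₁ ∧
      Spl (cj k P₂) (cj k (zl (S : Subgroup G) P₂)) (cj k (cv (S : Subgroup G) P₂)) M₂ ∧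
      (T : Subgroup G) ≤ P₁ ∧ (T : Subgroup G) ≤ cj k P₂ ∧ (T : Subgroup G) ≤ normalizer (R : Set G) ∧
      MixedW M₁ M₂ R := by
  obtain ⟨K₁, M₁, s₁⟩ := exists_spl hG h.mp.star₁ o₁ hs₁
  obtain ⟨K₂, M₂, s₂⟩ := exists_spl hG h.mp.star₂ o₂ hs₂
  obtain ⟨y, hy1, hy2, hy3⟩ := exists_move S hG h.mp
  have hS₂ : ((y • S : Sylow 2 G) : Subgroup G) ≤ cj y P₂ := by
    rw [coe_smul_eq]; exact cj_mono h.mp.star₂.le
  have hn₁ := noSame_of h.mp.star₁ h.ne₁ (hno P₁)
  have hn₂ := (noSame_of h.mp.star₂ h.ne₂ (hno P₂)).conj y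
  obtain ⟨k, -, T, hT1, hT2, hT3, m⟩ := s₁.mixedW (fun K h1 h2 => char2_normalizer hG h1 h2) (s₂.conj y) S (y • S)
    h.mp.star₁.le hS₂ hy1 (by rw [coe_smul_eq]; exact hy2) hy3 hn₁ hn₂
  have e : ∀ X : Subgroup G, cj k (cj y X) = cj (k * y) X := fun X => (cj_mul k y X).symm
  have s₃ := (s₂.conj y).conj k
  rw [e P₂] at hT2
  rw [e P₂, e (zl (S : Subgroup G) P₂), e (cv (S : Subgroup G) P₂)] at s₃
  exact ⟨K₁, _, _, M₁, _, k * y, _, T, e _, s₁, s₃, hT1, hT2, hT3, m⟩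

/-- **The socket `Mixed4`**: there is no such pair for `|F| ≥ 4`. -/
theorem mixed4 {K : Cls.{u}} : Mixed4 K := by
  intro G _ _ hG _ S _ _ hS hs hno P₁ P₂ x h F _ _ _ o₁ h4
  obtain ⟨F₂, _, _, _, ⟨o₂⟩⟩ := (hS P₁ P₂ x h.mp).2
  obtain ⟨hs₁, hs₂⟩ := hs P₁ P₂ x h.mp
  obtain ⟨K₁, N₂, K₂, M₁, M₂, k, R, T, -, s₁, s₂, hT1, hT2, hT3, m⟩ :=
    exists_mixedW hG.char2 S hno h hs₁ hs₂ o₁ o₂
  exfalso
  apply h.ne₁
  rw [eq_bot_iff]
  intro d hd
  have h5 : d ∈ R := m.center_le h4 (hT1.trans s₁.PK) (hT2.trans s₂.PK) hT3 (fun t ht =>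
    (mem_centralizer_iff.1 (s₁.cen (hT1 ht)) d hd).symm)
  have h6 : d ∈ vx (S : Subgroup G) P₁ ⊓ cv (S : Subgroup G) P₁ := ⟨m.RV h5, hd⟩
  rwa [s₁.inf] at h6

end Cfsg.Agent.Omega.MixOne

end

section


/-!
# The socket `Mixed2` of II.0h1 (mixed non-free pairs, `q = 2`)
-/

set_option autoImplicit false
set_option linter.unusedSectionVars false

namespace Cfsg.Agent.Omega.MixOne

open Subgroup Cfsg Cfsg.Agent.ZN Cfsg.Agent.Omega.BTwo Cfsg.Agent.Omega.Mix
open Cfsg.Agent.Omega.MinPar Cfsg.Agent.Omega.Frame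
open Cfsg.Agent.Omega.FrameFF
open Cfsg.Agent.Omega.FrameLE (AllIn)
open Cfsg.Agent.Omega.HOne.Main (vx SplitPar AllSplit NonFree Mixed2)

universe u

/-- a group of order 2 -/
theorem exists_of_card_two {G : Type*} [Group G] {R : Subgroup G} (h : Nat.card R = 2) :
    ∃ r, r ≠ 1 ∧ ∀ g, g ∈ R ↔ g = 1 ∨ g = r := by
  obtain ⟨x, y, hxy, hun⟩ := Nat.card_eq_two_iff.1 h
  have key : ∀ z : R, z = x ∨ z = y := fun z => by
    have : z ∈ ({x, y} : Set R) := by rw [hun]; trivial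
    simpa using this
  rcases key 1 with h1 | h1
  · refine ⟨y, fun h2 => hxy ?_, fun g => ⟨fun hg => ?_, ?_⟩⟩
    · rw [← h1]; exact Subtype.ext h2.symm
    · rcases key ⟨g, hg⟩ with h2 | h2
      · left; rw [← h1] at h2; exact congrArg Subtype.val h2
      · right; exact congrArg Subtype.val h2
    · rintro (rfl | rfl)
      · exact one_mem _
      · exact y.2
  · refine ⟨x, fun h2 => hxy ?_, fun g => ⟨fun hg => ?_, ?_⟩⟩
    · rw [← h1]; exact Subtype.ext h2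
    · rcases key ⟨g, hg⟩ with h2 | h2
      · right; exact congrArg Subtype.val h2
      · left; rw [← h1] at h2; exact congrArg Subtype.val h2
    · rintro (rfl | rfl)
      · exact one_mem _
      · exact x.2

/-- `MixedW` for `|F| = 2` : `Z(T) ≤ R` or `|T| ≤ 16` -/
theorem MixedW.two_false {G : Type*} [Group G] [Finite G] {F₁ F₂ : Type*} [Field F₁] [Field F₂] [Finite F₁]
    [Finite F₂] [CharP F₁ 2] [CharP F₂ 2] {V₁ V₂ N₁ N₂ : Subgroup G} {M₁ : RMod F₁ V₁ N₁} {M₂ : RMod F₂ V₂ N₂}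
    {R : Subgroup G} (m : MixedW M₁ M₂ R) (h2 : Nat.card F₁ = 2) {S : Sylow 2 G} (h₁ : (S : Subgroup G) ≤ N₁)
    (h₂ : (S : Subgroup G) ≤ N₂) (h₃ : (S : Subgroup G) ≤ normalizer (R : Set G)) {z : G} (hzR : z ∉ R)
    (hz : ∀ s ∈ (S : Subgroup G), s * z = z * s) (hS : 16 < Nat.card S) : False := by
  obtain ⟨i, j, hi, hj, t⟩ := m.two h₁ h₂ h₃
  obtain ⟨w, hw, hR⟩ := m.line₁
  obtain ⟨r, hr1, hr⟩ := exists_of_card_two (R := R) (by rw [hR, M₁.card_line hw, h2])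
  have hF₂ : Nat.card F₂ = 2 := by rw [← m.card_eq, h2]
  have q : TwoQ V₁ V₂ (_root_.Cfsg.Agent.Omega.Mix.pt M₁) (fun i => _root_.Cfsg.Agent.Omega.Mix.LL V₂ R (_root_.Cfsg.Agent.Omega.Mix.pt M₁ i)) (fun i => _root_.Cfsg.Agent.Omega.Mix.LL V₁ R (_root_.Cfsg.Agent.Omega.Mix.pt M₁ i)) (_root_.Cfsg.Agent.Omega.Mix.pt M₂)
        (fun i => _root_.Cfsg.Agent.Omega.Mix.LL V₁ R (_root_.Cfsg.Agent.Omega.Mix.pt M₂ i)) (fun i => _root_.Cfsg.Agent.Omega.Mix.LL V₂ R (_root_.Cfsg.Agent.Omega.Mix.pt M₂ i)) i j S r :=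
    { t := t
      char := m.char
      r1 := hr1
      mem_R := by rw [hi]; exact hr
      c₁ := by rw [M₁.card_V, h2]; norm_num
      c₂ := by rw [M₂.card_V, hF₂]; norm_num
      W₁Q := by rw [hi]; exact m.C_le_QQ
      W₂Q := by rw [hi]; exact m.symm.C_le_QQ
      Q₁ := by rw [hi]; exact fun g hg b hb => m.QC hg hb
      Q₂ := by rw [hi]; exact fun g hg b hb => m.symm.QC hg hb
      ext := by rw [hi]; exact ⟨z, hzR, hz⟩ }
  exact q.false hS

/-- **The socket `Mixed2`** (no hypothesis on `K`) -/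
theorem mixed2 {K : Cls.{u}} : Mixed2 K := by
  intro G _ _ hG _ S _ _ hS hs hno P₁ P₂ x h F _ _ _ o₁ h2
  obtain ⟨F₂, _, _, _, ⟨o₂⟩⟩ := (hS P₁ P₂ x h.mp).2
  obtain ⟨hs₁, hs₂⟩ := hs P₁ P₂ x h.mp
  obtain ⟨K₁, N₂, K₂, M₁, M₂, k, R, T, -, s₁, s₂, hT1, hT2, hT3, m⟩ :=
    exists_mixedW hG.char2 S hno h hs₁ hs₂ o₁ o₂
  exfalso
  obtain ⟨⟨d, hd⟩, hd1⟩ := Subgroup.ne_bot_iff_exists_ne_one.1 h.ne₁
  have hd1' : d ≠ 1 := fun h => hd1 (Subtype.ext h)
  have hp : Fact (Nat.Prime 2) := ⟨Nat.prime_two⟩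
  have h32 : 16 < Nat.card T := by
    have e1 : (2 : ℕ) ^ 5 ∣ Nat.card G := Cfsg.Agent.Omega.Exits.dvd_card hG.rank
    have e2 : (2 : ℕ) ^ 5 ∣ Nat.card T := T.pow_dvd_card_of_pow_dvd_card e1
    have e3 := Nat.le_of_dvd Nat.card_pos e2
    omega
  refine m.two_false h2 (hT1.trans s₁.PK) (hT2.trans s₂.PK) hT3 (z := d) ?_ ?_ h32
  · intro h5
    apply hd1'
    have h6 : d ∈ vx (S : Subgroup G) P₁ ⊓ cv (S : Subgroup G) P₁ := ⟨m.RV h5, hd⟩
    rw [s₁.inf] at h6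
    exact mem_bot.1 h6
  · intro t ht
    exact (mem_centralizer_iff.1 (s₁.cen (hT1 ht)) d hd).symm

end Cfsg.Agent.Omega.MixOne

end

private theorem dce_9cfe9465d8a7 : _root_.True := by
  try have : _root_.True := by simp only [_root_.Cfsg.Agent.Omega.FrameFF.cv.eq_1]
  try have : _root_.True := by simp only [_root_.Cfsg.Agent.Omega.HOne.Main.vx.eq_1]
  exact _root_.True.intro
end

-- part: Mrg/Omega/HOne/SplitVQ
section
prune_inst 0x4000000000300000000000510200020540000000200470001f04003460282b3408042872088001c1010082a0400340020021000d00010000000000000011801800028000280480000200000003000000000000000000000000000000000041004000000000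
set_option linter.all false
open scoped Cfsg.Agent.FastGrp

section


/-!
# `V ≤ O₂(N_G(R))` for a split one-factor member of a mutual pair, `R` a line of `N = [V, O²(P)]`

* `le_o2_of_series` : `V ≤ T ∈ Syl₂`, `V` acts trivially on `Y / R` and on `R` (`R ≤ Y ≤ Z(O₂(H))` normal in `H`)
  and `[C_H(Y), V] ≤ O₂(H)` imply `V ≤ O₂(H)`;
* `le_QQ` : `V ≤ O₂(N_G(R))`, `R` a line of `N`, from `V_P ≤ O₂(C_G(Ω₁(Z(T))))`.
-/

set_option autoImplicit false
set_option linter.unusedSectionVars false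

namespace Cfsg.Agent.Omega.HOne

open Subgroup Cfsg Cfsg.Agent.ZN Cfsg.Agent.ZN.ChoiceSit Cfsg.Agent.Omega.MinPar
open Cfsg.Agent.Omega.FrameFF Cfsg.Agent.Lib.SL2Mat Cfsg.Agent.Omega.NatPair
open Cfsg.Agent.Omega.SQ1.FFOne (NatSec mem_norm_of syl_inf)
open Cfsg.Agent.MinSimple.VModule (oddGen oddGen_le mem_oddGen zl_comm zl_sq le_normalizer_zl le_normalizer_oddGen
  mem_zc)
open Cfsg.Agent.MinSimple.MinParabolic (IsMinPar)
open Cfsg.Agent.MinSimple
open Cfsg.Agent.ZN.CaseTwo (syl_of_sylow)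
open Cfsg.Agent.Omega.HOne.Main (vx SplitPar)
open Cfsg.Agent.Omega.Mix (RMod)
open Cfsg.Agent.Omega.NoFF.LinesPlug (oddGen_sup)

universe u

variable {G : Type u} [Group G]

section series

variable {H Y R : Subgroup G} (hYn : H ≤ normalizer (Y : Set G)) (hRn : H ≤ normalizer (R : Set G))

/-- the elements of `H` acting trivially on `R`, on `Y / R` and, modulo `O₂(H)`, on `C_H(Y)` -/
def serL (H Y R : Subgroup G) (_hYn : H ≤ normalizer (Y : Set G)) (hRn : H ≤ normalizer (R : Set G)) : Subgroup G where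
  carrier := {g | g ∈ H ∧ (∀ r ∈ R, g * r = r * g) ∧ (∀ y ∈ Y, g * y * g⁻¹ * y⁻¹ ∈ R) ∧
    ∀ e ∈ H, e ∈ centralizer (Y : Set G) → g * e * g⁻¹ * e⁻¹ ∈ o2 H}
  mul_mem' := by
    rintro g h ⟨hg, g1, g2, g3⟩ ⟨hh, h1, h2, h3⟩
    refine ⟨mul_mem hg hh, fun r hr => ?_, fun y hy => ?_, fun e he he' => ?_⟩
    · rw [mul_assoc, h1 r hr, ← mul_assoc, g1 r hr, mul_assoc]
    · have e1 : g * h * y * (g * h)⁻¹ * y⁻¹ = g * (h * y * h⁻¹ * y⁻¹) * g⁻¹ * (g * y * g⁻¹ * y⁻¹) := by group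
      rw [e1]
      exact mul_mem ((mem_normalizer_iff.1 (hRn hg) _).1 (h2 y hy)) (g2 y hy)
    · have e1 : g * h * e * (g * h)⁻¹ * e⁻¹ = g * (h * e * h⁻¹ * e⁻¹) * g⁻¹ * (g * e * g⁻¹ * e⁻¹) := by group
      rw [e1]
      exact mul_mem ((mem_normalizer_iff.1 (le_normalizer_o2 H hg) _).1 (h3 e he he')) (g3 e he he')
  one_mem' := ⟨one_mem H, fun r _ => by rw [one_mul, mul_one], fun y _ => by
    rw [one_mul, inv_one, mul_one, mul_inv_cancel]; exact one_mem R, fun e _ _ => by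
    rw [one_mul, inv_one, mul_one, mul_inv_cancel]; exact one_mem _⟩
  inv_mem' := by
    rintro g ⟨hg, g1, g2, g3⟩
    refine ⟨inv_mem hg, fun r hr => ?_, fun y hy => ?_, fun e he he' => ?_⟩
    · have := g1 r hr
      rw [inv_mul_eq_iff_eq_mul, ← mul_assoc, this, mul_inv_cancel_right]
    · have h1 := (mem_normalizer_iff.1 (hRn (inv_mem hg)) _).1 (inv_mem (g2 y hy))
      have e1 : g⁻¹ * (g * y * g⁻¹ * y⁻¹)⁻¹ * g⁻¹⁻¹ = g⁻¹ * y * g⁻¹⁻¹ * y⁻¹ := by group
      rwa [e1] at h1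
    · have h1 := (mem_normalizer_iff.1 (le_normalizer_o2 H (inv_mem hg)) _).1 (inv_mem (g3 e he he'))
      have e1 : g⁻¹ * (g * e * g⁻¹ * e⁻¹)⁻¹ * g⁻¹⁻¹ = g⁻¹ * e * g⁻¹⁻¹ * e⁻¹ := by group
      rwa [e1] at h1

theorem conj_mem_serL {h g : G} (hh : h ∈ H) (hg : g ∈ serL H Y R hYn hRn) :
    h * g * h⁻¹ ∈ serL H Y R hYn hRn := by
  obtain ⟨hg, g1, g2, g3⟩ := hg
  have hh' := inv_mem hh
  refine ⟨mul_mem (mul_mem hh hg) (inv_mem hh), fun r hr => ?_, fun y hy => ?_, fun e he he' => ?_⟩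
  · have h1 := (mem_normalizer_iff.1 (hRn hh') r).1 hr
    rw [inv_inv] at h1
    calc h * g * h⁻¹ * r = h * (g * (h⁻¹ * r * h)) * h⁻¹ := by group
      _ = h * ((h⁻¹ * r * h) * g) * h⁻¹ := by rw [g1 _ h1]
      _ = r * (h * g * h⁻¹) := by group
  · have h1 := (mem_normalizer_iff.1 (hYn hh') y).1 hy
    rw [inv_inv] at h1
    have h2 := (mem_normalizer_iff.1 (hRn hh) _).1 (g2 _ h1)
    have e1 : h * (g * (h⁻¹ * y * h) * g⁻¹ * (h⁻¹ * y * h)⁻¹) * h⁻¹ =
      h * g * h⁻¹ * y * (h * g * h⁻¹)⁻¹ * y⁻¹ := by group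
    rwa [e1] at h2
  · have h1 : h⁻¹ * e * h ∈ H := mul_mem (mul_mem hh' he) hh
    have h1' : h⁻¹ * e * h ∈ centralizer (Y : Set G) := by
      have h3 := BTwo.normalizer_le_normalizer_centralizer _ (hYn hh')
      have h4 := (mem_normalizer_iff.1 h3 e).1 he'
      rwa [inv_inv] at h4
    have h2 := (mem_normalizer_iff.1 (le_normalizer_o2 H hh) _).1 (g3 _ h1 h1')
    have e1 : h * (g * (h⁻¹ * e * h) * g⁻¹ * (h⁻¹ * e * h)⁻¹) * h⁻¹ =
      h * g * h⁻¹ * e * (h * g * h⁻¹)⁻¹ * e⁻¹ := by group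
    rwa [e1] at h2

/-- **a 2-subgroup acting trivially on a series is in `O₂`** -/
theorem le_o2_of_series [Finite G] (T : Sylow 2 G) {V : Subgroup G} (hTH : (T : Subgroup G) ≤ H)
    (hVT : V ≤ (T : Subgroup G)) (hR2 : ∀ r ∈ R, r * r = 1)
    (hYn : H ≤ normalizer (Y : Set G)) (hRn : H ≤ normalizer (R : Set G))
    (hVR : ∀ v ∈ V, ∀ r ∈ R, v * r = r * v)
    (hVY : ∀ v ∈ V, ∀ y ∈ Y, v * y * v⁻¹ * y⁻¹ ∈ R)
    (hE : ∀ v ∈ V, ∀ e ∈ H, e ∈ centralizer (Y : Set G) → v * e * v⁻¹ * e⁻¹ ∈ o2 H) : V ≤ o2 H := by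
  have hfact : Fact (Nat.Prime 2) := ⟨Nat.prime_two⟩
  set L := serL H Y R hYn hRn with hL
  have hLH : L ≤ H := fun g hg => hg.1
  have hVL : V ≤ L := fun v hv => ⟨hTH (hVT hv), hVR v hv, hVY v hv, hE v hv⟩
  have hQT : o2 H ≤ (T : Subgroup G) := VModule.o2_le_of_sylow T.isPGroup' (MinSimple.Basic.not_dvd_relIndex T hTH)
  -- odd elements of `L` centralise `Y`
  have hodd : ∀ x ∈ L, Odd (orderOf x) → x ∈ centralizer (Y : Set G) := by
    rintro x ⟨-, x1, x2, -⟩ hx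
    rw [mem_centralizer_iff]
    intro y hy
    set r := x * y * x⁻¹ * y⁻¹ with hr
    have hrR := x2 y hy
    have hxy : x * y * x⁻¹ = r * y := by rw [hr]; group
    have hpow : ∀ n : ℕ, x ^ n * y * (x ^ n)⁻¹ = r ^ n * y := by
      intro n
      induction n with
      | zero => simp
      | succ n ih =>
        have h1 : x * r ^ n = r ^ n * x := x1 _ (pow_mem hrR n)
        calc x ^ (n + 1) * y * (x ^ (n + 1))⁻¹ = x * (x ^ n * y * (x ^ n)⁻¹) * x⁻¹ := by rw [pow_succ']; group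
          _ = x * (r ^ n * y) * x⁻¹ := by rw [ih]
          _ = r ^ n * (x * y * x⁻¹) := by rw [← mul_assoc, h1]; group
          _ = r ^ (n + 1) * y := by rw [hxy, pow_succ]; group
    have h1 := hpow (orderOf x)
    rw [pow_orderOf_eq_one, one_mul, inv_one, mul_one] at h1
    have h2 : r ^ orderOf x = 1 := by
      nth_rewrite 1 [← one_mul y] at h1
      exact (mul_right_cancel h1).symm
    obtain ⟨j, hj⟩ := hx
    rw [hj, pow_add, pow_one, pow_mul, pow_two, hR2 r hrR, one_pow, one_mul] at h2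
    rw [h2, one_mul] at hxy
    rw [mul_inv_eq_iff_eq_mul] at hxy
    exact hxy.symm
  set TL : Subgroup G := (T : Subgroup G) ⊓ L with hTL
  have hsyl : Syl TL L := syl_inf (syl_of_sylow T hTH) hLH fun h hh n hn => conj_mem_serL hYn hRn hh hn
  -- odd elements of `L` normalise `T ∩ L`
  have hnorm : oddGen L ≤ normalizer (TL : Set G) := by
    rw [VModule.oddGen_def, closure_le]
    rintro x ⟨hx, ho⟩
    refine mem_norm_of fun t ht => ?_
    have hxL : x ∈ L := hx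
    have htL : t ∈ L := ht.2
    have h0 : t⁻¹ ∈ L := inv_mem htL
    have h1 := h0.2.2.2 x (hLH hx) (hodd x hx ho)
    rw [inv_inv] at h1
    refine mem_inf.2 ⟨?_, L.mul_mem (L.mul_mem hxL htL) (L.inv_mem hxL)⟩
    have h2 := mul_mem ht.1 (hQT h1)
    have e : t * (t⁻¹ * x * t * x⁻¹) = x * t * x⁻¹ := by group
    rwa [e] at h2
  have hLn : L ≤ normalizer (TL : Set G) := by
    conv_lhs => rw [← oddGen_sup hsyl.1 (syl_not_dvd hsyl)]
    exact sup_le hnorm le_normalizer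
  refine (le_inf hVT hVL).trans ?_
  exact BTwo.le_O2_of_isSubnormal (inf_le_right.trans hLH) hsyl.2.1
    (BTwo.subnormal_step hsyl.1 (BTwo.subnormal_step hLH (BTwo.subnormal_self H)
      fun h hh n hn => conj_mem_serL hYn hRn hh hn)
      fun b hb a ha => (mem_normalizer_iff.1 (hLn hb) a).1 ha)

end series

/-! ### Change of the Sylow subgroup -/

section change

variable [Finite G] (S T : Sylow 2 G) {P : Subgroup G}

theorem exists_cj_eq (hS : (S : Subgroup G) ≤ P) (hT : (T : Subgroup G) ≤ P) :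
    ∃ p ∈ P, ChoiceBase.cj p (S : Subgroup G) = T :=
  syl_conj (syl_of_sylow S hS) (syl_of_sylow T hT)

theorem cj_self_of_mem {p : G} (hp : p ∈ P) : ChoiceBase.cj p P = P :=
  ChoiceBase.cj_eq_of_mem_normalizer (le_normalizer hp)

theorem zl_eq (hS : (S : Subgroup G) ≤ P) (hT : (T : Subgroup G) ≤ P) :
    zl (T : Subgroup G) P = zl (S : Subgroup G) P := by
  obtain ⟨p, hp, e⟩ := exists_cj_eq S T hS hT
  have h1 := IId.zl_cj p (S : Subgroup G) P
  rw [e, cj_self_of_mem hp] at h1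
  rw [h1]
  exact ChoiceBase.cj_eq_of_mem_normalizer (le_normalizer_zl _ _ hp)

theorem zc_le_of (hS : (S : Subgroup G) ≤ P) (hT : (T : Subgroup G) ≤ P) :
    zc (T : Subgroup G) ≤ zl (S : Subgroup G) P := by
  rw [← zl_eq S T hS hT]
  exact VModule.zc_le_zl _ _

theorem zc_cj (p : G) (A : Subgroup G) : zc (ChoiceBase.cj p A) = ChoiceBase.cj p (zc A) :=
  zc_map (MulAut.conj p).toMonoidHom (MulAut.conj p).injective A

/-- `D ≤ Z(T)` for all Sylow subgroups `T` of `P` -/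
theorem cv_le_zc_of (hG : IsCharacteristicTwoType G) (h : IsParS (S : Subgroup G) P) {F : Type} [Field F] [CharP F 2]
    (M : NatOver F P (zl (S : Subgroup G) P) (cv (S : Subgroup G) P)) (hs : SplitPar (S : Subgroup G) P)
    (hT : (T : Subgroup G) ≤ P) : cv (S : Subgroup G) P ≤ zc (T : Subgroup G) := by
  obtain ⟨p, hp, e⟩ := exists_cj_eq S T h.le hT
  have h1 := ChoiceBase.cj_mono p (cv_le_zc hG S h M hs)
  rwa [ChoiceBase.cj_eq_of_mem_normalizer (le_normalizer_cv _ _ hp), ← zc_cj, e] at h1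

end change

/-! ### The lines of `N` -/

section lines

theorem exists_two {F : Type*} [Field F] {w x y : Fin 2 → F} (h1 : dt w x ≠ 0) (h2 : dt w y ≠ 0) :
    ∃ (B : Matrix.SpecialLinearGroup (Fin 2) F) (c : F), c ≠ 0 ∧ ap B w = c • w ∧ ap B x = y := by
  obtain ⟨c, hc⟩ : ∃ c, c = dt w x * (dt w y)⁻¹ := ⟨_, rfl⟩
  have hc0 : c ≠ 0 := by rw [hc]; exact mul_ne_zero h1 (inv_ne_zero h2)
  have h3 : dt (c • w) y = dt w x := by
    rw [BTwo.dt_smul_left, hc, mul_assoc, inv_mul_cancel₀ h2, mul_one]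
  obtain ⟨D, hD1, hD2⟩ := BTwo.exists_basis h1
  obtain ⟨D', hD1', hD2'⟩ := BTwo.exists_basis (w := c • w) (u := y) (by rw [h3]; exact h1)
  refine ⟨D' * D⁻¹, c, hc0, ?_, ?_⟩
  · rw [ap_mul]
    nth_rewrite 1 [← hD1]
    rw [ap_inv_ap, hD1']
  · have h4 : x = dt w x • ap D ![0, 1] := by rw [hD2, smul_smul, mul_inv_cancel₀ h1, one_smul]
    rw [ap_mul]
    nth_rewrite 1 [h4]
    rw [ap_smul, ap_inv_ap, ap_smul, hD2', h3, smul_smul, mul_inv_cancel₀ h1, one_smul]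

variable {F : Type*} [Field F] {V N : Subgroup G} (M : RMod F V N)

/-- an element inducing `B` with `B w = c w` normalises the line of `w` -/
theorem mem_normalizer_line_of {w : Fin 2 → F} {l : G} {B : Matrix.SpecialLinearGroup (Fin 2) F} (hl : M.Ind l B)
    {c : F} (hc : c ≠ 0) (hB : ap B w = c • w) : l ∈ normalizer ((M.line w : Subgroup G) : Set G) := by
  rw [← cj_eq_iff, Mix.RMod.cj_line_of_ind M hl, hB, M.line_smul hc]

end lines

/-! ### `V ≤ O₂(N_G(R))` -/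

section vq

variable [Finite G] (hG : IsCharacteristicTwoType G) (S : Sylow 2 G) {P : Subgroup G}
  (h : IsParS (S : Subgroup G) P) {F : Type} [Field F] [Finite F] [CharP F 2]
  (M : NatOver F P (zl (S : Subgroup G) P) (cv (S : Subgroup G) P)) (hs : SplitPar (S : Subgroup G) P)

include hG h in
theorem zl_le_self : zl (S : Subgroup G) P ≤ (S : Subgroup G) :=
  ((h.isLoc.zl_le S hG).trans (VModule.zc_le _)).trans (h.isLoc.o2_le S)

include hG h in
theorem zl_sq' {v : G} (hv : v ∈ zl (S : Subgroup G) P) : v * v = 1 := by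
  have := VModule.zc_sq _ _ (h.isLoc.zl_le S hG hv)
  rwa [pow_two] at this

include hG h in
theorem zl_comm' {v w : G} (hv : v ∈ zl (S : Subgroup G) P) (hw : w ∈ zl (S : Subgroup G) P) : v * w = w * v :=
  VModule.zc_comm _ _ (h.isLoc.zl_le S hG hv) _ (h.isLoc.zl_le S hG hw)

end vq

end Cfsg.Agent.Omega.HOne

end

section


/-!
# Split mutual pairs: `|C_V(O²(P))| = |C_{V'}(O²(P'))|` (socket `Both`)

`T ≤ P` a Sylow 2-subgroup of `G` which normalises the line `R`: `Ω₁(Z(T)) = C_R(T) × D`.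
-/

set_option autoImplicit false
set_option linter.unusedSectionVars false

namespace Cfsg.Agent.Omega.HOne

open Subgroup Cfsg Cfsg.Agent.ZN Cfsg.Agent.Omega.MinPar Cfsg.Agent.Omega.Frame
open Cfsg.Agent.Omega.FrameFF Cfsg.Agent.Lib.SL2Mat
open Cfsg.Agent.MinSimple.VModule (mem_zc)
open Cfsg.Agent.MinSimple
open Cfsg.Agent.Omega.HOne.Main (vx SplitPar Both)
open Cfsg.Agent.Omega.Mix (RMod RMutual)
open Cfsg.Agent.Omega.MixOne (Spl exists_spl exists_move)
open Cfsg.Agent.Omega.BTwo (cj mem_cj conj_mem_cj cj_mono)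

universe u

variable {G : Type u} [Group G] [Finite G]

theorem card_zc {F : Type*} [Field F] [Finite F] [CharP F 2] {P V D N K : Subgroup G} {M : RMod F N K}
    (s : Spl P V D M) (T : Sylow 2 G) (hT : (T : Subgroup G) ≤ P) {w : Fin 2 → F} (hw : w ≠ 0)
    (hTR : (T : Subgroup G) ≤ normalizer ((M.line w : Subgroup G) : Set G))
    (hzV : zc (T : Subgroup G) ≤ V) (hD : D ≤ zc (T : Subgroup G)) :
    Nat.card (zc (T : Subgroup G)) = Nat.card ↥(zc (T : Subgroup G) ⊓ M.line w) * Nat.card D := by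
  rw [← Nat.card_prod]
  refine (Nat.card_congr (Equiv.ofBijective (fun p : ↥(zc (T : Subgroup G) ⊓ M.line w) × D =>
    (⟨(p.1 : G) * p.2, mul_mem p.1.2.1 (hD p.2.2)⟩ : zc (T : Subgroup G))) ⟨?_, ?_⟩)).symm
  · rintro ⟨⟨r, hr⟩, ⟨d, hd⟩⟩ ⟨⟨r', hr'⟩, ⟨d', hd'⟩⟩ h
    have h1 : r * d = r' * d' := congrArg Subtype.val h
    have h2 : r'⁻¹ * r = d' * d⁻¹ := by
      rw [inv_mul_eq_iff_eq_mul, ← mul_assoc, ← h1, mul_inv_cancel_right]
    have h3 : r'⁻¹ * r ∈ N ⊓ D := mem_inf.2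
      ⟨mul_mem (inv_mem (M.line_le w (mem_inf.1 hr').2)) (M.line_le w (mem_inf.1 hr).2), by
        rw [h2]; exact mul_mem hd' (inv_mem hd)⟩
    rw [s.inf, mem_bot, inv_mul_eq_one] at h3
    subst h3
    have h4 := mul_left_cancel h1
    subst h4
    rfl
  · rintro ⟨z, hz⟩
    obtain ⟨n, hn, d, hd, rfl⟩ := s.dec z (hzV hz)
    have hn' : n ∈ zc (T : Subgroup G) := by
      have := mul_mem hz (inv_mem (hD hd))
      rwa [mul_inv_cancel_right] at this
    have h1 : n ∈ M.line w := M.cent_le_of_sylow T (hT.trans s.PK) hw hTR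
      (mem_inf.2 ⟨mem_centralizer_iff.2 fun t ht => (mem_zc.1 hn').2.1 t ht, hn⟩)
    exact ⟨⟨⟨n, mem_inf.2 ⟨hn', h1⟩⟩, ⟨d, hd⟩⟩, rfl⟩

/-- **the socket `Both`** -/
theorem both (K : Cls.{u}) : Both K := by
  intro G _ _ hG _ S _ _ hS hs P₁ P₂ x hm hfree
  obtain ⟨⟨F₁, _, _, _, ⟨o₁⟩⟩, F₂, _, _, _, ⟨o₂⟩⟩ := hS P₁ P₂ x hm
  obtain ⟨hs₁, hs₂⟩ := hs P₁ P₂ x hm
  obtain ⟨K₁, M₁, s₁⟩ := exists_spl hG.char2 hm.star₁ o₁ hs₁
  obtain ⟨K₂, M₂, s₂⟩ := exists_spl hG.char2 hm.star₂ o₂ hs₂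
  obtain ⟨y, hy1, hy2, v, hv, w, hw, hvw⟩ := exists_move S hG.char2 hm
  have s₂' := s₂.conj y
  have hS₁P : (S : Subgroup G) ≤ P₁ := hm.star₁.le
  have hS₂P : ((y • S : Sylow 2 G) : Subgroup G) ≤ cj y P₂ := by
    rw [Mix.coe_smul_eq]; exact cj_mono hm.star₂.le
  -- `N₁`, `N₂` do not commute
  obtain ⟨n, hn, d, hd, rfl⟩ := s₁.dec v hv
  obtain ⟨n', hn', d', hd', rfl⟩ := s₂'.dec w hw
  have c1 : ∀ z ∈ cj y (zl (S : Subgroup G) P₂), ∀ d ∈ cv (S : Subgroup G) P₁, d * z = z * d := fun z hz d hd =>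
    mem_centralizer_iff.1 (s₁.cen (hS₁P (hy1 hz))) d hd
  have c2 : ∀ z ∈ zl (S : Subgroup G) P₁, ∀ d ∈ cj y (cv (S : Subgroup G) P₂), d * z = z * d := fun z hz d hd => by
    refine mem_centralizer_iff.1 (s₂'.cen (hS₂P ?_)) d hd
    rw [Mix.coe_smul_eq]; exact hy2 hz
  have hnn : n * n' ≠ n' * n := by
    intro h
    apply hvw
    have e1 := c1 _ hw d hd
    have e2 := c2 n (s₁.NV hn) d' hd'
    calc n * d * (n' * d') = n * (d * (n' * d')) := by group
      _ = n * (n' * d' * d) := by rw [e1]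
      _ = n * n' * d' * d := by group
      _ = n' * (n * d') * d := by rw [h]; group
      _ = n' * (d' * n) * d := by rw [e2]
      _ = n' * d' * (n * d) := by group
  have hmut : RMutual (vx (S : Subgroup G) P₁) (cj y (vx (S : Subgroup G) P₂)) K₁ (cj y K₂) :=
    ⟨(s₂'.NV.trans hy1).trans (hS₁P.trans s₁.PK), (s₁.NV.trans hy2).trans (by
      have := hS₂P.trans s₂'.PK
      rwa [Mix.coe_smul_eq] at this), n, hn, n', hn', hnn⟩
  obtain ⟨-, u, u', hu, hu', hl, hl'⟩ := Mix.pair M₁ (M₂.conj y) hmut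
  obtain ⟨T₁, hT₁P, hT₁R⟩ := s₁.exists_sylow S hS₁P hu.ne
  obtain ⟨T₂, hT₂P, hT₂R⟩ := s₂'.exists_sylow (y • S) hS₂P hu'.ne
  have hz₁ : zc (T₁ : Subgroup G) ≤ zl (S : Subgroup G) P₁ := zc_le_of S T₁ hS₁P hT₁P
  have hD₁ : cv (S : Subgroup G) P₁ ≤ zc (T₁ : Subgroup G) := cv_le_zc_of S T₁ hG.char2 hm.star₁ o₁ hs₁ hT₁P
  -- the same for `P₂^y`
  have ecj : ∀ X : Subgroup G, cj y X = ChoiceBase.cj y X := fun X => rfl
  have hsy : ((y • S : Sylow 2 G) : Subgroup G) = ChoiceBase.cj y (S : Subgroup G) := Mix.coe_smul_eq y S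
  have hz₂ : zc (T₂ : Subgroup G) ≤ cj y (zl (S : Subgroup G) P₂) := by
    have h1 := zc_le_of (y • S) T₂ hS₂P hT₂P
    rw [hsy, ecj P₂, IId.zl_cj] at h1
    exact h1
  have hD₂ : cj y (cv (S : Subgroup G) P₂) ≤ zc (T₂ : Subgroup G) := by
    -- move `T₂` into `P₂`
    have h2 : (((y⁻¹ • T₂ : Sylow 2 G)) : Subgroup G) ≤ P₂ := by
      rw [Mix.coe_smul_eq]
      have := cj_mono (g := y⁻¹) hT₂P
      rwa [BTwo.cj_inv_cj] at this
    have h3 := cv_le_zc_of S (y⁻¹ • T₂) hG.char2 hm.star₂ o₂ hs₂ h2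
    have h4 : (((y⁻¹ • T₂ : Sylow 2 G)) : Subgroup G) = ChoiceBase.cj y⁻¹ (T₂ : Subgroup G) := Mix.coe_smul_eq _ _
    rw [h4, zc_cj] at h3
    have h5 := ChoiceBase.cj_mono y h3
    rw [ChoiceBase.cj_cj_inv] at h5
    exact h5
  have k₁ := card_zc s₁ T₁ hT₁P hu.ne hT₁R hz₁ hD₁
  have k₂ := card_zc s₂' T₂ hT₂P hu'.ne hT₂R hz₂ hD₂
  obtain ⟨R, hR⟩ : ∃ R, R = vx (S : Subgroup G) P₁ ⊓ cj y (vx (S : Subgroup G) P₂) := ⟨_, rfl⟩
  have hl₁ : R = M₁.line u := hR.trans hl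
  have hl₂ : R = (M₂.conj y).line u' := hR.trans hl'
  rw [← hl₁] at k₁ hT₁R
  rw [← hl₂] at k₂ hT₂R
  obtain ⟨k, hk, hkT⟩ := Mix.exists_conj_eq T₂ T₁ hT₂R hT₁R
  have e1 : zc (T₁ : Subgroup G) = cj k (zc (T₂ : Subgroup G)) := by
    rw [hkT]; exact zc_cj k _
  have e2 : zc (T₁ : Subgroup G) ⊓ R = cj k (zc (T₂ : Subgroup G) ⊓ R) := by
    rw [BTwo.cj_inf, ← e1, BTwo.cj_eq_self_iff.2 hk]
  have hcard : ∀ X : Subgroup G, Nat.card (cj k X) = Nat.card X := fun X => BTwo.card_cj k X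
  rw [e2, hcard] at k₁
  rw [e1, hcard, k₂] at k₁
  have hpos : 0 < Nat.card ↥(zc (T₂ : Subgroup G) ⊓ R) := Nat.card_pos
  have h5 := Nat.eq_of_mul_eq_mul_left hpos k₁
  rw [BTwo.card_cj, show cv (S : Subgroup G) P₂ = ⊥ from hfree, card_bot] at h5
  exact Subgroup.card_eq_one.1 h5.symm

end Cfsg.Agent.Omega.HOne

end

section


/-!
# The normal form of a minimal non-free mutual pair of one type (socket `NormH`)

LEMMA NORM (helper989) for `N = [V_P, O²(P)]`: either all of `N_G(N)` normalises the `SL₂(F)`, or `|F| = 4` and `N_G(N)`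
fuses the lines with all the other subgroups of order 4 (`A₇` on `2⁴`).  In the second case there is `P' ∈ P*(S)`,
`P' ≤ P`, with `V_{P'} = L × C_V(O²(P))`, `L` the `S`-invariant line, and a mutual pair of type `(P', P')`.
-/

set_option autoImplicit false
set_option linter.unusedSectionVars false

namespace Cfsg.Agent.Omega.HOne

open Subgroup Cfsg Cfsg.Agent.ZN Cfsg.Agent.Omega.MinPar Cfsg.Agent.Omega.Frame
open Cfsg.Agent.Omega.FrameFF Cfsg.Agent.Lib.SL2Mat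
open Cfsg.Agent.MinSimple.VModule (mem_zc oddGen oddGen_le le_normalizer_zl)
open Cfsg.Agent.MinSimple
open Cfsg.Agent.Omega.HOne.Main (vx SplitPar NonFree Same NormH)
open Cfsg.Agent.Omega.Mix (RMod RMutual)
open Cfsg.Agent.Omega.MixOne (Spl exists_spl exists_move)
open Cfsg.Agent.Omega.NatPair (PreMod NatMod ap ap_smul)
open Cfsg.Agent.Omega.BTwo (cj mem_cj conj_mem_cj cj_mono QQ)
open scoped Pointwise commutatorElement

universe u

variable {G : Type u} [Group G] [Finite G]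

/-! ### Subgroups of order four -/

theorem four_le {L Y : Subgroup G} (h4 : Nat.card L = 4) {a b : G} (ha : a ∈ L) (hb : b ∈ L) (ha1 : a ≠ 1)
    (hb1 : b ≠ 1) (hab : a ≠ b) (haY : a ∈ Y) (hbY : b ∈ Y) : L ≤ Y := by
  have h1 : 3 ≤ Nat.card ↥(L ⊓ Y) := by
    have h2 : ({1, a, b} : Set G).ncard = 3 := by
      rw [Set.ncard_insert_of_notMem (by simp [Ne.symm ha1, Ne.symm hb1]), Set.ncard_pair hab]
    rw [← h2, ← SetLike.coe_sort_coe, Nat.card_coe_set_eq]
    refine Set.ncard_le_ncard ?_ (Set.toFinite _)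
    rintro x (rfl | rfl | rfl)
    · exact one_mem _
    · exact ⟨ha, haY⟩
    · exact ⟨hb, hbY⟩
  have h2 : Nat.card ↥(L ⊓ Y) ∣ 4 := h4 ▸ card_dvd_of_le inf_le_left
  have h3 : Nat.card ↥(L ⊓ Y) = 4 := by
    have h5 : Nat.card ↥(L ⊓ Y) ≤ 4 := Nat.le_of_dvd (by norm_num) h2
    interval_cases h : Nat.card ↥(L ⊓ Y)
    · norm_num at h2
    · rfl
  have h4' := Subgroup.eq_of_le_of_card_ge (inf_le_left : L ⊓ Y ≤ L) (by rw [h3, h4])
  exact inf_eq_left.1 h4'

theorem four_mem {L : Subgroup G} (h4 : Nat.card L = 4) {a b : G} (ha : a ∈ L) (hb : b ∈ L) (ha1 : a ≠ 1)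
    (hb1 : b ≠ 1) (hab : a ≠ b) (hc : a * b = b * a) (ha2 : a * a = 1) (hb2 : b * b = 1) {x : G} (hx : x ∈ L) :
    x = 1 ∨ x = a ∨ x = b ∨ x = a * b := by
  -- the subgroup `{1, a, b, ab}`
  let Y : Subgroup G :=
    { carrier := {x | x = 1 ∨ x = a ∨ x = b ∨ x = a * b}
      mul_mem' := by
        have e1 : a * (a * b) = b := by rw [← mul_assoc, ha2, one_mul]
        have e2 : b * (a * b) = a := by rw [hc, ← mul_assoc, hb2, one_mul]
        have e3 : a * b * a = b := by rw [hc, mul_assoc, ha2, mul_one]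
        have e4 : a * b * b = a := by rw [mul_assoc, hb2, mul_one]
        have e5 : a * b * (a * b) = 1 := by rw [← mul_assoc, e3, hb2]
        rintro x y (rfl | rfl | rfl | rfl) (rfl | rfl | rfl | rfl)
        · left; rw [one_mul]
        · right; left; rw [one_mul]
        · right; right; left; rw [one_mul]
        · right; right; right; rw [one_mul]
        · right; left; rw [mul_one]
        · left; exact ha2
        · right; right; right; rfl
        · right; right; left; exact e1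
        · right; right; left; rw [mul_one]
        · right; right; right; exact hc.symm
        · left; exact hb2
        · right; left; exact e2
        · right; right; right; rw [mul_one]
        · right; right; left; exact e3
        · right; left; exact e4
        · left; exact e5
      one_mem' := Or.inl rfl
      inv_mem' := by
        have e5 : (a * b)⁻¹ = a * b := by
          rw [inv_eq_iff_mul_eq_one, mul_assoc, ← mul_assoc b, ← hc, mul_assoc a b b, hb2, mul_one, ha2]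
        rintro x (rfl | rfl | rfl | rfl)
        · left; rw [inv_one]
        · right; left; rw [inv_eq_iff_mul_eq_one]; exact ha2
        · right; right; left; rw [inv_eq_iff_mul_eq_one]; exact hb2
        · right; right; right; exact e5 }
  have h1 : L ≤ Y := four_le h4 ha hb ha1 hb1 hab (Or.inr (Or.inl rfl)) (Or.inr (Or.inr (Or.inl rfl)))
  exact h1 hx

/-! ### The pre-natural module -/

section pre

variable {S P : Subgroup G} {F : Type} [Field F] [CharP F 2]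
  (M : NatOver F P (zl S P) (cv S P)) (hs : SplitPar S P)

/-- `N = F²` -/
noncomputable def preMod : PreMod F (vx S P) where
  e := (rmod M hs).e
  e_add := (rmod M hs).e_add
  e_inj := (rmod M hs).e_inj
  mem_iff := (rmod M hs).mem_iff
  lift := (rmod M hs).lift

theorem line_preMod (w : Fin 2 → F) : (preMod M hs).line w = (rmod M hs).line w := rfl

theorem nm_of_mem {s : G} (hs' : s ∈ P) : (preMod M hs).Nm s := fun h A hA =>
  (rmod M hs).norm s (le_NP hs') h A hA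

end pre

/-! ### `[C_H(Y), V] ≤ O₂(H)` -/

/-- `V ≤ O₂(C_G(Ω₁(Z(T))))`, `T ≤ H`, `Y = ⟨Ω₁(Z(T))^H⟩`: `[V, C_H(Y)] ≤ O₂(H)` -/
theorem comm_mem_o2 {T H V : Subgroup G} (hVH : V ≤ H) (hI : V ≤ o2 (centralizer (zc T : Set G))) {v e : G}
    (hv : v ∈ V) (he : e ∈ H) (hec : e ∈ centralizer (zl T H : Set G)) : v * e * v⁻¹ * e⁻¹ ∈ o2 H := by
  set E : Subgroup G := H ⊓ centralizer (zl T H : Set G) with hE
  have hEH : E ≤ H := inf_le_left
  have hEn : H ≤ normalizer (E : Set G) :=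
    (le_inf le_normalizer ((le_normalizer_zl T H).trans (BTwo.normalizer_le_normalizer_centralizer _))).trans
      inf_normalizer_le_normalizer_inf
  have hEC : E ≤ centralizer (zc T : Set G) :=
    inf_le_right.trans (centralizer_le (VModule.zc_le_zl _ _))
  have heE : e ∈ E := ⟨he, hec⟩
  have h1 : v * e * v⁻¹ * e⁻¹ ∈ E := mul_mem ((mem_normalizer_iff.1 (hEn (hVH hv)) e).1 heE) (inv_mem heE)
  have h2 : v * e * v⁻¹ * e⁻¹ ∈ o2 (centralizer (zc T : Set G)) := by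
    have h3 : e * v⁻¹ * e⁻¹ ∈ o2 (centralizer (zc T : Set G)) :=
      (mem_normalizer_iff.1 (VModule.le_normalizer_o2 _ (hEC heE)) _).1 (inv_mem (hI hv))
    have e1 : v * e * v⁻¹ * e⁻¹ = v * (e * v⁻¹ * e⁻¹) := by group
    rw [e1]
    exact mul_mem (hI hv) h3
  have h3 : E ⊓ o2 (centralizer (zc T : Set G)) ≤ o2 H := by
    refine BTwo.le_O2_of_isSubnormal (inf_le_left.trans hEH)
      ((BTwo.O2_isPGroup (centralizer (zc T : Set G))).to_le inf_le_right)
      (BTwo.subnormal_step inf_le_left (BTwo.subnormal_step hEH (BTwo.subnormal_self H)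
        fun h hh n hn => (mem_normalizer_iff.1 (hEn hh) n).1 hn) ?_)
    rintro b hb a ⟨ha1, ha2⟩
    exact mem_inf.2 ⟨E.mul_mem (E.mul_mem hb ha1) (E.inv_mem hb),
      (mem_normalizer_iff.1 (VModule.le_normalizer_o2 _ (hEC hb)) a).1 ha2⟩
  exact h3 ⟨h1, h2⟩

/-! ### The exceptional case -/

section exc

variable (S : Sylow 2 G) {P : Subgroup G} {F : Type} [Field F] [Finite F] [CharP F 2]
  (M : NatOver F P (zl (S : Subgroup G) P) (cv (S : Subgroup G) P)) (hs : SplitPar (S : Subgroup G) P)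

/-- the data of the exceptional case: `L` the line of `w₀`, normalised by `S`, `C_N(S) = {1, r} ≤ L` -/
structure ExcD (w₀ : Fin 2 → F) (r : G) : Prop where
  card : Nat.card F = 4
  ne : w₀ ≠ 0
  SL : (S : Subgroup G) ≤ normalizer (((rmod M hs).line w₀ : Subgroup G) : Set G)
  rL : r ∈ (rmod M hs).line w₀
  r1 : r ≠ 1
  rS : ∀ s ∈ (S : Subgroup G), s * r = r * s
  fix : ∀ n ∈ vx (S : Subgroup G) P, (∀ s ∈ (S : Subgroup G), s * n = n * s) → n = 1 ∨ n = r
  fuse : ∀ ρ ∈ vx (S : Subgroup G) P, ρ ≠ 1 → ∀ v ∈ vx (S : Subgroup G) P,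
    ∃ a ∈ normalizer (vx (S : Subgroup G) P : Set G), a * r * a⁻¹ = ρ ∧ v ∈ cj a ((rmod M hs).line w₀)

/-- an element of `N(N)` normalising the line, which moves `r` to `r'` -/
theorem exists_torus_move {w₀ : Fin 2 → F} (hw : w₀ ≠ 0) {r r' : G} (hr : r ∈ (rmod M hs).line w₀) (hr1 : r ≠ 1)
    (hr' : r' ∈ (rmod M hs).line w₀) (hr1' : r' ≠ 1) :
    ∃ B : Matrix.SpecialLinearGroup (Fin 2) F, (∃ c : F, c ≠ 0 ∧ ap B w₀ = c • w₀) ∧
      ∀ l, (rmod M hs).Ind l B → l * r * l⁻¹ = r' := by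
  obtain ⟨c₀, rfl⟩ := hr
  obtain ⟨c, rfl⟩ := hr'
  have hc₀ : c₀ ≠ 0 := by
    rintro rfl
    rw [zero_smul, (rmod M hs).e_zero] at hr1
    exact hr1 rfl
  have hc : c ≠ 0 := by
    rintro rfl
    rw [zero_smul, (rmod M hs).e_zero] at hr1'
    exact hr1' rfl
  obtain ⟨l, B, hl, hB⟩ := (rmod M hs).exists_torus hw (div_ne_zero hc hc₀)
  refine ⟨B, ⟨_, div_ne_zero hc hc₀, hB⟩, fun l hl => ?_⟩
  rw [hl, ap_smul, hB, smul_smul, mul_div_cancel₀ _ hc₀]

theorem excD_of (X : (preMod M hs).Exc (S : Subgroup G)) : ∃ w₀ r, ExcD S M hs w₀ r := by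
  obtain ⟨w₀, hw₀, hSL, hle, hc⟩ := X.point
  rw [line_preMod] at hSL hle
  obtain ⟨⟨r, hr⟩, hr1, hru⟩ := (Nat.card_eq_two_iff' (1 : ↥(vx (S : Subgroup G) P ⊓ centralizer ((S : Subgroup G) : Set G)))).1 hc
  have hr1' : r ≠ 1 := fun h => hr1 (Subtype.ext h)
  refine ⟨w₀, r, X.card, hw₀, hSL, hle hr, hr1', fun s hs' => mem_centralizer_iff.1 hr.2 s hs', ?_, ?_⟩
  · intro n hn hnS
    by_cases hn1 : n = 1
    · exact Or.inl hn1
    · right
      have h1 := hru ⟨n, hn, mem_centralizer_iff.2 fun s hs' => hnS s hs'⟩ fun h => hn1 (congrArg Subtype.val h)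
      exact congrArg Subtype.val h1
  · -- fusion
    intro ρ hρ hρ1 v hv
    obtain ⟨x, rfl⟩ := ((rmod M hs).mem_iff ρ).1 hρ
    have hx : x ≠ 0 := fun h => hρ1 (by rw [h, (rmod M hs).e_zero])
    obtain ⟨A, hA⟩ := NatPair.exists_ap hw₀ hx
    obtain ⟨k, hk⟩ := (rmod M hs).lift A
    have hk' : (rmod M hs).Ind k A := hk
    have hkL : cj k ((rmod M hs).line w₀) = (rmod M hs).line x := by
      have := Mix.RMod.cj_line_of_ind (rmod M hs) hk' w₀
      rw [hA] at this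
      exact this
    have hkN : k ∈ normalizer (vx (S : Subgroup G) P : Set G) := NP_le ((rmod M hs).mem_normalizer hk')
    have hρl : (rmod M hs).e x ∈ (rmod M hs).line x := ⟨1, by rw [one_smul]⟩
    have hex : ∃ a ∈ normalizer (vx (S : Subgroup G) P : Set G), (rmod M hs).e x ∈ cj a ((rmod M hs).line w₀) ∧
        v ∈ cj a ((rmod M hs).line w₀) := by
      by_cases hvl : v ∈ (rmod M hs).line x
      · exact ⟨k, hkN, by rw [hkL]; exact hρl, by rw [hkL]; exact hvl⟩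
      · obtain ⟨g, hg, h1, h2⟩ := X.fuse x hx _ hρl hρ1 v hv hvl
        refine ⟨g * k, mul_mem hg hkN, ?_, ?_⟩
        · rw [BTwo.cj_mul, hkL]; exact h1
        · rw [BTwo.cj_mul, hkL]; exact h2
    obtain ⟨a, ha, h1, h2⟩ := hex
    rw [mem_cj] at h1
    have h3 : a⁻¹ * (rmod M hs).e x * a ≠ 1 := by
      intro h
      apply hρ1
      calc (rmod M hs).e x = a * (a⁻¹ * (rmod M hs).e x * a) * a⁻¹ := by group
        _ = 1 := by rw [h]; group
    obtain ⟨B, ⟨c, hc0, hB⟩, hB'⟩ := exists_torus_move S M hs hw₀ (hle hr) hr1' h1 h3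
    obtain ⟨l, hl⟩ := (rmod M hs).lift B
    have hl' : (rmod M hs).Ind l B := hl
    have hlN : l ∈ normalizer (vx (S : Subgroup G) P : Set G) := NP_le ((rmod M hs).mem_normalizer hl')
    have hlL : cj l ((rmod M hs).line w₀) = (rmod M hs).line w₀ :=
      BTwo.cj_eq_self_iff.2 (mem_normalizer_line_of _ hl' hc0 hB)
    refine ⟨a * l, mul_mem ha hlN, ?_, ?_⟩
    · have h4 := hB' l hl'
      calc a * l * r * (a * l)⁻¹ = a * (l * r * l⁻¹) * a⁻¹ := by group
        _ = (rmod M hs).e x := by rw [h4]; group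
    · rw [BTwo.cj_mul, hlL]; exact h2

variable {S M hs} {w₀ : Fin 2 → F} {r : G} (E : ExcD S M hs w₀ r)

include E

theorem ExcD.card_line : Nat.card ((rmod M hs).line w₀) = 4 := by
  rw [(rmod M hs).card_line E.ne, E.card]

theorem ExcD.rN : r ∈ vx (S : Subgroup G) P := (rmod M hs).line_le w₀ E.rL

theorem ExcD.rV : r ∈ zl (S : Subgroup G) P := vx_le _ _ E.rN

/-- the element `c ≠ 0, 1` of `F` -/
theorem ExcD.exists_ne : ∃ r' ∈ (rmod M hs).line w₀, r' ≠ 1 ∧ r' ≠ r := by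
  by_contra hcon
  push Not at hcon
  have h1 : (rmod M hs).line w₀ ≤ zpowers r := by
    intro x hx
    by_cases hx1 : x = 1
    · rw [hx1]; exact one_mem _
    · rw [hcon x hx hx1]; exact mem_zpowers r
  have h2 := Subgroup.card_le_of_le h1
  have h3 : r ^ 2 = 1 := by
    rw [pow_two]
    exact (rmod M hs).sq E.rN
  rw [E.card_line, Nat.card_zpowers] at h2
  have h4 := orderOf_le_of_pow_eq_one (by norm_num) h3
  omega

variable (hG : IsCharacteristicTwoType G) (h : IsParS (S : Subgroup G) P)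

include hG h in
/-- `r ∈ Z(S)` -/
theorem ExcD.r_zc : r ∈ zc (S : Subgroup G) :=
  mem_zc.2 ⟨zl_le_self hG S h E.rV, E.rS, by rw [pow_two]; exact zl_sq' hG S h E.rV⟩

include hG h in
/-- **`V ≤ O₂(C_G(r))`**, `D ≤ Z(O₂(C_G(r)))` -/
theorem ExcD.le_o2 (hI : zl (S : Subgroup G) P ≤ o2 (centralizer (zc (S : Subgroup G) : Set G))) :
    zl (S : Subgroup G) P ≤ o2 (centralizer ({r} : Set G)) ∧
      cv (S : Subgroup G) P ≤ zc (o2 (centralizer ({r} : Set G))) := by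
  set H := centralizer ({r} : Set G) with hH
  have hSH : (S : Subgroup G) ≤ H := fun s hs' => mem_centralizer_singleton_iff.2 (E.rS s hs')
  have hVS := zl_le_self hG S h
  have hr2 : r * r = 1 := zl_sq' hG S h E.rV
  have hRn : H ≤ normalizer (zpowers r : Set G) := by
    intro x hx
    have h1 := mem_centralizer_singleton_iff.1 hx
    rw [mem_normalizer_iff]
    intro y
    have key : ∀ x : G, x * r = r * x → ∀ y ∈ zpowers r, x * y * x⁻¹ ∈ zpowers r := by
      rintro x h1 _ ⟨n, rfl⟩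
      have h2 : x * r ^ n = r ^ n * x := (Commute.zpow_right h1 n)
      change x * r ^ n * x⁻¹ ∈ _
      rw [h2, mul_inv_cancel_right]
      exact ⟨n, rfl⟩
    constructor
    · exact key x h1 y
    · intro hy
      have h2 : x⁻¹ * r = r * x⁻¹ := by rw [inv_mul_eq_iff_eq_mul, ← mul_assoc, h1, mul_inv_cancel_right]
      have h3 := key x⁻¹ h2 _ hy
      have e : x⁻¹ * (x * y * x⁻¹) * x⁻¹⁻¹ = y := by group
      rwa [e] at h3
  have hz : IsPGroup 2 (zpowers r) := (S.isPGroup').to_le (zpowers_le.2 (hVS E.rV))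
  have hz1 : zpowers r ≠ ⊥ := fun h => E.r1 (zpowers_eq_bot.1 h)
  have hL : IsLoc (S : Subgroup G) H := isLoc_of_le_normalizer S hSH hz hz1 hRn
  set Y := zl (S : Subgroup G) H with hY
  have hYz : Y ≤ zc (o2 H) := hL.zl_le S hG
  have hYn : H ≤ normalizer (Y : Set G) := le_normalizer_zl _ _
  have hYS : Y ≤ (S : Subgroup G) := (hYz.trans (VModule.zc_le _)).trans (hL.o2_le S)
  have hYP : Y ≤ P := hYS.trans h.le
  have hYc : ∀ x ∈ Y, ∀ y ∈ Y, x * y = y * x := fun x hx y hy => VModule.zc_comm _ _ (hYz hx) _ (hYz hy)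
  have hrY : r ∈ Y := VModule.zc_le_zl _ _ (E.r_zc hG h)
  have hNH : vx (S : Subgroup G) P ≤ H := ((vx_le _ _).trans hVS).trans hSH
  -- `N ∩ Y ≤ ⟨r⟩` or `N ≤ Y`
  have hkey : ∀ x ∈ vx (S : Subgroup G) P, x ∈ Y → x ∉ zpowers r → vx (S : Subgroup G) P ≤ Y := by
    intro x hx hxY hxr v hv
    by_cases hvr : v ∈ zpowers r
    · exact (zpowers_le.2 hrY) hvr
    obtain ⟨a, -, ha1, ha2⟩ := E.fuse r E.rN E.r1 x hx
    obtain ⟨b, -, hb1, hb2⟩ := E.fuse r E.rN E.r1 v hv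
    have haH : a ∈ H := mem_centralizer_singleton_iff.2 (mul_inv_eq_iff_eq_mul.1 ha1)
    have hbH : b ∈ H := mem_centralizer_singleton_iff.2 (mul_inv_eq_iff_eq_mul.1 hb1)
    have hcard : Nat.card (cj a ((rmod M hs).line w₀)) = 4 := by rw [BTwo.card_cj, E.card_line]
    have hra : r ∈ cj a ((rmod M hs).line w₀) := ⟨r, E.rL, ha1⟩
    have h1 : cj a ((rmod M hs).line w₀) ≤ Y := four_le hcard hra ha2 E.r1
      (fun h => hxr (by rw [h]; exact one_mem _)) (fun h => hxr (by rw [← h]; exact mem_zpowers r)) hrY hxY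
    have h2 : (rmod M hs).line w₀ ≤ Y := by
      intro y hy
      have h3 := h1 (conj_mem_cj hy)
      have h4 := (mem_normalizer_iff.1 (hYn (inv_mem haH)) _).1 h3
      have e : a⁻¹ * (a * y * a⁻¹) * a⁻¹⁻¹ = y := by group
      rwa [e] at h4
    rw [mem_cj] at hb2
    have h5 := (mem_normalizer_iff.1 (hYn hbH) _).1 (h2 hb2)
    have e : b * (b⁻¹ * v * b) * b⁻¹ = v := by group
    rwa [e] at h5
  have hNY : ∀ n ∈ vx (S : Subgroup G) P, ∀ y ∈ Y, n * y * n⁻¹ * y⁻¹ ∈ zpowers r := by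
    intro n hn y hy
    by_cases hle : vx (S : Subgroup G) P ≤ Y
    · have h1 := hYc n (hle hn) y hy
      rw [h1, mul_inv_cancel_right, mul_inv_cancel]
      exact one_mem _
    · by_contra hcon
      apply hle
      refine hkey (n * y * n⁻¹ * y⁻¹) ?_ ?_ hcon
      · have h1 : y * n⁻¹ * y⁻¹ ∈ vx (S : Subgroup G) P := conj_mem_vx (hYP hy) (inv_mem hn)
        have e : n * y * n⁻¹ * y⁻¹ = n * (y * n⁻¹ * y⁻¹) := by group
        rw [e]
        exact mul_mem hn h1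
      · exact mul_mem ((mem_normalizer_iff.1 (hYn (hNH hn)) y).1 hy) (inv_mem hy)
  have hPD := le_centralizer_cv hG S h M hs
  have hVY : ∀ v ∈ zl (S : Subgroup G) P, ∀ y ∈ Y, v * y * v⁻¹ * y⁻¹ ∈ zpowers r := by
    intro v hv y hy
    obtain ⟨n, hn, d, hd, rfl⟩ := exists_mul M hv
    have h1 : d * y = y * d := mem_centralizer_iff.1 (hPD (hYP hy)) d hd
    have e : n * d * y * (n * d)⁻¹ * y⁻¹ = n * (d * y * d⁻¹) * n⁻¹ * y⁻¹ := by group
    rw [e, h1, mul_inv_cancel_right]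
    exact hNY n hn y hy
  refine ⟨le_o2_of_series S hSH hVS ?_ hYn hRn ?_ hVY ?_,
    ((cv_le_zc hG S h M hs).trans (VModule.zc_le_zl _ _)).trans hYz⟩
  · intro x hx
    exact zl_sq' hG S h ((zpowers_le.2 E.rV) hx)
  · intro v hv x hx
    exact zl_comm' hG S h hv ((zpowers_le.2 E.rV) hx)
  · intro v hv e he hec
    exact comm_mem_o2 (hVS.trans hSH) hI hv he hec

include hG h in
/-- **the parabolic `P'`**: `V_{P'} = L × D` -/
theorem ExcD.exists_par : ∃ P' : Subgroup G, IsParS (S : Subgroup G) P' ∧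
    zl (S : Subgroup G) P' = (rmod M hs).line w₀ ⊔ cv (S : Subgroup G) P ∧
    cv (S : Subgroup G) P ≤ cv (S : Subgroup G) P' := by
  set L := (rmod M hs).line w₀ with hL
  have hSP := h.le
  have hLN : L ≤ vx (S : Subgroup G) P := (rmod M hs).line_le w₀
  have hVS := zl_le_self hG S h
  have hPD := le_centralizer_cv hG S h M hs
  have hrz := E.r_zc hG h
  -- `C_N(S) = {1, r}` is normalised by `N_P(S)`
  have hconj : ∀ x ∈ P, x ∈ normalizer ((S : Subgroup G) : Set G) → x * r = r * x := by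
    intro x hx hxS
    have h1 : x * r * x⁻¹ ∈ vx (S : Subgroup G) P := conj_mem_vx hx E.rN
    have h2 : ∀ s ∈ (S : Subgroup G), s * (x * r * x⁻¹) = (x * r * x⁻¹) * s := by
      intro s hs'
      have h3 : x⁻¹ * s * x ∈ (S : Subgroup G) := by
        have := (mem_normalizer_iff.1 (inv_mem hxS) s).1 hs'
        rwa [inv_inv] at this
      have h4 := E.rS _ h3
      calc s * (x * r * x⁻¹) = x * ((x⁻¹ * s * x) * r) * x⁻¹ := by group
        _ = x * (r * (x⁻¹ * s * x)) * x⁻¹ := by rw [h4]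
        _ = (x * r * x⁻¹) * s := by group
    rcases E.fix _ h1 h2 with h3 | h3
    · exfalso
      apply E.r1
      calc r = x⁻¹ * (x * r * x⁻¹) * x := by group
        _ = 1 := by rw [h3]; group
    · exact mul_inv_eq_iff_eq_mul.1 h3
  set H₁ : Subgroup G := P ⊓ normalizer (L : Set G) with hH₁
  have hSH₁ : (S : Subgroup G) ≤ H₁ := le_inf hSP E.SL
  have hL₁ : IsLoc (S : Subgroup G) H₁ := h.isLoc.of_le S hSH₁ inf_le_left
  obtain ⟨r', hr', hr1', hrr'⟩ := E.exists_ne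
  obtain ⟨P', hP', hP'H, hP'r⟩ := hL₁.exists_not_le S (M := centralizer ({r} : Set G))
    (fun x hx => mem_centralizer_singleton_iff.2 (hconj x hx.1.1 hx.2)) (by
      intro hle
      obtain ⟨B, ⟨c, hc0, hB⟩, hB'⟩ := exists_torus_move S M hs E.ne E.rL E.r1 hr' hr1'
      obtain ⟨l, hl, hlB⟩ := rmod_lift M hs B
      have h1 : l ∈ H₁ := ⟨hl, mem_normalizer_line_of _ hlB hc0 hB⟩
      have h2 := mem_centralizer_singleton_iff.1 (hle h1)
      apply hrr'
      rw [← hB' l hlB, h2, mul_inv_cancel_right])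
  have hP'P : P' ≤ P := hP'H.trans inf_le_left
  have hP'L : P' ≤ normalizer (L : Set G) := hP'H.trans inf_le_right
  obtain ⟨p, hp, hpr⟩ : ∃ p ∈ P', p * r ≠ r * p := by
    by_contra hcon
    push Not at hcon
    exact hP'r fun x hx => mem_centralizer_singleton_iff.2 (hcon x hx)
  have hstar : IsParS (S : Subgroup G) P' := by
    refine ⟨hP', fun hz => ?_⟩
    have h1 : p * r * p⁻¹ ∈ zc (S : Subgroup G) := (mem_normalizer_iff.1 (hz hp) r).1 hrz
    have h2 : p * r * p⁻¹ ∈ vx (S : Subgroup G) P := conj_mem_vx (hP'P hp) E.rN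
    rcases E.fix _ h2 (mem_zc.1 h1).2.1 with h3 | h3
    · apply E.r1
      calc r = p⁻¹ * (p * r * p⁻¹) * p := by group
        _ = 1 := by rw [h3]; group
    · exact hpr (mul_inv_eq_iff_eq_mul.1 h3)
  have hDz : cv (S : Subgroup G) P ≤ zl (S : Subgroup G) P' :=
    (cv_le_zc hG S h M hs).trans (VModule.zc_le_zl _ _)
  refine ⟨P', hstar, le_antisymm ?_ ?_, ?_⟩
  · apply VModule.zl_le
    · intro z hz
      obtain ⟨n, hn, d, hd, rfl⟩ := exists_mul M (VModule.zc_le_zl _ P hz)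
      have hn' : n ∈ zc (S : Subgroup G) := by
        have := mul_mem hz (inv_mem (cv_le_zc hG S h M hs hd))
        rwa [mul_inv_cancel_right] at this
      refine mul_mem (le_sup_left (a := L) ?_) (le_sup_right (a := L) hd)
      rcases E.fix n hn (mem_zc.1 hn').2.1 with h3 | h3
      · rw [h3]; exact one_mem L
      · rw [h3]; exact E.rL
    · exact (le_inf hP'L (hP'P.trans (le_normalizer_cv _ _))).trans
        (normalizer_inf_normalizer_le_normalizer_sup _ _)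
  · refine sup_le ?_ hDz
    have hrY : r ∈ zl (S : Subgroup G) P' := VModule.zc_le_zl _ _ hrz
    have hr2 : p * r * p⁻¹ ∈ zl (S : Subgroup G) P' := conj_mem_zl hp hrY
    refine four_le E.card_line E.rL ((mem_normalizer_iff.1 (hP'L hp) r).1 E.rL) E.r1 ?_ ?_ hrY hr2
    · intro h1
      apply E.r1
      calc r = p⁻¹ * (p * r * p⁻¹) * p := by group
        _ = 1 := by rw [h1]; group
    · intro h1
      exact hpr (mul_inv_eq_iff_eq_mul.1 h1.symm)
  · intro d hd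
    refine mem_inf.2 ⟨hDz hd, ?_⟩
    rw [mem_centralizer_iff]
    intro x hx
    exact (mem_centralizer_iff.1 (hPD (hP'P (oddGen_le _ hx))) d hd).symm

include hG h in
theorem ExcD.comm_D (hI : zl (S : Subgroup G) P ≤ o2 (centralizer (zc (S : Subgroup G) : Set G))) {a c ρ : G}
    (ha : a * r * a⁻¹ = ρ) (hc : c * r * c⁻¹ = ρ) {x : G} (hx : x ∈ cj a (zl (S : Subgroup G) P)) {d : G}
    (hd : d ∈ cj c (cv (S : Subgroup G) P)) : x * d = d * x := by
  obtain ⟨h1, h2⟩ := E.le_o2 hG h hI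
  obtain ⟨v, hv, rfl⟩ := hx
  obtain ⟨e, he, rfl⟩ := hd
  have hg : c⁻¹ * a ∈ centralizer ({r} : Set G) := by
    rw [mem_centralizer_singleton_iff]
    calc c⁻¹ * a * r = c⁻¹ * (a * r * a⁻¹) * a := by group
      _ = c⁻¹ * (c * r * c⁻¹) * a := by rw [ha, hc]
      _ = r * (c⁻¹ * a) := by group
  have h3 : c⁻¹ * a * v * (c⁻¹ * a)⁻¹ ∈ o2 (centralizer ({r} : Set G)) :=
    (mem_normalizer_iff.1 (VModule.le_normalizer_o2 _ hg) v).1 (h1 hv)
  have h4 : c⁻¹ * a * v * (c⁻¹ * a)⁻¹ * e = e * (c⁻¹ * a * v * (c⁻¹ * a)⁻¹) := (mem_zc.1 (h2 he)).2.1 _ h3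
  change a * v * a⁻¹ * (c * e * c⁻¹) = c * e * c⁻¹ * (a * v * a⁻¹)
  calc a * v * a⁻¹ * (c * e * c⁻¹) = c * (c⁻¹ * a * v * (c⁻¹ * a)⁻¹ * e) * c⁻¹ := by group
    _ = c * (e * (c⁻¹ * a * v * (c⁻¹ * a)⁻¹)) * c⁻¹ := by rw [h4]
    _ = c * e * c⁻¹ * (a * v * a⁻¹) := by group

/-- commutators of `{1, ρ, v, ρv}` and `{1, ρ, v', ρv'}` -/
theorem comm_four {ρ v v' l l' : G} (hv : v * v' * v⁻¹ * v'⁻¹ = ρ) (h1 : v * ρ = ρ * v) (h2 : v' * ρ = ρ * v')
    (hl : l = 1 ∨ l = ρ ∨ l = v ∨ l = ρ * v) (hl' : l' = 1 ∨ l' = ρ ∨ l' = v' ∨ l' = ρ * v') :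
    l * l' * l⁻¹ * l'⁻¹ = 1 ∨ l * l' * l⁻¹ * l'⁻¹ = ρ := by
  have c1 : Commute ρ v := h1.symm
  have c2 : Commute ρ v' := h2.symm
  have one_of : ∀ {x y : G}, Commute x y → x * y * x⁻¹ * y⁻¹ = 1 := fun {x y} h => by
    rw [h.eq, mul_inv_cancel_right, mul_inv_cancel]
  rcases hl with rfl | rfl | rfl | rfl <;> rcases hl' with rfl | rfl | rfl | rfl
  · left; exact one_of (Commute.one_left _)
  · left; exact one_of (Commute.one_left _)
  · left; exact one_of (Commute.one_left _)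
  · left; exact one_of (Commute.one_left _)
  · left; exact one_of (Commute.one_right _)
  · left; exact one_of (Commute.refl _)
  · left; exact one_of c2
  · left; exact one_of ((Commute.refl _).mul_right c2)
  · left; exact one_of (Commute.one_right _)
  · left; exact one_of c1.symm
  · right; exact hv
  · right
    calc l * (ρ * v') * l⁻¹ * (ρ * v')⁻¹ = (l * ρ) * v' * l⁻¹ * v'⁻¹ * ρ⁻¹ := by group
      _ = ρ * (l * v' * l⁻¹ * v'⁻¹) * ρ⁻¹ := by rw [h1]; group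
      _ = ρ := by rw [hv]; group
  · left; exact one_of (Commute.one_right _)
  · left; exact one_of ((Commute.refl _).mul_left c1.symm)
  · right
    calc ρ * v * l' * (ρ * v)⁻¹ * l'⁻¹ = ρ * (v * l' * v⁻¹) * (ρ⁻¹ * l'⁻¹) := by group
      _ = ρ * (v * l' * v⁻¹) * (l'⁻¹ * ρ⁻¹) := by
        have h5 : ρ⁻¹ * l'⁻¹ = l'⁻¹ * ρ⁻¹ := (c2.inv_inv).eq
        rw [h5]
      _ = ρ * (v * l' * v⁻¹ * l'⁻¹) * ρ⁻¹ := by group
      _ = ρ := by rw [hv]; group
  · right
    calc ρ * v * (ρ * v') * (ρ * v)⁻¹ * (ρ * v')⁻¹ = ρ * (v * ρ) * v' * v⁻¹ * ρ⁻¹ * v'⁻¹ * ρ⁻¹ := by group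
      _ = ρ * (ρ * v) * v' * v⁻¹ * (ρ⁻¹ * v'⁻¹) * ρ⁻¹ := by rw [h1]; group
      _ = ρ * (ρ * v) * v' * v⁻¹ * (v'⁻¹ * ρ⁻¹) * ρ⁻¹ := by
        have h5 : ρ⁻¹ * v'⁻¹ = v'⁻¹ * ρ⁻¹ := (c2.inv_inv).eq
        rw [h5]
      _ = ρ * ρ * (v * v' * v⁻¹ * v'⁻¹) * ρ⁻¹ * ρ⁻¹ := by group
      _ = ρ := by rw [hv]; group

theorem mem_sup_LD (hVP : zl (S : Subgroup G) P ≤ P) {x : G}
    (hx : x ∈ (rmod M hs).line w₀ ⊔ cv (S : Subgroup G) P) :
    ∃ l ∈ (rmod M hs).line w₀, ∃ d ∈ cv (S : Subgroup G) P, x = l * d := by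
  have h1 : (rmod M hs).line w₀ ≤ normalizer (cv (S : Subgroup G) P : Set G) :=
    ((((rmod M hs).line_le w₀).trans (vx_le _ _)).trans hVP).trans (le_normalizer_cv _ _)
  rw [← SetLike.mem_coe, coe_mul_of_left_le_normalizer_right _ _ h1, Set.mem_mul] at hx
  obtain ⟨l, hl, d, hd, rfl⟩ := hx
  exact ⟨l, hl, d, hd, rfl⟩

include hG h in
/-- **(EX1)** for `C_V(O²(P)) ≠ 1` -/
theorem ExcD.exists_pair (hI : zl (S : Subgroup G) P ≤ o2 (centralizer (zc (S : Subgroup G) : Set G)))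
    (hne : cv (S : Subgroup G) P ≠ ⊥) {y : G} (hy1 : cj y (zl (S : Subgroup G) P) ≤ (S : Subgroup G))
    (hy2 : zl (S : Subgroup G) P ≤ cj y (S : Subgroup G)) {v v' : G} (hv : v ∈ vx (S : Subgroup G) P)
    (hv' : v' ∈ cj y (vx (S : Subgroup G) P)) (hvv : v * v' ≠ v' * v) :
    ∃ (P' : Subgroup G) (g' : G), NonFree (S : Subgroup G) P' P' g' ∧
      Nat.card (zl (S : Subgroup G) P') < Nat.card (zl (S : Subgroup G) P) := by
  set L := (rmod M hs).line w₀ with hL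
  have hPD := le_centralizer_cv hG S h M hs
  have hVP : zl (S : Subgroup G) P ≤ P := (zl_le_self hG S h).trans h.le
  have hLN : L ≤ vx (S : Subgroup G) P := (rmod M hs).line_le w₀
  -- `ρ = [v, v'] ∈ N ∩ N^y`
  have n1 : cj y (vx (S : Subgroup G) P) ≤ normalizer (vx (S : Subgroup G) P : Set G) :=
    ((((cj_mono (vx_le _ _)).trans hy1).trans h.le)).trans (le_normalizer_vx _ _)
  have n2 : vx (S : Subgroup G) P ≤ normalizer (cj y (vx (S : Subgroup G) P) : Set G) := by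
    rw [BTwo.normalizer_cj]
    exact (((vx_le _ _).trans hy2).trans (cj_mono h.le)).trans (cj_mono (le_normalizer_vx _ _))
  obtain ⟨ρ, hρ⟩ : ∃ ρ, v * v' * v⁻¹ * v'⁻¹ = ρ := ⟨_, rfl⟩
  have hρN : ρ ∈ vx (S : Subgroup G) P := by
    rw [← hρ]
    have h1 := (mem_normalizer_iff.1 (n1 hv') _).1 (inv_mem hv)
    have e : v * v' * v⁻¹ * v'⁻¹ = v * (v' * v⁻¹ * v'⁻¹) := by group
    rw [e]; exact mul_mem hv h1
  have hρN' : ρ ∈ cj y (vx (S : Subgroup G) P) := by
    rw [← hρ]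
    exact mul_mem ((mem_normalizer_iff.1 (n2 hv) _).1 hv') (inv_mem hv')
  have hρ1 : ρ ≠ 1 := by
    intro h1
    apply hvv
    rw [h1, mul_inv_eq_one, mul_inv_eq_iff_eq_mul] at hρ
    exact hρ
  have cN : ∀ x ∈ vx (S : Subgroup G) P, ∀ z ∈ vx (S : Subgroup G) P, x * z = z * x := fun x hx z hz =>
    (rmod M hs).comm hx hz
  have cN' : ∀ x ∈ cj y (vx (S : Subgroup G) P), ∀ z ∈ cj y (vx (S : Subgroup G) P), x * z = z * x := by
    rintro _ ⟨x, hx, rfl⟩ _ ⟨z, hz, rfl⟩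
    change y * x * y⁻¹ * (y * z * y⁻¹) = y * z * y⁻¹ * (y * x * y⁻¹)
    calc y * x * y⁻¹ * (y * z * y⁻¹) = y * (x * z) * y⁻¹ := by group
      _ = y * (z * x) * y⁻¹ := by rw [cN x hx z hz]
      _ = y * z * y⁻¹ * (y * x * y⁻¹) := by group
  have sN : ∀ x ∈ vx (S : Subgroup G) P, x * x = 1 := fun x hx => (rmod M hs).sq hx
  have sN' : ∀ x ∈ cj y (vx (S : Subgroup G) P), x * x = 1 := by
    rintro _ ⟨x, hx, rfl⟩
    change y * x * y⁻¹ * (y * x * y⁻¹) = 1
    calc y * x * y⁻¹ * (y * x * y⁻¹) = y * (x * x) * y⁻¹ := by group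
      _ = 1 := by rw [sN x hx]; group
  have hv1 : v ≠ 1 := by rintro rfl; exact hvv (by rw [one_mul, mul_one])
  have hv1' : v' ≠ 1 := by rintro rfl; exact hvv (by rw [one_mul, mul_one])
  have hρv : ρ ≠ v := fun h1 => hvv (by rw [← h1]; exact cN' _ hρN' _ hv')
  have hρv' : ρ ≠ v' := fun h1 => hvv (by rw [← h1]; exact cN _ hv _ hρN)
  -- the conjugates of `L`
  obtain ⟨a, haN, ha, hva⟩ := E.fuse ρ hρN hρ1 v hv
  obtain ⟨b, hbN, hb, hvb⟩ := E.fuse (y⁻¹ * ρ * y) (mem_cj.1 hρN') (by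
    intro h1
    apply hρ1
    calc ρ = y * (y⁻¹ * ρ * y) * y⁻¹ := by group
      _ = 1 := by rw [h1]; group) (y⁻¹ * v' * y) (mem_cj.1 hv')
  obtain ⟨c, hc⟩ : ∃ c, c = y * b := ⟨_, rfl⟩
  have hcr : c * r * c⁻¹ = ρ := by
    calc c * r * c⁻¹ = y * (b * r * b⁻¹) * y⁻¹ := by rw [hc]; group
      _ = ρ := by rw [hb]; group
  have hvc : v' ∈ cj c L := by
    rw [mem_cj] at hvb ⊢
    have e : c⁻¹ * v' * c = b⁻¹ * (y⁻¹ * v' * y) * b := by rw [hc]; group
    rwa [e]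
  have hρa : ρ ∈ cj a L := ⟨r, E.rL, ha⟩
  have hρc : ρ ∈ cj c L := ⟨r, E.rL, hcr⟩
  have hcardL := E.card_line
  obtain ⟨P', hstar, hzl, hcv⟩ := E.exists_par hG h
  set Z' := zl (S : Subgroup G) P' with hZ'
  have hLZ : L ≤ Z' := by rw [hzl]; exact le_sup_left
  have hZV : Z' ≤ zl (S : Subgroup G) P := by
    rw [hzl]; exact sup_le (hLN.trans (vx_le _ _)) (cv_le _ _)
  -- commutators of `Z'^a` and `Z'^c`
  have key : ∀ x ∈ cj a Z', ∀ z ∈ cj c Z', x * z * x⁻¹ * z⁻¹ = 1 ∨ x * z * x⁻¹ * z⁻¹ = ρ := by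
    rintro _ ⟨x, hx, rfl⟩ _ ⟨z, hz, rfl⟩
    have hx' := hx
    have hz' := hz
    rw [SetLike.mem_coe, hzl] at hx' hz'
    obtain ⟨l, hl, d, hd, rfl⟩ := mem_sup_LD E hVP hx'
    obtain ⟨l', hl', d', hd', rfl⟩ := mem_sup_LD E hVP hz'
    change a * (l * d) * a⁻¹ * (c * (l' * d') * c⁻¹) * (a * (l * d) * a⁻¹)⁻¹ * (c * (l' * d') * c⁻¹)⁻¹ = 1 ∨
      a * (l * d) * a⁻¹ * (c * (l' * d') * c⁻¹) * (a * (l * d) * a⁻¹)⁻¹ * (c * (l' * d') * c⁻¹)⁻¹ = ρ
    obtain ⟨A, hA⟩ : ∃ A, A = a * l * a⁻¹ := ⟨_, rfl⟩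
    obtain ⟨A', hA'⟩ : ∃ A', A' = c * l' * c⁻¹ := ⟨_, rfl⟩
    obtain ⟨D, hD⟩ : ∃ D, D = a * d * a⁻¹ := ⟨_, rfl⟩
    obtain ⟨D', hD'⟩ : ∃ D', D' = c * d' * c⁻¹ := ⟨_, rfl⟩
    have hAL : A ∈ cj a L := by rw [hA]; exact conj_mem_cj hl
    have hAL' : A' ∈ cj c L := by rw [hA']; exact conj_mem_cj hl'
    have hDD : D ∈ cj a (cv (S : Subgroup G) P) := by rw [hD]; exact conj_mem_cj hd
    have hDD' : D' ∈ cj c (cv (S : Subgroup G) P) := by rw [hD']; exact conj_mem_cj hd'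
    have hAV : A ∈ cj a (zl (S : Subgroup G) P) := cj_mono (hLN.trans (vx_le _ _)) hAL
    have hzV : A' * D' ∈ cj c (zl (S : Subgroup G) P) :=
      mul_mem (cj_mono (hLN.trans (vx_le _ _)) hAL') (cj_mono (cv_le _ _) hDD')
    have q1 : A' * D' * D = D * (A' * D') := E.comm_D hG h hI hcr ha hzV hDD
    have q2 : A * D' = D' * A := E.comm_D hG h hI ha hcr hAV hDD'
    have e1 : a * (l * d) * a⁻¹ = A * D := by rw [hA, hD]; group
    have e2 : c * (l' * d') * c⁻¹ = A' * D' := by rw [hA', hD']; group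
    have e3 : A * D * (A' * D') * (A * D)⁻¹ * (A' * D')⁻¹ = A * A' * A⁻¹ * A'⁻¹ := by
      calc A * D * (A' * D') * (A * D)⁻¹ * (A' * D')⁻¹ = A * (D * (A' * D')) * D⁻¹ * A⁻¹ * (A' * D')⁻¹ := by group
        _ = A * (A' * D' * D) * D⁻¹ * A⁻¹ * (A' * D')⁻¹ := by rw [q1]
        _ = A * A' * (D' * A⁻¹) * (A' * D')⁻¹ := by group
        _ = A * A' * (A⁻¹ * D') * (A' * D')⁻¹ := by
          have h5 : D' * A⁻¹ = A⁻¹ * D' := (Commute.inv_left (show Commute A D' from q2)).eq.symm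
          rw [h5]
        _ = A * A' * A⁻¹ * A'⁻¹ := by group
    rw [e1, e2, e3]
    refine comm_four E hρ (cN _ hv _ hρN) (cN' _ hv' _ hρN')
      (four_mem (by rw [BTwo.card_cj, hcardL]) hρa hva hρ1 hv1 hρv (cN _ hρN _ hv) (sN _ hρN) (sN _ hv) hAL)
      (four_mem (by rw [BTwo.card_cj, hcardL]) hρc hvc hρ1 hv1' hρv' (cN' _ hρN' _ hv') (sN' _ hρN') (sN' _ hv') hAL')
  have hρZa : ρ ∈ cj a Z' := cj_mono hLZ hρa
  have hρZc : ρ ∈ cj c Z' := cj_mono hLZ hρc
  have m1 : cj a Z' ≤ normalizer (cj c Z' : Set G) := by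
    intro x hx
    refine SQ1.FFOne.mem_norm_of fun z hz => ?_
    have e : x * z * x⁻¹ = x * z * x⁻¹ * z⁻¹ * z := by group
    rw [e]
    rcases key x hx z hz with h1 | h1
    · rw [h1, one_mul]; exact hz
    · rw [h1]; exact mul_mem hρZc hz
  have m2 : cj c Z' ≤ normalizer (cj a Z' : Set G) := by
    intro z hz
    refine SQ1.FFOne.mem_norm_of fun x hx => ?_
    have e : z * x * z⁻¹ = (x * z * x⁻¹ * z⁻¹)⁻¹ * x := by group
    rw [e]
    rcases key x hx z hz with h1 | h1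
    · rw [h1, inv_one, one_mul]; exact hx
    · rw [h1]; exact mul_mem (inv_mem hρZa) hx
  refine ⟨P', a⁻¹ * c, ⟨⟨hstar, hstar, ?_, ?_, ?_⟩, ?_, ?_⟩, ?_⟩
  · change Z' ≤ normalizer (cj (a⁻¹ * c) Z' : Set G)
    have := cj_mono (g := a⁻¹) m1
    rwa [BTwo.cj_inv_cj, ← BTwo.normalizer_cj, ← BTwo.cj_mul] at this
  · change cj (a⁻¹ * c) Z' ≤ normalizer (Z' : Set G)
    have := cj_mono (g := a⁻¹) m2
    rwa [← BTwo.normalizer_cj, BTwo.cj_inv_cj, ← BTwo.cj_mul] at this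
  · intro h0
    have h1 : ⁅a⁻¹ * v * a, (a⁻¹ * c) * (c⁻¹ * v' * c) * (a⁻¹ * c)⁻¹⁆ ∈
        ⁅Z', MulAut.conj (a⁻¹ * c) • Z'⁆ := commutator_mem_commutator (hLZ (mem_cj.1 hva))
      ⟨_, hLZ (mem_cj.1 hvc), rfl⟩
    rw [h0, mem_bot, commutatorElement_eq_one_iff_mul_comm] at h1
    apply hvv
    calc v * v' = a * (a⁻¹ * v * a * ((a⁻¹ * c) * (c⁻¹ * v' * c) * (a⁻¹ * c)⁻¹)) * a⁻¹ := by group
      _ = a * ((a⁻¹ * c) * (c⁻¹ * v' * c) * (a⁻¹ * c)⁻¹ * (a⁻¹ * v * a)) * a⁻¹ := by rw [h1]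
      _ = v' * v := by group
  · exact fun h0 => hne (le_bot_iff.1 (h0 ▸ hcv))
  · exact fun h0 => hne (le_bot_iff.1 (h0 ▸ hcv))
  · by_contra hcon
    push Not at hcon
    have hEq : Z' = zl (S : Subgroup G) P := Subgroup.eq_of_le_of_card_ge hZV hcon
    have hNL : vx (S : Subgroup G) P ≤ L := by
      intro n hn
      have h1 : n ∈ L ⊔ cv (S : Subgroup G) P := by
        rw [← hzl, hEq]; exact vx_le _ _ hn
      obtain ⟨l, hl, d, hd, rfl⟩ := mem_sup_LD E hVP h1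
      have h2 : d ∈ vx (S : Subgroup G) P ⊓ cv (S : Subgroup G) P := by
        refine ⟨?_, hd⟩
        have := mul_mem (inv_mem (hLN hl)) hn
        rwa [inv_mul_cancel_left] at this
      rw [hs, mem_bot] at h2
      rw [h2, mul_one]
      exact hl
    have h3 := Subgroup.card_le_of_le hNL
    rw [hcardL, (rmod M hs).card_V, E.card] at h3
    norm_num at h3

end exc

/-! ### The socket -/

/-- **the socket `NormH`** -/
theorem normH (K : Cls.{u}) : NormH K := by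
  intro G _ _ hG _ S _ hAll hS hs P g hnf hmin
  obtain ⟨F, _, _, _, ⟨M⟩⟩ := (hS P P g hnf.mp).1
  have hsp : SplitPar (S : Subgroup G) P := (hs P P g hnf.mp).1
  have h : IsParS (S : Subgroup G) P := hnf.mp.star₁
  have hc := hG.char2
  obtain ⟨y, hy1, hy2, v, hv, w, hw, hvw⟩ := exists_move S hc hnf.mp
  obtain ⟨K₁, M₁, s₁⟩ := exists_spl hc h M hsp
  have s₂ := s₁.conj y
  have hSP : (S : Subgroup G) ≤ P := h.le
  have hSP' : ((y • S : Sylow 2 G) : Subgroup G) ≤ cj y P := by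
    rw [Mix.coe_smul_eq]; exact cj_mono hSP
  -- `N`, `N^y` do not commute
  obtain ⟨n, hn, d, hd, rfl⟩ := s₁.dec v hv
  obtain ⟨n', hn', d', hd', rfl⟩ := s₂.dec w hw
  have c1 : ∀ z ∈ cj y (zl (S : Subgroup G) P), ∀ d ∈ cv (S : Subgroup G) P, d * z = z * d := fun z hz d hd =>
    mem_centralizer_iff.1 (s₁.cen (hSP (hy1 hz))) d hd
  have c2 : ∀ z ∈ zl (S : Subgroup G) P, ∀ d ∈ cj y (cv (S : Subgroup G) P), d * z = z * d := fun z hz d hd => by
    refine mem_centralizer_iff.1 (s₂.cen (hSP' ?_)) d hd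
    rw [Mix.coe_smul_eq]; exact hy2 hz
  have hnn : n * n' ≠ n' * n := by
    intro h
    apply hvw
    have e1 := c1 _ hw d hd
    have e2 := c2 n (s₁.NV hn) d' hd'
    calc n * d * (n' * d') = n * (d * (n' * d')) := by group
      _ = n * (n' * d' * d) := by rw [e1]
      _ = n * n' * d' * d := by group
      _ = n' * (n * d') * d := by rw [h]; group
      _ = n' * (d' * n) * d := by rw [e2]
      _ = n' * d' * (n * d) := by group
  have hn'' : n' ∈ cj y (vx (S : Subgroup G) P) := hn'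
  rcases (preMod M hsp).dich S (hSP.trans (le_normalizer_vx _ _)) (fun s hs' => nm_of_mem M hsp (hSP hs')) with
    hgood | hexc
  · refine ⟨y, F, inferInstance, inferInstance, inferInstance, vx (S : Subgroup G) P,
      (preMod M hsp).toNatMod hgood, ?_⟩
    have hmut : RMutual (vx (S : Subgroup G) P) (cj y (vx (S : Subgroup G) P)) K₁ (cj y K₁) :=
      ⟨(s₂.NV.trans hy1).trans (hSP.trans s₁.PK), (s₁.NV.trans hy2).trans (by
        have := hSP'.trans s₂.PK
        rwa [Mix.coe_smul_eq] at this), n, hn, n', hn', hnn⟩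
    obtain ⟨-, u, u', hu, -, hl, -⟩ := Mix.pair M₁ (M₁.conj y) hmut
    obtain ⟨T₁, hT₁P, hT₁R⟩ := s₁.exists_sylow S hSP hu.ne
    rw [← hl] at hT₁R
    have hR2 : IsPGroup 2 ↥(vx (S : Subgroup G) P ⊓ cj y (vx (S : Subgroup G) P)) :=
      s₁.N_pGroup.to_le inf_le_left
    have hR1 : vx (S : Subgroup G) P ⊓ cj y (vx (S : Subgroup G) P) ≠ ⊥ := by
      have h1 := M₁.line_ne_bot hu.ne
      rw [← hl] at h1
      exact h1
    have hVQ := s₁.V_le_Q hT₁P hu.ne (R := vx (S : Subgroup G) P ⊓ cj y (vx (S : Subgroup G) P)) hl hT₁R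
      (Mix.char2_normalizer hc hR2 hR1)
    exact
      { mp := ⟨h, h, by
          change _ ≤ normalizer (cj y _ : Set G)
          rw [BTwo.normalizer_cj]
          exact hy2.trans ((cj_mono hSP).trans (cj_mono (le_normalizer_zl _ _))),
          (hy1.trans hSP).trans (le_normalizer_zl _ _), by
          intro h0
          have h1 := commutator_mem_commutator (s₁.NV hn)
            (show n' ∈ MulAut.conj y • zl (S : Subgroup G) P from s₂.NV hn')
          rw [h0, mem_bot, commutatorElement_eq_one_iff_mul_comm] at h1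
          exact hnn h1⟩
        N_eq := rfl
        inf := hsp
        sup := sup_eq M
        ne := hnf.ne₁
        cen := le_centralizer_cv hc S h M hsp
        le := le_normalizer_vx _ _
        lift := rmod_lift M hsp
        pair := ⟨((s₂.NV.trans hy1).trans hSP).trans (le_normalizer_vx _ _), by
          change _ ≤ normalizer (cj y _ : Set G)
          rw [BTwo.normalizer_cj]
          exact ((vx_le _ _).trans hy2).trans ((cj_mono hSP).trans (cj_mono (le_normalizer_vx _ _))),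
          n, hn, n', hn', hnn⟩
        VQ := (vx_le _ _).trans hVQ
        min := hmin }
  · exfalso
    obtain ⟨w₀, r, E⟩ := excD_of S M hsp hexc
    obtain ⟨P', g', h1, h2⟩ := E.exists_pair hc h (hAll P h) hnf.ne₁ hy1 hy2 hn hn'' hnn
    exact absurd (hmin P' g' h1) (not_le.2 h2)

end Cfsg.Agent.Omega.HOne

end

private theorem dce_df2e04843f91 : _root_.True := by
  try have : _root_.True := by simp only [_root_.Cfsg.Agent.Omega.HOne.rmod.congr_simp]
  exact _root_.True.intro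
end

-- part: Mrg/Omega/IId/LFour/TwoTypes
section
prune_inst 0x4201000000000000000000510200020441800000000670001d00003460286b34100420720f8001e10010aaa2420380000021000d90010000000000200411c0080802a42020240a00427000980f806000000000000000000000000000000041004000000000
set_option linter.all false
open scoped Cfsg.Agent.FastGrp

-- merged: Cfsg.Agent.Mrg.Omega.IId.LFour.TriLoc
section

/-!
# THEOREM TRI, the local case (project OMEGA, II.d L4; text helper644 #17091, (2)-(5))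

`w : Wr S P M₁ M₂`, `S₁ = N_S(V₁)`, `t ∈ N_G(S₁)` centralises `σ₁`, `V₃ = t V₂ t⁻¹`. If `V₃` commutes with `V₂`
and lies in `O₂(C_G(σ))` for the five singular `σ ∈ V₁` then `V₃ ≤ O₂(C_G(p))` for every nonsingular `p ∈ V₂`
(`Wr.V₃_le_Q`). Input: `V₂ ≤ O₂(C_G(n₂))` for the adapted `n₂ = M₂.e nn` (LEMMA X).

* `Wr.le_S₁_of_comm` : a 2-group `≥ S₁` which centralises `σ₁` and `σ₂` is `S₁`;
* `Wr.o2_centralizer_le` : `O₂(C_G(V₂)) ≤ S₁`;
* `Wr.zQ_le` : `Z(O₂(C_G(p))) ≤ S₁`;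
* `Wr.comm_zQ` : `[V₃, Z(O₂(C_G(p)))] = 1` (Baer–Suzuki).
-/

set_option autoImplicit false
set_option linter.unusedSectionVars false

namespace Cfsg.Agent.Omega.IId.LFour

open Subgroup Pointwise Cfsg Cfsg.Agent.ZN Cfsg.Agent.Omega.MinPar Cfsg.Agent.Omega.FFThm
open Cfsg.Agent.ZN.ChoiceBase (cj mem_cj)
open Cfsg.Agent.Omega.S5.Mod Cfsg.Agent.Omega.S5.TT
open Cfsg.Agent.Omega.S5.TT.Pos (na ns as sn n_ne s_ne a_ne n_ne_a n_ne_s a_ne_s e_sq' mem_C)
open Cfsg.Agent.Omega.Half (Amb amb_of_loc)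
open Cfsg.Agent.MinSimple.VModule (mem_zc zc_le zc_comm zc_sq zc_le_zl le_normalizer_o2 o2_isPGroup o2_le
  le_o2 normalizer_le_normalizer_zc le_normalizer_zl)

universe u

namespace TriLoc

/-! ### Vectors and permutations -/

/-- the singular vector `i` -/
def sg (i : Fin 5) : Vec := Pi.single i 1

/-- the pair `{i, j}` -/
def pp (i j : Fin 5) : Vec := sg i + sg j

theorem exists_perm : ∀ i j : Fin 5, i ≠ j → ∃ q : Equiv.Perm (Fin 5), q 0 = i ∧ q 1 = j := by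
  decide +kernel

end TriLoc

open TriLoc

variable {G : Type u} [Group G]

/-! ### Generalities -/

theorem normalizer_cent [Finite G] {H U : Subgroup G} (h : H ≤ normalizer (U : Set G)) :
    H ≤ normalizer (centralizer (U : Set G) : Set G) := by
  intro g hg
  refine MinSimple.VModule.mem_normalizer_of_map_le ?_
  rintro _ ⟨x, hx, rfl⟩
  change g * x * g⁻¹ ∈ _
  refine mem_centralizer_iff.mpr fun y hy => ?_
  have hy' : g⁻¹ * y * g ∈ U := by
    have := (mem_normalizer_iff.1 (inv_mem (h hg)) y).1 hy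
    rwa [inv_inv] at this
  have h3 := mem_centralizer_iff.mp hx _ hy'
  calc y * (g * x * g⁻¹) = g * (g⁻¹ * y * g * x) * g⁻¹ := by group
    _ = g * (x * (g⁻¹ * y * g)) * g⁻¹ := by rw [h3]
    _ = g * x * g⁻¹ * y := by group

namespace Wr

variable {S : Sylow 2 G} {P V₁ V₂ L₁ L₂ : Subgroup G} {M₁ : FiveMod V₁ L₁} {M₂ : FiveMod V₂ L₂}

section fin

variable [Finite G] (w : Wr S P M₁ M₂)
include w

/-- A 2-group `≥ S₁` which centralises `σ₁` and `σ₂` is `S₁`. -/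
theorem le_S₁_of_comm {R : Subgroup G} (hR : IsPGroup 2 R)
    (hS : (S : Subgroup G) ⊓ normalizer (V₁ : Set G) ≤ R) (h1 : ∀ r ∈ R, r * M₁.e ss = M₁.e ss * r)
    (h2 : ∀ r ∈ R, r * M₂.e ss = M₂.e ss * r) : R ≤ (S : Subgroup G) ⊓ normalizer (V₁ : Set G) := by
  set S₁ := (S : Subgroup G) ⊓ normalizer (V₁ : Set G) with hS₁
  have hz1 : M₁.e ss ∈ zc R := mem_zc.2 ⟨hS (w.V₁_le_S₁ (M₁.e_mem ss)), h1, e_sq' M₁ ss⟩
  have hz2 : M₂.e ss ∈ zc R := mem_zc.2 ⟨hS (w.V₂_le_S₁ (M₂.e_mem ss)), h2, e_sq' M₂ ss⟩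
  have hc1 := Half.card_le_sylow S hR
  have hc2 : Nat.card R ≠ Nat.card (S : Subgroup G) := by
    intro h0
    have h3 : Nat.card (zc R) ≤ 2 := by
      rw [Half.card_zc_of_card_eq S hR h0]
      exact w.card_zS
    have h4 := eq_of_card_le_two h3 hz1 hz2 (s_ne M₁) (s_ne M₂)
    exact s_ne M₁ (w.V₁_ne_V₂ (M₁.e_mem ss) (by rw [h4]; exact M₂.e_mem ss))
  have hc3 : Nat.card (S : Subgroup G) = 2 * Nat.card S₁ := w.card_S₁
  have hc4 : Nat.card R ≤ Nat.card S₁ := by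
    obtain ⟨a, ha⟩ := IsPGroup.iff_card.1 hR
    obtain ⟨b, hb⟩ := IsPGroup.iff_card.1 S.isPGroup'
    rw [ha, hb] at hc1 hc2
    rw [hb] at hc3
    rw [ha]
    have h4 : a < b := by
      rcases lt_trichotomy a b with h | h | h
      · exact h
      · exact absurd (by rw [h]) hc2
      · exact absurd ((Nat.pow_le_pow_iff_right (by norm_num : 1 < 2)).1 hc1) (by omega)
    have h5 : 2 ^ (a + 1) ≤ 2 ^ b := Nat.pow_le_pow_right (by norm_num) h4
    rw [pow_succ] at h5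
    omega
  exact (Subgroup.eq_of_le_of_card_ge hS hc4).ge

/-- `O₂(C_G(V₂)) ≤ S₁` -/
theorem o2_centralizer_le : o2 (centralizer (V₂ : Set G)) ≤ (S : Subgroup G) ⊓ normalizer (V₁ : Set G) := by
  set S₁ := (S : Subgroup G) ⊓ normalizer (V₁ : Set G) with hS₁
  have hSN : S₁ ≤ normalizer (V₂ : Set G) := by rw [hS₁, w.S₁_eq]; exact inf_le_right
  have hSO : S₁ ≤ normalizer ((o2 (centralizer (V₂ : Set G)) : Subgroup G) : Set G) :=
    (normalizer_cent hSN).trans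
      (ChoiceBase.normalizer_le_of_cj (F := fun X => o2 X) (fun g T => ChoiceBase.pCore_cj g T) _)
  have hL : L₁ ≤ centralizer (V₂ : Set G) := fun g hg => mem_centralizer_iff.2 fun v hv =>
    (w.L₁_comm hg hv).symm
  have hO1 : o2 (centralizer (V₂ : Set G)) ≤ centralizer (V₁ : Set G) :=
    w.half (o2_isPGroup _) (hL.trans (le_normalizer_o2 _)) hSO
  refine le_sup_right.trans (w.le_S₁_of_comm (R := S₁ ⊔ o2 (centralizer (V₂ : Set G))) ?_ le_sup_left ?_ ?_)
  · exact (S.isPGroup'.to_le inf_le_left).to_sup_of_normal_right' (o2_isPGroup _) hSO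
  · have : S₁ ⊔ o2 (centralizer (V₂ : Set G)) ≤ centralizer ({M₁.e ss} : Set G) :=
      sup_le (fun g hg => mem_C.2 (w.S₁_comm_s₁ hg)) fun g hg => mem_C.2
        (mem_centralizer_iff.1 (hO1 hg) _ (M₁.e_mem ss)).symm
    exact fun r hr => mem_C.1 (this hr)
  · have : S₁ ⊔ o2 (centralizer (V₂ : Set G)) ≤ centralizer ({M₂.e ss} : Set G) :=
      sup_le (fun g hg => mem_C.2 (w.S₁_comm_s₂ hg)) fun g hg => mem_C.2
        (mem_centralizer_iff.1 (o2_le _ hg) _ (M₂.e_mem ss)).symm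
    exact fun r hr => mem_C.1 (this hr)

end fin

end Wr

end Cfsg.Agent.Omega.IId.LFour

end

-- merged: Cfsg.Agent.Mrg.Omega.IId.LFour.TwoTypes
section

section


/-!
# `S₅ wr 2` against `S₅ wr 2`: two modules are reduced to one (project OMEGA, II.d L4, SwOne; helper242 #19319)

`w : Wr S P M₁ M₂`, `w' : Wr S' P' M₁' M₂'` with the same `n = e nn`, `a = e aa` in the first summands and
`N_S(V₁) = N_{S'}(V₁')`; `h ∈ C_G(n)` with `[V_P, V_{P'} ^ h] ≠ 1`. Then (helper107's LEMMA TWO, `TTn/TwoTypes.lean`)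
there is `k ∈ C_G(n)` with `[V₁', V₁' ^ k] ≠ 1`.

* `Wr.duo` : the configuration `Duo M₁ M₁' x h`;
* `Wr.exists_one` : the conclusion; `Wr.exists_one'` : from an arbitrary non-commuting pair of `V_P`, `V_{P'} ^ h`.
-/

set_option autoImplicit false
set_option linter.unusedSectionVars false

namespace Cfsg.Agent.Omega.IId.LFour

open Subgroup Pointwise Cfsg Cfsg.Agent.ZN Cfsg.Agent.Omega.MinPar Cfsg.Agent.Omega.FFThm
open Cfsg.Agent.ZN.ChoiceBase (cj mem_cj)
open Cfsg.Agent.Omega.S5.Mod Cfsg.Agent.Omega.S5.TT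
open Cfsg.Agent.Omega.S5.TT.Pos (n_ne mem_C)
open Cfsg.Agent.MinSimple.VModule (le_normalizer_o2 o2_isPGroup o2_le)

universe u

variable {G : Type u} [Group G]

namespace Wr

variable {S S' : Sylow 2 G} {P P' V₁ V₂ L₁ L₂ V₁' V₂' L₁' L₂' : Subgroup G} {M₁ : FiveMod V₁ L₁}
  {M₂ : FiveMod V₂ L₂} {M₁' : FiveMod V₁' L₁'} {M₂' : FiveMod V₂' L₂'}

section fin

variable [Finite G] (w : Wr S P M₁ M₂)
include w

/-- an element of `Q_n` which does not centralise `u ∈ V₁` acts as `(0 1)` -/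
theorem swap_of_ne {q u : G} (hq : q ∈ o2 (centralizer ({M₁.e nn} : Set G))) (hu : u ∈ V₁)
    (h : q * u ≠ u * q) : M₁.Ind q (Equiv.swap (0 : Fin 5) 1) := by
  refine (w.Q_ind hq).resolve_left fun h1 => h ?_
  exact (mem_centralizer_iff.1 (FiveMod.ind_one_iff.1 h1) u hu).symm

/-- The configuration `Duo` of LEMMA TWO. -/
theorem duo (w' : Wr S' P' M₁' M₂') (en : M₁'.e nn = M₁.e nn) (ea : M₁'.e aa = M₁.e aa)
    (hS : (S : Subgroup G) ⊓ normalizer (V₁ : Set G) = (S' : Subgroup G) ⊓ normalizer (V₁' : Set G)) {h : G}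
    (hn : h * M₁.e nn = M₁.e nn * h) {v u : G} (hv : v ∈ V₁') (hu : u ∈ V₁)
    (hne : h * v * h⁻¹ * u ≠ u * (h * v * h⁻¹)) : ∃ x, TTn.TwoTypes.Duo M₁ M₁' x h := by
  obtain ⟨x, hx, hi⟩ := w.exists_x
  have hxS : x ∈ (S' : Subgroup G) ⊓ normalizer (V₁' : Set G) := hS ▸ ⟨hx.1, hi.mem_normalizer⟩
  have hQ : ∀ g, g * M₁.e nn = M₁.e nn * g → ∀ q ∈ o2 (centralizer ({M₁.e nn} : Set G)),
      g * q * g⁻¹ ∈ o2 (centralizer ({M₁.e nn} : Set G)) := fun g hg q hq =>
    (mem_normalizer_iff.1 (le_normalizer_o2 _ (mem_C.2 hg)) q).1 hq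
  have hv₂ : V₁' ≤ o2 (centralizer ({M₁.e nn} : Set G)) := by rw [← en]; exact w'.V₁_le_Q
  have hn' : h⁻¹ * M₁.e nn = M₁.e nn * h⁻¹ := TTn.TwoTypes.inv_comm hn
  refine ⟨x, en, ea, fun q hq => w.Q_ind hq, fun q hq => w'.Q_ind (by rw [en]; exact hq), w.V₁_le_Q, hv₂,
    fun r hr => ?_, tt_n hi, hi.mem_normalizer, hxS.2, hn,
    ⟨v, hv, w.swap_of_ne (hQ h hn v (hv₂ hv)) hu hne⟩, u, hu, ?_⟩
  · have h1 : r ∈ (S' : Subgroup G) ⊓ normalizer (V₁' : Set G) := by
      have h2 := w'.symm.o2_centralizer_le hr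
      rwa [← w'.S₁_eq] at h2
    rw [← hS] at h1
    have h3 : r * M₁.e nn = M₁.e nn * r := by
      have h4 : M₁.e nn ∈ V₁' := by rw [← en]; exact M₁'.e_mem _
      exact (mem_centralizer_iff.1 (o2_le _ hr) _ h4).symm
    obtain ⟨p, q, hp, hi', -⟩ := w.T_ind ⟨h1.1, mem_C.2 h3⟩
    exact ⟨p, hp, hi'⟩
  · have h1 : h⁻¹ * u * h ∈ o2 (centralizer ({M₁.e nn} : Set G)) := by
      have := hQ _ hn' u (w.V₁_le_Q hu)
      rwa [inv_inv] at this
    refine w'.swap_of_ne (by rw [en]; exact h1) hv fun h2 => hne ?_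
    calc h * v * h⁻¹ * u = h * (v * (h⁻¹ * u * h)) * h⁻¹ := by group
      _ = h * (h⁻¹ * u * h * v) * h⁻¹ := by rw [h2]
      _ = u * (h * v * h⁻¹) := by group

/-- **LEMMA TWO for `S₅ wr 2`.** -/
theorem exists_one (w' : Wr S' P' M₁' M₂') (en : M₁'.e nn = M₁.e nn) (ea : M₁'.e aa = M₁.e aa)
    (hS : (S : Subgroup G) ⊓ normalizer (V₁ : Set G) = (S' : Subgroup G) ⊓ normalizer (V₁' : Set G)) {h : G}
    (hn : h * M₁.e nn = M₁.e nn * h) {v u : G} (hv : v ∈ V₁') (hu : u ∈ V₁)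
    (hne : h * v * h⁻¹ * u ≠ u * (h * v * h⁻¹)) :
    ∃ k, k * M₁'.e nn = M₁'.e nn * k ∧ ∃ v ∈ V₁', ∃ u ∈ V₁', k * v * k⁻¹ * u ≠ u * (k * v * k⁻¹) := by
  obtain ⟨x, d⟩ := w.duo w' en ea hS hn hv hu hne
  obtain ⟨k, hk, -, ⟨_, ⟨v', hv', rfl⟩, hi⟩, -, -⟩ := d.exists_one
  have hi : M₁'.Ind (k * v' * k⁻¹) (Equiv.swap (0 : Fin 5) 1) := hi
  refine ⟨k, hk, v', hv', M₁'.e ![0, 1, 1, 0, 0], M₁'.e_mem _, fun h1 => ?_⟩
  rcases (hi.commute_iff _).1 h1 with h2 | h2
  · exact absurd h2 (by decide)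
  · exact absurd h2 (by decide)

/-- The same, from an arbitrary non-commuting pair. -/
theorem exists_one' (w' : Wr S' P' M₁' M₂') (en : M₁'.e nn = M₁.e nn) (ea : M₁'.e aa = M₁.e aa)
    (hS : (S : Subgroup G) ⊓ normalizer (V₁ : Set G) = (S' : Subgroup G) ⊓ normalizer (V₁' : Set G)) {h : G}
    (hn : h * M₁.e nn = M₁.e nn * h) {v u : G} (hv : v ∈ zl (S' : Subgroup G) P') (hu : u ∈ zl (S : Subgroup G) P)
    (hne : h * v * h⁻¹ * u ≠ u * (h * v * h⁻¹)) :
    ∃ k, k * M₁'.e nn = M₁'.e nn * k ∧ ∃ v ∈ V₁', ∃ u ∈ V₁', k * v * k⁻¹ * u ≠ u * (k * v * k⁻¹) := by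
  have hQ : ∀ g, g * M₁.e nn = M₁.e nn * g → ∀ q ∈ o2 (centralizer ({M₁.e nn} : Set G)),
      g * q * g⁻¹ ∈ o2 (centralizer ({M₁.e nn} : Set G)) := fun g hg q hq =>
    (mem_normalizer_iff.1 (le_normalizer_o2 _ (mem_C.2 hg)) q).1 hq
  have hn' : h⁻¹ * M₁.e nn = M₁.e nn * h⁻¹ := TTn.TwoTypes.inv_comm hn
  obtain ⟨v₁, hv₁, v₂, hv₂, rfl⟩ : ∃ v₁ ∈ V₁', ∃ v₂ ∈ V₂', v₁ * v₂ = v := by
    have hN : V₂' ≤ normalizer (V₁' : Set G) := fun v hv =>
      centralizer_le_normalizer _ (mem_centralizer_iff.2 fun u hu => w'.comm hu hv)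
    have h2 : v ∈ ((V₁' ⊔ V₂' : Subgroup G) : Set G) := w'.sup ▸ hv
    rw [coe_mul_of_right_le_normalizer_left _ _ hN] at h2
    exact Set.mem_mul.1 h2
  obtain ⟨u₁, hu₁, u₂, hu₂, rfl⟩ : ∃ u₁ ∈ V₁, ∃ u₂ ∈ V₂, u₁ * u₂ = u := by
    have hN : V₂ ≤ normalizer (V₁ : Set G) := fun v hv =>
      centralizer_le_normalizer _ (mem_centralizer_iff.2 fun u hu => w.comm hu hv)
    have h2 : u ∈ ((V₁ ⊔ V₂ : Subgroup G) : Set G) := w.sup ▸ hu
    rw [coe_mul_of_right_le_normalizer_left _ _ hN] at h2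
    exact Set.mem_mul.1 h2
  refine w.exists_one w' en ea hS hn hv₁ hu₁ fun h1 => hne ?_
  -- `V₂'` is centralised by `Q_n`
  have hq₁ : v₁ ∈ o2 (centralizer ({M₁.e nn} : Set G)) := by rw [← en]; exact w'.V₁_le_Q hv₁
  have c1 : h * v₂ * h⁻¹ * (u₁ * u₂) = u₁ * u₂ * (h * v₂ * h⁻¹) := by
    have h2 : h⁻¹ * (u₁ * u₂) * h ∈ o2 (centralizer ({M₁'.e nn} : Set G)) := by
      rw [en]
      have := hQ _ hn' _ (mul_mem (w.V₁_le_Q hu₁) (w.quarter hu₂))
      rwa [inv_inv] at this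
    have h3 := mem_centralizer_iff.1 (w'.quarter_cent h2) v₂ hv₂
    calc h * v₂ * h⁻¹ * (u₁ * u₂) = h * (v₂ * (h⁻¹ * (u₁ * u₂) * h)) * h⁻¹ := by group
      _ = h * (h⁻¹ * (u₁ * u₂) * h * v₂) * h⁻¹ := by rw [h3]
      _ = u₁ * u₂ * (h * v₂ * h⁻¹) := by group
  have c2 : h * v₁ * h⁻¹ * u₂ = u₂ * (h * v₁ * h⁻¹) :=
    (mem_centralizer_iff.1 (w.quarter_cent (hQ h hn v₁ hq₁)) u₂ hu₂).symm
  calc h * (v₁ * v₂) * h⁻¹ * (u₁ * u₂) = h * v₁ * h⁻¹ * (h * v₂ * h⁻¹ * (u₁ * u₂)) := by group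
    _ = h * v₁ * h⁻¹ * (u₁ * u₂ * (h * v₂ * h⁻¹)) := by rw [c1]
    _ = h * v₁ * h⁻¹ * u₁ * u₂ * (h * v₂ * h⁻¹) := by group
    _ = u₁ * (h * v₁ * h⁻¹) * u₂ * (h * v₂ * h⁻¹) := by rw [h1]
    _ = u₁ * (h * v₁ * h⁻¹ * u₂) * (h * v₂ * h⁻¹) := by group
    _ = u₁ * (u₂ * (h * v₁ * h⁻¹)) * (h * v₂ * h⁻¹) := by rw [c2]
    _ = u₁ * u₂ * (h * (v₁ * v₂) * h⁻¹) := by group

end fin

end Wr

end Cfsg.Agent.Omega.IId.LFour

end

section


/-!
# A transfer argument on the Petersen graph (helper774)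

`ρ` an action of `Sym(5)` on an elementary abelian 2-group `A` (as a family of homomorphisms), `s i ∈ A`
(`i = 0, …, 4`) permuted by `Sym(5)`, with product 1, `τ ∈ A` fixed, and the fixed points of
`D₈ = ⟨(0 1), (2 3), (0 2)(1 3)⟩` are `1, s₄, τ, s₄τ`.  Then the fixed points of `⟨(0 1), (2 3)⟩` are the
eight elements `n^i a^j τ^k`, `n = s₀s₁`, `a = s₂s₃` (`fixed`).
-/

set_option autoImplicit false
set_option linter.unusedSectionVars false

namespace Cfsg.Agent.Omega.IId.LFour.Petersen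

/-- permutations of five points -/
abbrev Pm := Equiv.Perm (Fin 5)

/-- `(0 2)(1 3)` -/
def xx : Pm := Equiv.swap 0 2 * Equiv.swap 1 3

/-- the 3-cycle `2 → 3 → 4 → 2` -/
def hh : Pm := Equiv.swap 2 3 * Equiv.swap 3 4

/-- the 3-cycle `0 → 1 → 2 → 0` -/
def kk : Pm := Equiv.swap (0 : Fin 5) 1 * Equiv.swap (1 : Fin 5) 2

/-- the 5-cycle `i → i + 1` -/
def cc : Pm := ⟨fun i => i + 1, fun i => i - 1, by decide, by decide⟩

/-- representatives of the cosets of `D₈` -/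
def L15 : List Pm := (List.range 5).flatMap fun i => (List.range 3).map fun j => cc ^ i * kk ^ j

/-- representatives of the cosets of the stabilizer of `{0, 1}` -/
def L10 : List Pm := (List.range 5).flatMap fun i => (List.range 2).map fun j => cc ^ i * Equiv.swap (1 : Fin 5) 2 ^ j

/-- canonical representative modulo `⟨(0 1), (2 3)⟩` -/
def can1 (p : Pm) : Pm := if p 0 ≤ p 1 then p else p * Equiv.swap (0 : Fin 5) 1

def can2 (p : Pm) : Pm := if p 2 ≤ p 3 then p else p * Equiv.swap (2 : Fin 5) 3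

def can (p : Pm) : Pm := can2 (can1 p)

def La : List Pm := L10.flatMap fun g => [g, g * hh, g * hh * hh]

def Lb : List Pm := L15.flatMap fun r => [r, r * xx]

theorem perm_lists : (La.map can).Perm (Lb.map can) := by
  decide +kernel

variable {A : Type*} [CommGroup A]

/-- The data. -/
structure Dat (ρ : Pm → A →* A) (s : Fin 5 → A) (τ : A) : Prop where
  sq : ∀ a : A, a * a = 1
  one : ∀ a, ρ 1 a = a
  mul : ∀ p q a, ρ (p * q) a = ρ p (ρ q a)
  perm : ∀ p i, ρ p (s i) = s (p i)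
  prod : s 0 * s 1 * s 2 * s 3 * s 4 = 1
  fixτ : ∀ p, ρ p τ = τ
  τ_ne : τ ≠ 1
  fix : ∀ u, ρ (Equiv.swap 0 1) u = u → ρ (Equiv.swap 2 3) u = u → ρ xx u = u →
    u = 1 ∨ u = s 4 ∨ u = τ ∨ u = s 4 * τ

namespace Dat

variable {ρ : Pm → A →* A} {s : Fin 5 → A} {τ : A} (h : Dat ρ s τ)
include h

theorem s_four : s 0 * s 1 * (s 2 * s 3) = s 4 := by
  have h1 := h.prod
  calc s 0 * s 1 * (s 2 * s 3) = s 0 * s 1 * s 2 * s 3 * (s 4 * s 4) := by rw [h.sq]; group
    _ = s 0 * s 1 * s 2 * s 3 * s 4 * s 4 := by group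
    _ = s 4 := by rw [h1, one_mul]

theorem mul_fix {p q : Pm} {a : A} (hp : ρ p a = a) (hq : ρ q a = a) : ρ (p * q) a = a := by
  rw [h.mul, hq, hp]

section
variable {y : A} (h01 : ρ (Equiv.swap 0 1) y = y) (h23 : ρ (Equiv.swap 2 3) y = y)
include h01 h23

theorem can_eq (p : Pm) : ρ (can p) y = ρ p y := by
  have e1 : ∀ q : Pm, ρ (can1 q) y = ρ q y := by
    intro q
    unfold can1
    split_ifs
    · rfl
    · rw [h.mul, h01]
  have e2 : ∀ q : Pm, ρ (can2 q) y = ρ q y := by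
    intro q
    unfold can2
    split_ifs
    · rfl
    · rw [h.mul, h23]
  rw [can, e2, e1]

theorem xx01 {u : A} (hu : ρ (Equiv.swap (2 : Fin 5) 3) u = u) : ρ (Equiv.swap (0 : Fin 5) 1) (ρ xx u) = ρ xx u := by
  have e : (Equiv.swap (0 : Fin 5) 1 : Pm) * xx = xx * Equiv.swap (2 : Fin 5) 3 := by decide
  rw [← h.mul, e, h.mul, hu]

theorem xx23 {u : A} (hu : ρ (Equiv.swap (0 : Fin 5) 1) u = u) : ρ (Equiv.swap (2 : Fin 5) 3) (ρ xx u) = ρ xx u := by
  have e : (Equiv.swap (2 : Fin 5) 3 : Pm) * xx = xx * Equiv.swap (0 : Fin 5) 1 := by decide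
  rw [← h.mul, e, h.mul, hu]

/-- `u · u^x` is a fixed point of `D₈` -/
theorem norm_mem {u : A} (hu : ρ (Equiv.swap (0 : Fin 5) 1) u = u) (hu' : ρ (Equiv.swap (2 : Fin 5) 3) u = u) :
    u * ρ xx u = 1 ∨ u * ρ xx u = s 4 ∨ u * ρ xx u = τ ∨ u * ρ xx u = s 4 * τ := by
  refine h.fix _ ?_ ?_ ?_
  · rw [map_mul, hu, h.xx01 h01 h23 hu']
  · rw [map_mul, hu', h.xx23 h01 h23 hu]
  · have e : xx * xx = 1 := by decide
    rw [map_mul, ← h.mul, e, h.one, mul_comm]

theorem u_fix : ρ (Equiv.swap (0 : Fin 5) 1) (y * ρ hh y * ρ (hh * hh) y) = y * ρ hh y * ρ (hh * hh) y ∧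
    ρ (Equiv.swap (2 : Fin 5) 3) (y * ρ hh y * ρ (hh * hh) y) = y * ρ hh y * ρ (hh * hh) y := by
  have e1 : (Equiv.swap (0 : Fin 5) 1 : Pm) * hh = hh * Equiv.swap (0 : Fin 5) 1 := by decide
  have e2 : (Equiv.swap (0 : Fin 5) 1 : Pm) * (hh * hh) = (hh * hh) * Equiv.swap (0 : Fin 5) 1 := by decide
  have e3 : (Equiv.swap (2 : Fin 5) 3 : Pm) * hh = (hh * hh) * Equiv.swap (2 : Fin 5) 3 := by decide
  have e4 : (Equiv.swap (2 : Fin 5) 3 : Pm) * (hh * hh) = hh * Equiv.swap (2 : Fin 5) 3 := by decide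
  have f1 : ρ (Equiv.swap (0 : Fin 5) 1) (ρ hh y) = ρ hh y := by rw [← h.mul, e1, h.mul, h01]
  have f2 : ρ (Equiv.swap (0 : Fin 5) 1) (ρ (hh * hh) y) = ρ (hh * hh) y := by rw [← h.mul, e2, h.mul, h01]
  have f3 : ρ (Equiv.swap (2 : Fin 5) 3) (ρ hh y) = ρ (hh * hh) y := by rw [← h.mul, e3, h.mul, h23]
  have f4 : ρ (Equiv.swap (2 : Fin 5) 3) (ρ (hh * hh) y) = ρ hh y := by rw [← h.mul, e4, h.mul, h23]
  refine ⟨by rw [map_mul, map_mul, h01, f1, f2], ?_⟩
  rw [map_mul, map_mul, h23, f3, f4, mul_assoc, mul_assoc, mul_comm (ρ hh y)]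

/-- the transfer to the stabilizer of `{0, 1}` -/
theorem y3 (d : A) (hd : (y * ρ hh y * ρ (hh * hh) y) * ρ xx (y * ρ hh y * ρ (hh * hh) y) = d)
    (hd' : d = 1 ∨ d = τ) : y * ρ xx y = 1 ∨ y * ρ xx y = s 4 := by
  set u := y * ρ hh y * ρ (hh * hh) y with hu
  have u01 : ρ (Equiv.swap (0 : Fin 5) 1) u = u := (h.u_fix h01 h23).1
  have u23 : ρ (Equiv.swap (2 : Fin 5) 3) u = u := (h.u_fix h01 h23).2
  have uh : ρ hh u = u := by
    have e1 : hh * (hh * hh) = 1 := by decide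
    rw [hu, map_mul, map_mul, ← h.mul, ← h.mul, e1, h.one, mul_comm, ← mul_assoc]
  have dfix : ∀ p, ρ p d = d := by
    rcases hd' with rfl | rfl
    · intro p; exact map_one _
    · exact h.fixτ
  have ux : ρ xx u = u * d := by
    rw [← hd, ← mul_assoc, h.sq, one_mul]
  have uc : ∀ p, ρ (p * (xx * hh)) u = ρ p u * d := by
    intro p
    rw [h.mul, h.mul xx hh, uh, ux, map_mul, dfix]
  have hd1 : d = 1 := by
    have e : (1 : Pm) * (xx * hh) * (xx * hh) * (xx * hh) * (xx * hh) * (xx * hh) = 1 := by decide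
    have h2 : ρ (1 * (xx * hh) * (xx * hh) * (xx * hh) * (xx * hh) * (xx * hh)) u = u * d * d * d * d * d := by
      rw [uc, uc, uc, uc, uc, h.one]
    rw [e, h.one, mul_assoc (u * d * d) d d, h.sq, mul_one, mul_assoc u d d, h.sq, mul_one] at h2
    exact (mul_eq_left.1 h2.symm)
  rw [hd1, mul_one] at ux
  have hcc : ρ (xx * hh) u = u := h.mul_fix ux uh
  have h34 : ρ (Equiv.swap (3 : Fin 5) 4) u = u := by
    have e : (Equiv.swap (3 : Fin 5) 4 : Pm) = hh * Equiv.swap (2 : Fin 5) 3 * (hh * hh) := by decide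
    rw [e]
    exact h.mul_fix (h.mul_fix uh u23) (h.mul_fix uh uh)
  have h12 : ρ (Equiv.swap (1 : Fin 5) 2) u = u := by
    have e : (Equiv.swap (1 : Fin 5) 2 : Pm) = (xx * hh) * (xx * hh) * (xx * hh) * Equiv.swap (3 : Fin 5) 4 * ((xx * hh) * (xx * hh)) := by
      decide
    rw [e]
    exact h.mul_fix (h.mul_fix (h.mul_fix (h.mul_fix hcc hcc) hcc) h34) (h.mul_fix hcc hcc)
  have hc : ρ cc u = u := by
    have e : cc = Equiv.swap (1 : Fin 5) 2 * (xx * hh) * Equiv.swap (1 : Fin 5) 2 := by decide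
    rw [e]
    exact h.mul_fix (h.mul_fix h12 hcc) h12
  have hpow : ∀ (p : Pm), ρ p u = u → ∀ i : ℕ, ρ (p ^ i) u = u := by
    intro p hp i
    induction i with
    | zero => rw [pow_zero, h.one]
    | succ i ih => rw [pow_succ]; exact h.mul_fix ih hp
  have hL10 : ∀ g ∈ L10, ρ g u = u := by
    intro g hg
    simp only [L10, List.mem_flatMap, List.mem_map] at hg
    obtain ⟨i, -, j, -, rfl⟩ := hg
    exact h.mul_fix (hpow _ hc i) (hpow _ h12 j)
  -- the product over the 30 flags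
  have pa : (La.map fun q => ρ q y).prod = 1 := by
    have h2 : ∀ (L : List Pm), (∀ g ∈ L, ρ g u = u) →
        ((L.flatMap fun g => [g, g * hh, g * hh * hh]).map fun q => ρ q y).prod = u ^ L.length := by
      intro L
      induction L with
      | nil => intro _; simp
      | cons g L ih =>
        intro hL
        rw [List.flatMap_cons, List.map_append, List.prod_append, ih fun g' hg' => hL g' (List.mem_cons_of_mem _ hg'),
          List.length_cons, pow_succ']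
        congr 1
        rw [← hL g List.mem_cons_self, hu, map_mul, map_mul, ← h.mul, ← h.mul]
        simp only [List.map_cons, List.map_nil, List.prod_cons, List.prod_nil, mul_one, mul_assoc]
    have h3 := h2 L10 hL10
    have h4 : L10.length = 2 * 5 := by decide
    rw [h4, pow_mul, pow_two, h.sq, one_pow] at h3
    exact h3
  have pb : (Lb.map fun q => ρ q y).prod = (L15.map fun r => ρ r (y * ρ xx y)).prod := by
    have h2 : ∀ (L : List Pm), ((L.flatMap fun r => [r, r * xx]).map fun q => ρ q y).prod =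
        (L.map fun r => ρ r (y * ρ xx y)).prod := by
      intro L
      induction L with
      | nil => simp
      | cons g L ih =>
        rw [List.flatMap_cons, List.map_append, List.prod_append, ih, List.map_cons, List.prod_cons]
        congr 1
        simp only [List.map_cons, List.map_nil, List.prod_cons, List.prod_nil, mul_one, map_mul, h.mul]
    exact h2 L15
  have hc' : (fun q : Pm => ρ q y) = fun q => ρ (can q) y := by
    funext q
    exact (h.can_eq h01 h23 q).symm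
  have pab : (La.map fun q => ρ q y).prod = (Lb.map fun q => ρ q y).prod := by
    rw [hc']
    have h2 := (perm_lists.map fun q => ρ q y).prod_eq
    rw [List.map_map, List.map_map] at h2
    exact h2
  have hfin : (L15.map fun r => ρ r (y * ρ xx y)).prod = 1 := by rw [← pb, ← pab, pa]
  have hτ15 : ∀ (L : List Pm), (L.map fun r => ρ r τ).prod = τ ^ L.length := by
    intro L
    induction L with
    | nil => simp
    | cons g L ih => rw [List.map_cons, List.prod_cons, ih, h.fixτ, List.length_cons, pow_succ']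
  have h15 : L15.length = 2 * 7 + 1 := by decide
  have hτ' : (L15.map fun r => ρ r τ).prod = τ := by
    rw [hτ15, h15, pow_succ, pow_mul, pow_two, h.sq, one_pow, one_mul]
  have hs' : (L15.map fun r => ρ r (s 4)).prod = 1 := by
    have e1 : (fun r : Pm => ρ r (s 4)) = s ∘ fun r => r 4 := by
      funext r; exact h.perm r 4
    have e2 : L15.map (fun r => r 4) = [4, 4, 4, 0, 0, 0, 1, 1, 1, 2, 2, 2, 3, 3, 3] := by decide
    rw [e1, ← List.map_map, e2]
    simp only [List.map_cons, List.map_nil, List.prod_cons, List.prod_nil, mul_one]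
    calc _ = (s 0 * s 1 * s 2 * s 3 * s 4) * (s 0 * s 1 * s 2 * s 3 * s 4) * (s 0 * s 1 * s 2 * s 3 * s 4) := by
          simp only [mul_assoc, mul_comm, mul_left_comm]
      _ = 1 := by rw [h.prod]; simp
  rcases h.norm_mem h01 h23 h01 h23 with h2 | h2 | h2 | h2
  · exact Or.inl h2
  · exact Or.inr h2
  · rw [h2, hτ'] at hfin
    exact absurd hfin h.τ_ne
  · rw [h2] at hfin
    have e : (fun r : Pm => ρ r (s 4 * τ)) = fun r => ρ r (s 4) * ρ r τ := by
      funext r; exact map_mul _ _ _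
    rw [e, List.prod_map_mul, hs', hτ', one_mul] at hfin
    exact absurd hfin h.τ_ne

omit h01 h23 in
theorem n_fix : ρ (Equiv.swap (0 : Fin 5) 1) (s 0 * s 1) = s 0 * s 1 ∧ ρ (Equiv.swap (2 : Fin 5) 3) (s 0 * s 1) = s 0 * s 1 ∧
    ρ hh (s 0 * s 1) = s 0 * s 1 ∧ ρ xx (s 0 * s 1) = s 2 * s 3 := by
  refine ⟨?_, ?_, ?_, ?_⟩
  · rw [map_mul, h.perm, h.perm, show (Equiv.swap (0 : Fin 5) 1 : Pm) 0 = 1 by decide,
      show (Equiv.swap (0 : Fin 5) 1 : Pm) 1 = 0 by decide, mul_comm]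
  · rw [map_mul, h.perm, h.perm, show (Equiv.swap (2 : Fin 5) 3 : Pm) 0 = 0 by decide,
      show (Equiv.swap (2 : Fin 5) 3 : Pm) 1 = 1 by decide]
  · rw [map_mul, h.perm, h.perm, show hh 0 = 0 by decide, show hh 1 = 1 by decide]
  · rw [map_mul, h.perm, h.perm, show xx 0 = 2 by decide, show xx 1 = 3 by decide]

theorem norm_two : y * ρ xx y = 1 ∨ y * ρ xx y = s 4 := by
  obtain ⟨n, hn⟩ : ∃ n, n = s 0 * s 1 := ⟨_, rfl⟩
  have hnf := h.n_fix
  rw [← hn] at hnf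
  obtain ⟨n1, n2, n3, n4⟩ := hnf
  set u := y * ρ hh y * ρ (hh * hh) y with hu
  have u01 : ρ (Equiv.swap (0 : Fin 5) 1) u = u := (h.u_fix h01 h23).1
  have u23 : ρ (Equiv.swap (2 : Fin 5) 3) u = u := (h.u_fix h01 h23).2
  have key : ∀ d, u * ρ xx u = d → d = s 4 * 1 ∨ d = s 4 * τ → y * ρ xx y = 1 ∨ y * ρ xx y = s 4 := by
    intro d hd hd'
    have m01 : ρ (Equiv.swap (0 : Fin 5) 1) (y * n) = y * n := by rw [map_mul, h01, n1]
    have m23 : ρ (Equiv.swap (2 : Fin 5) 3) (y * n) = y * n := by rw [map_mul, h23, n2]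
    have n5 : ρ (hh * hh) n = n := h.mul_fix n3 n3
    have e3 : y * n * ρ hh (y * n) * ρ (hh * hh) (y * n) = u * n := by
      rw [map_mul, map_mul, n3, n5, hu]
      calc y * n * (ρ hh y * n) * (ρ (hh * hh) y * n) = y * ρ hh y * ρ (hh * hh) y * (n * n) * n := by
            simp only [mul_assoc, mul_comm, mul_left_comm]
        _ = _ := by rw [h.sq, mul_one]
    have e4 : ∀ v, v * n * ρ xx (v * n) = v * ρ xx v * s 4 := by
      intro v
      rw [map_mul, n4, ← h.s_four, ← hn]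
      simp only [mul_assoc, mul_comm, mul_left_comm]
    have h5 := h.y3 m01 m23 (u * n * ρ xx (u * n)) (by rw [e3]) (by
      rw [e4, hd]
      rcases hd' with rfl | rfl
      · left; rw [mul_one, h.sq]
      · right; rw [mul_comm, ← mul_assoc, h.sq, one_mul])
    rw [e4] at h5
    rcases h5 with h5 | h5
    · right
      calc y * ρ xx y = y * ρ xx y * (s 4 * s 4) := by rw [h.sq, mul_one]
        _ = s 4 := by rw [← mul_assoc, h5, one_mul]
    · left
      exact mul_eq_right.1 h5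
  rcases h.norm_mem h01 h23 u01 u23 with h2 | h2 | h2 | h2
  · exact h.y3 h01 h23 _ h2 (Or.inl rfl)
  · exact key _ h2 (Or.inl (mul_one _).symm)
  · exact h.y3 h01 h23 _ h2 (Or.inr rfl)
  · exact key _ h2 (Or.inr rfl)

/-- **The fixed points of `⟨(0 1), (2 3)⟩`.** -/
theorem fixed : ∃ v, (v = 1 ∨ v = s 4 ∨ v = τ ∨ v = s 4 * τ) ∧ (y = v ∨ y = s 0 * s 1 * v) := by
  obtain ⟨n1, n2, n3, n4⟩ := h.n_fix
  rcases h.norm_two h01 h23 with h2 | h2
  · refine ⟨y, h.fix y h01 h23 ?_, Or.inl rfl⟩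
    calc ρ xx y = y * y * ρ xx y := by rw [h.sq, one_mul]
      _ = y := by rw [mul_assoc, h2, mul_one]
  · refine ⟨s 0 * s 1 * y, h.fix _ (by rw [map_mul, n1, h01]) (by rw [map_mul, n2, h23]) ?_, Or.inr ?_⟩
    · rw [map_mul, n4]
      calc s 2 * s 3 * ρ xx y = s 2 * s 3 * (y * (y * ρ xx y)) := by rw [← mul_assoc y, h.sq, one_mul]
        _ = s 2 * s 3 * (y * (s 0 * s 1 * (s 2 * s 3))) := by rw [h2, h.s_four]
        _ = s 0 * s 1 * y * ((s 2 * s 3) * (s 2 * s 3)) := by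
          simp only [mul_assoc, mul_comm, mul_left_comm]
        _ = s 0 * s 1 * y := by rw [h.sq, mul_one]
    · rw [← mul_assoc, h.sq, one_mul]

end

end Dat

end Cfsg.Agent.Omega.IId.LFour.Petersen

end

end

private theorem dce_01b60b5c16f1 : _root_.True := by
  try have : _root_.True := by simp only [_root_.Cfsg.Agent.Omega.IId.LFour.TriLoc.sg.eq_1]
  try have : _root_.True := by simp only [_root_.Cfsg.Agent.Omega.IId.LFour.Petersen.L10.eq_1]
  try have : _root_.True := by simp only [_root_.Cfsg.Agent.Omega.IId.LFour.Petersen.can.eq_1]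
  exact _root_.True.intro
end

-- part: Mrg/Omega/TC/FrmRep
section
prune_inst 0x100000020000000000000000000010480000020040000050000000000630400000800040a00810000200000004004000000000000000000000000000000000800040000200a004060009800006000000000000000000000000000000041000000000000
set_option linter.all false
open scoped Cfsg.Agent.FastGrp

-- part: Mrg/Omega/OM/KTwo/Adj
section
-- merged: Cfsg.Agent.Mrg.Omega.OM.Delta.Form
section

section


/-!
# Symplectic form on an elementary abelian subgroup, radical `⟨r⟩` (for the DELTA LEMMA, helper564 #15873)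

* `Frm N r B` : `N` elementary abelian, `B` an alternating form on `N` with radical `⟨r⟩` (`r = 1` allowed);
* `Frm.dual` : every additive function on `N` killing `r` is `B n`;
* `Frm.const` : a function `ψ` with `ψ (x y) = ψ x + ψ y` whenever `B x y = 1` satisfies
  `ψ (x y) = ψ x + ψ y + κ` for a constant `κ`, for all `x ≠ y` orthogonal (`dim N / ⟨r⟩ ≥ 4`).
-/

set_option autoImplicit false
set_option linter.unusedSectionVars false

namespace Cfsg.Agent.Omega.OM.Delta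

open Subgroup

variable {G : Type*} [Group G]

theorem zt (a : ZMod 2) : a = 0 ∨ a = 1 := by
  revert a
  decide

theorem zt_add_self (a : ZMod 2) : a + a = 0 := by
  revert a
  decide

structure Frm (N : Subgroup G) (r : G) (B : G → G → ZMod 2) : Prop where
  comm : ∀ x ∈ N, ∀ y ∈ N, x * y = y * x
  sq : ∀ x ∈ N, x * x = 1
  B_mul : ∀ x ∈ N, ∀ y ∈ N, ∀ w ∈ N, B (x * y) w = B x w + B y w
  symm : ∀ x ∈ N, ∀ y ∈ N, B x y = B y x
  B_self : ∀ x ∈ N, B x x = 0
  r_mem : r ∈ N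
  B_r : ∀ x ∈ N, B x r = 0
  rad : ∀ x ∈ N, (∀ y ∈ N, B x y = 0) → x = 1 ∨ x = r

namespace Frm

variable {N : Subgroup G} {r : G} {B : G → G → ZMod 2} (O : Frm N r B)

include O

theorem B_mul' {x y w : G} (hx : x ∈ N) (hy : y ∈ N) (hw : w ∈ N) : B w (x * y) = B w x + B w y := by
  rw [O.symm w hw _ (mul_mem hx hy), O.B_mul x hx y hy w hw, O.symm x hx w hw, O.symm y hy w hw]

theorem B_one {x : G} (hx : x ∈ N) : B 1 x = 0 := by
  have h := O.B_mul 1 (one_mem N) 1 (one_mem N) x hx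
  rw [mul_one] at h
  exact (left_eq_add.1 h)

theorem B_one' {x : G} (hx : x ∈ N) : B x 1 = 0 := by rw [O.symm x hx 1 (one_mem N), O.B_one hx]

theorem B_r' {x : G} (hx : x ∈ N) : B r x = 0 := by rw [O.symm r O.r_mem x hx, O.B_r x hx]

theorem inv_eq {x : G} (hx : x ∈ N) : x⁻¹ = x := inv_eq_of_mul_eq_one_left (O.sq x hx)

theorem rr : r * r = 1 := O.sq r O.r_mem

theorem B_mul_r {x y : G} (hx : x ∈ N) (hy : y ∈ N) : B (x * r) y = B x y := by
  rw [O.B_mul x hx r O.r_mem y hy, O.B_r' hy, add_zero]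

theorem B_mul_r' {x y : G} (hx : x ∈ N) (hy : y ∈ N) : B x (y * r) = B x y := by
  rw [O.B_mul' hy O.r_mem hx, O.B_r x hx, add_zero]

/-- `B(·, y)` vanishing on `u^⊥` is `0` or `B(·, u)` -/
theorem eq_of_perp {u y : G} (hu : u ∈ N) (hy : y ∈ N) (h : ∀ x ∈ N, B x u = 0 → B x y = 0) :
    y = 1 ∨ y = r ∨ y = u ∨ y = u * r := by
  by_cases h1 : ∀ x ∈ N, B x y = 0
  · rcases O.rad y hy fun x hx => (O.symm y hy x hx).trans (h1 x hx) with h2 | h2
    · exact Or.inl h2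
    · exact Or.inr (Or.inl h2)
  push Not at h1
  obtain ⟨a, ha, ha1⟩ := h1
  have ha2 : B a y = 1 := (zt _).resolve_left ha1
  have ha3 : B a u = 1 := (zt _).resolve_left fun h3 => ha1 (h a ha h3)
  have h2 : ∀ x ∈ N, B (u * y) x = 0 := by
    intro x hx
    rw [O.B_mul u hu y hy x hx, O.symm u hu x hx, O.symm y hy x hx]
    rcases zt (B x u) with h3 | h3
    · rw [h3, h x hx h3, add_zero]
    · have h4 : B (x * a) u = 0 := by
        rw [O.B_mul x hx a ha u hu, h3, ha3]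
        decide
      have h5 := h _ (mul_mem hx ha) h4
      rw [O.B_mul x hx a ha y hy, ha2] at h5
      rw [h3]
      rcases zt (B x y) with h6 | h6
      · rw [h6] at h5
        exact absurd h5 (by decide)
      · rw [h6]
        decide
  have e : y = u * (u * y) := by rw [← mul_assoc, O.sq u hu, one_mul]
  rcases O.rad _ (mul_mem hu hy) h2 with h3 | h3
  · right; right; left
    rw [e, h3, mul_one]
  · right; right; right
    rw [e, h3]

theorem exists_B {u : G} (hu : u ∈ N) (hu1 : u ≠ 1) (hur : u ≠ r) : ∃ y ∈ N, B y u = 1 := by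
  by_contra hcon
  push Not at hcon
  rcases O.rad u hu fun y hy => (O.symm u hu y hy).trans ((zt _).resolve_right (hcon y hy)) with h | h
  · exact hu1 h
  · exact hur h

/-- **duality** -/
theorem dual [Finite N] (ψ : G → ZMod 2) (hψ : ∀ x ∈ N, ∀ y ∈ N, ψ (x * y) = ψ x + ψ y) (hr : ψ r = 0) :
    ∃ n ∈ N, ∀ x ∈ N, ψ x = B n x := by
  classical
  have := Fintype.ofFinite N
  -- the signs
  let s : ZMod 2 → ℤ := fun a => if a = 0 then 1 else -1
  have s_add : ∀ a b : ZMod 2, s (a + b) = s a * s b := by decide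
  have s_zero : ∀ a : ZMod 2, s a = 1 → a = 0 := by decide
  have s0 : s 0 = 1 := by decide
  -- the sum of the signs of a nonzero additive function is `0`
  have hsum : ∀ f : G → ZMod 2, (∀ x ∈ N, ∀ y ∈ N, f (x * y) = f x + f y) →
      (∑ x : N, s (f x)) = 0 ∨ ∀ x ∈ N, f x = 0 := by
    intro f hf
    by_cases h : ∀ x ∈ N, f x = 0
    · exact Or.inr h
    left
    push Not at h
    obtain ⟨y, hy, hfy⟩ := h
    have h1 : (∑ x : N, s (f x)) = ∑ x : N, s (f (x * ⟨y, hy⟩ : N)) :=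
      (Equiv.sum_comp (Equiv.mulRight (⟨y, hy⟩ : N)) fun x : N => s (f x)).symm
    have h2 : ∀ x : N, s (f (x * ⟨y, hy⟩ : N)) = - s (f x) := by
      intro x
      rw [coe_mul, hf _ x.2 _ hy, s_add]
      have : s (f y) = -1 := by
        have := (zt (f y)).resolve_left hfy
        rw [this]
        decide
      show s (f x) * s (f y) = _
      rw [this]
      ring
    have h3 : (∑ x : N, s (f (x * ⟨y, hy⟩ : N))) = - ∑ x : N, s (f x) := by
      rw [← Finset.sum_neg_distrib]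
      exact Finset.sum_congr rfl fun x _ => h2 x
    rw [h3] at h1
    omega
  -- one of the sums is `≠ 0`
  by_contra hcon
  push Not at hcon
  have hz : ∀ n : N, (∑ x : N, s (ψ x + B n x)) = 0 := by
    intro n
    refine (hsum (fun x => ψ x + B n x) ?_).resolve_right ?_
    · intro x hx y hy
      show ψ (x * y) + B n (x * y) = _
      rw [hψ x hx y hy, O.B_mul' hx hy n.2]
      ring
    · intro h
      obtain ⟨x, hx, hne⟩ := hcon n n.2
      apply hne
      have h1 : ψ x + B n x = 0 := h x hx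
      calc ψ x = ψ x + (B n x + B n x) := by rw [zt_add_self, add_zero]
        _ = B n x := by rw [← add_assoc, h1, zero_add]
  have hz2 : (∑ n : N, ∑ x : N, s (ψ x + B n x)) = 0 := Finset.sum_eq_zero fun n _ => hz n
  rw [Finset.sum_comm] at hz2
  have hx : ∀ x : N, 0 ≤ ∑ n : N, s (ψ x + B n x) := by
    intro x
    rcases hsum (fun n => B n x) (fun a ha b hb => O.B_mul a ha b hb x x.2) with h | h
    · have h1 : (∑ n : N, s (ψ x + B n x)) = s (ψ x) * ∑ n : N, s (B n x) := by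
        rw [Finset.mul_sum]
        exact Finset.sum_congr rfl fun n _ => s_add _ _
      rw [h1]
      have h2 : (∑ n : N, s (B n x)) = 0 := h
      rw [h2, mul_zero]
    · have h1 : ψ x = 0 := by
        rcases O.rad x x.2 fun y hy => (O.symm _ x.2 y hy).trans (h y hy) with h2 | h2
        · have := hψ 1 (one_mem N) 1 (one_mem N)
          rw [mul_one] at this
          rw [h2]
          exact left_eq_add.1 this
        · rw [h2, hr]
      apply Finset.sum_nonneg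
      intro n _
      have h2 : B n x = 0 := h n n.2
      rw [h1, h2, add_zero, s0]
      norm_num
  have h1 : (0 : ℤ) < ∑ x : N, ∑ n : N, s (ψ x + B n x) := by
    apply Finset.sum_pos'
    · exact fun x _ => hx x
    · refine ⟨1, Finset.mem_univ _, ?_⟩
      have h2 : ∀ n : N, s (ψ ((1 : N) : G) + B n ((1 : N) : G)) = 1 := by
        intro n
        have h3 : ψ ((1 : N) : G) = 0 := by
          have := hψ 1 (one_mem N) 1 (one_mem N)
          rw [mul_one] at this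
          exact left_eq_add.1 this
        have h4 : B n ((1 : N) : G) = 0 := O.B_one' n.2
        rw [h3, h4, add_zero, s0]
      rw [Finset.sum_congr rfl fun n _ => h2 n]
      simp only [Fintype.card_pos, _root_.Finset.sum_const, _root_.Finset.card_univ, _root_.Int.nsmul_eq_mul, _root_.mul_one, _root_.Int.natCast_pos, _root_.Fintype.card_pos]
  omega

/-- a common non-orthogonal vector in `v^⊥` -/
theorem exists_link {v x y : G} (hv : v ∈ N) (hx : x ∈ N) (hy : y ∈ N)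
    (hx1 : x ≠ 1) (hxr : x ≠ r) (hxv : x ≠ v) (hxvr : x ≠ v * r)
    (hy1 : y ≠ 1) (hyr : y ≠ r) (hyv : y ≠ v) (hyvr : y ≠ v * r) :
    ∃ w ∈ N, B w v = 0 ∧ B w x = 1 ∧ B w y = 1 := by
  obtain ⟨a, ha, ha0, ha1⟩ : ∃ a ∈ N, B a v = 0 ∧ B a x = 1 := by
    by_contra hcon
    push Not at hcon
    rcases O.eq_of_perp hv hx fun w hw hw0 => (zt _).resolve_right (hcon w hw hw0) with h | h | h | h
    · exact hx1 h
    · exact hxr h
    · exact hxv h
    · exact hxvr h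
  obtain ⟨b, hb, hb0, hb1⟩ : ∃ b ∈ N, B b v = 0 ∧ B b y = 1 := by
    by_contra hcon
    push Not at hcon
    rcases O.eq_of_perp hv hy fun w hw hw0 => (zt _).resolve_right (hcon w hw hw0) with h | h | h | h
    · exact hy1 h
    · exact hyr h
    · exact hyv h
    · exact hyvr h
  rcases zt (B a y) with h | h
  · rcases zt (B b x) with h' | h'
    · refine ⟨a * b, mul_mem ha hb, ?_, ?_, ?_⟩
      · rw [O.B_mul a ha b hb _ hv, ha0, hb0, add_zero]
      · rw [O.B_mul a ha b hb _ hx, ha1, h', add_zero]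
      · rw [O.B_mul a ha b hb _ hy, h, hb1, zero_add]
    · exact ⟨b, hb, hb0, h', hb1⟩
  · exact ⟨a, ha, ha0, ha1, h⟩

end Frm

/-- `ψ (x y) = ψ x + ψ y` for `B x y = 1` -/
structure Hyp (N : Subgroup G) (r : G) (B : G → G → ZMod 2) (ψ : G → ZMod 2) : Prop where
  one : ψ 1 = 0
  mul_r : ∀ x ∈ N, ψ (x * r) = ψ x
  add : ∀ x ∈ N, ∀ y ∈ N, B x y = 1 → ψ (x * y) = ψ x + ψ y

/-- `x` is not in the radical -/
def NR (r x : G) : Prop := x ≠ 1 ∧ x ≠ r

/-- `ψ (x y) = ψ x + ψ y + κ` for the good orthogonal pairs -/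
def Cst (N : Subgroup G) (r : G) (B : G → G → ZMod 2) (ψ : G → ZMod 2) (κ : ZMod 2) : Prop :=
  ∀ x ∈ N, ∀ y ∈ N, NR r x → NR r y → NR r (x * y) → B x y = 0 → ψ x + ψ y + ψ (x * y) = κ

/-- `dim N / ⟨r⟩ ≥ 4` -/
def Big (N : Subgroup G) (r : G) (B : G → G → ZMod 2) : Prop :=
  ∀ y ∈ N, NR r y → ∃ u ∈ N, B u y = 0 ∧ NR r u ∧ NR r (u * y)

namespace Frm

variable {N : Subgroup G} {r : G} {B : G → G → ZMod 2} (O : Frm N r B)

include O

theorem nr_mul_ne {x y : G} (hy : y ∈ N) (h : NR r (x * y)) : x ≠ y ∧ x ≠ y * r := by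
  refine ⟨fun e => h.1 ?_, fun e => h.2 ?_⟩
  · rw [e, O.sq y hy]
  · rw [e, mul_assoc, O.comm r O.r_mem y hy, ← mul_assoc, O.sq y hy, one_mul]

theorem stepA {ψ : G → ZMod 2} (h : Hyp N r B ψ) {x x' y : G} (hx : x ∈ N) (hx' : x' ∈ N) (hy : y ∈ N)
    (hxy : B x y = 0) (hxy' : B x' y = 0) (hxx : B x x' = 1) :
    ψ x + ψ y + ψ (x * y) = ψ x' + ψ y + ψ (x' * y) := by
  have hw : x * x' ∈ N := mul_mem hx hx'
  have e1 : x * (x * x') = x' := by rw [← mul_assoc, O.sq x hx, one_mul]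
  have e2 : x * y * (x * x') = x' * y := by
    rw [O.comm x hx y hy, mul_assoc, e1, O.comm y hy x' hx']
  have h1 := h.add x hx _ hw (by rw [O.B_mul' hx hx' hx, O.B_self x hx, hxx, zero_add])
  have h2 := h.add (x * y) (mul_mem hx hy) _ hw (by
    rw [O.B_mul x hx y hy _ hw, O.B_mul' hx hx' hx, O.B_self x hx, hxx, O.B_mul' hx hx' hy,
      O.symm y hy x hx, O.symm y hy x' hx', hxy, hxy']
    decide)
  rw [e1] at h1
  rw [e2] at h2
  rw [h1, h2]
  generalize ψ x = a, ψ y = b, ψ (x * y) = c, ψ (x * x') = d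
  revert a b c d
  decide

theorem stepB {ψ : G → ZMod 2} (h : Hyp N r B ψ) {x x' y : G} (hx : x ∈ N) (hx' : x' ∈ N) (hy : y ∈ N)
    (nx : NR r x) (nx' : NR r x') (nxy : NR r (x * y)) (nxy' : NR r (x' * y))
    (hxy : B x y = 0) (hxy' : B x' y = 0) :
    ψ x + ψ y + ψ (x * y) = ψ x' + ψ y + ψ (x' * y) := by
  have h1 := O.nr_mul_ne hy nxy
  have h2 := O.nr_mul_ne hy nxy'
  obtain ⟨w, hw, hwy, hwx, hwx'⟩ := O.exists_link hy hx hx' nx.1 nx.2 h1.1 h1.2 nx'.1 nx'.2 h2.1 h2.2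
  rw [O.stepA h hx hw hy hxy hwy (by rw [O.symm x hx w hw, hwx]),
    ← O.stepA h hx' hw hy hxy' hwy (by rw [O.symm x' hx' w hw, hwx'])]

theorem const (hbig : Big N r B) {ψ : G → ZMod 2} (h : Hyp N r B ψ) : ∃ κ, Cst N r B ψ κ := by
  have key : ∀ x ∈ N, ∀ y ∈ N, NR r x → NR r y → NR r (x * y) → B x y = 0 →
      ∀ x' ∈ N, ∀ y' ∈ N, NR r x' → NR r y' → NR r (x' * y') → B x' y' = 0 →
      ψ x + ψ y + ψ (x * y) = ψ x' + ψ y' + ψ (x' * y') := by
    intro x hx y hy nx ny nxy hxy x' hx' y' hy' nx' ny' nxy' hxy'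
    have sym : ∀ a ∈ N, ∀ b ∈ N, ψ a + ψ b + ψ (a * b) = ψ b + ψ a + ψ (b * a) := by
      intro a ha b hb
      rw [O.comm a ha b hb, add_comm (ψ a)]
    rcases zt (B y y') with hB | hB
    · by_cases e : y' = y
      · subst e
        exact O.stepB h hx hx' hy nx nx' nxy nxy' hxy hxy'
      by_cases e' : y' = y * r
      · subst e'
        have e1 : x' * (y * r) = x' * y * r := by group
        have nxy'' : NR r (x' * y) := by
          rw [e1] at nxy'
          refine ⟨fun e2 => nxy'.2 (by rw [e2, one_mul]), fun e2 => nxy'.1 (by rw [e2, O.rr])⟩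
        rw [h.mul_r y hy, e1, h.mul_r _ (mul_mem hx' hy)]
        exact O.stepB h hx hx' hy nx nx' nxy nxy'' hxy (by rw [← O.B_mul_r' hx' hy, hxy'])
      have nyy : NR r (y * y') := by
        refine ⟨fun e2 => e ?_, fun e2 => e' ?_⟩
        · calc y' = y * y * y' := by rw [O.sq y hy, one_mul]
            _ = y := by rw [mul_assoc, e2, mul_one]
        · calc y' = y * y * y' := by rw [O.sq y hy, one_mul]
            _ = y * r := by rw [mul_assoc, e2]
      have nyy' : NR r (y' * y) := by rw [O.comm y' hy' y hy]; exact nyy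
      rw [O.stepB h hx hy' hy nx ny' nxy nyy' hxy (by rw [O.symm y' hy' y hy, hB]), sym y' hy' y hy,
        O.stepB h hy hx' hy' ny nx' nyy nxy' hB hxy']
    · -- a common orthogonal vector
      obtain ⟨u, hu, huy, huy', nu⟩ : ∃ u ∈ N, B u y = 0 ∧ B u y' = 0 ∧ NR r u := by
        obtain ⟨u, hu, huy, nu, nuy⟩ := hbig y hy ny
        rcases zt (B u y') with h1 | h1
        · exact ⟨u, hu, huy, h1, nu⟩
        · refine ⟨u * y, mul_mem hu hy, ?_, ?_, nuy⟩
          · rw [O.B_mul u hu y hy y hy, huy, O.B_self y hy, add_zero]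
          · rw [O.B_mul u hu y hy y' hy', h1, hB]
            decide
      have hne : ∀ a ∈ N, ∀ b ∈ N, B u a = 0 → B a b = 1 → B u b = 0 → NR r (u * a) := by
        intro a ha b hb hua hab hub
        refine ⟨fun e => ?_, fun e => ?_⟩
        · have e1 : u = a := by
            calc u = u * (a * a) := by rw [O.sq a ha, mul_one]
              _ = a := by rw [← mul_assoc, e, one_mul]
          rw [e1, hab] at hub
          exact absurd hub (by decide)
        · have e1 : u = a * r := by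
            calc u = u * (a * a) := by rw [O.sq a ha, mul_one]
              _ = r * a := by rw [← mul_assoc, e]
              _ = a * r := O.comm _ O.r_mem _ ha
          rw [e1, O.B_mul_r ha hb, hab] at hub
          exact absurd hub (by decide)
      have n1 : NR r (u * y) := hne y hy y' hy' huy hB huy'
      have n2 : NR r (u * y') := hne y' hy' y hy huy' (by rw [O.symm y' hy' y hy, hB]) huy
      have n1' : NR r (y * u) := by rw [O.comm y hy u hu]; exact n1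
      have n2' : NR r (y' * u) := by rw [O.comm y' hy' u hu]; exact n2
      rw [O.stepB h hx hu hy nx nu nxy n1 hxy huy, sym u hu y hy,
        O.stepB h hy hy' hu ny ny' n1' n2' (by rw [O.symm y hy u hu, huy]) (by rw [O.symm y' hy' u hu, huy']),
        sym y' hy' u hu, O.stepB h hu hx' hy' nu nx' n2 nxy' huy' hxy']
  by_cases hex : ∃ x ∈ N, ∃ y ∈ N, NR r x ∧ NR r y ∧ NR r (x * y) ∧ B x y = 0
  · obtain ⟨x, hx, y, hy, nx, ny, nxy, hxy⟩ := hex
    exact ⟨ψ x + ψ y + ψ (x * y), fun x' hx' y' hy' nx' ny' nxy' hxy' =>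
      key x' hx' y' hy' nx' ny' nxy' hxy' x hx y hy nx ny nxy hxy⟩
  · exact ⟨0, fun x' hx' y' hy' nx' ny' nxy' hxy' => absurd ⟨x', hx', y', hy', nx', ny', nxy', hxy'⟩ hex⟩

/-- `κ = 0` : `ψ` is additive -/
theorem add_of_cst {ψ : G → ZMod 2} (h : Hyp N r B ψ) (hc : Cst N r B ψ 0) :
    ∀ x ∈ N, ∀ y ∈ N, ψ (x * y) = ψ x + ψ y := by
  have hr : ψ r = 0 := by
    have := h.mul_r 1 (one_mem N)
    rwa [one_mul, h.one] at this
  intro x hx y hy
  rcases zt (B x y) with hB | hB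
  · by_cases h1 : x = 1
    · rw [h1, one_mul, h.one, zero_add]
    by_cases h2 : x = r
    · rw [h2, hr, O.comm r O.r_mem y hy, h.mul_r y hy, zero_add]
    by_cases h3 : y = 1
    · rw [h3, mul_one, h.one, add_zero]
    by_cases h4 : y = r
    · rw [h4, hr, h.mul_r x hx, add_zero]
    by_cases h5 : x * y = 1
    · have e : x = y := by
        calc x = x * (y * y) := by rw [O.sq y hy, mul_one]
          _ = y := by rw [← mul_assoc, h5, one_mul]
      rw [h5, h.one, e, zt_add_self]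
    by_cases h6 : x * y = r
    · have e : x = y * r := by
        calc x = x * (y * y) := by rw [O.sq y hy, mul_one]
          _ = r * y := by rw [← mul_assoc, h6]
          _ = y * r := O.comm _ O.r_mem _ hy
      rw [h6, hr, e, h.mul_r y hy, zt_add_self]
    have h7 := hc x hx y hy ⟨h1, h2⟩ ⟨h3, h4⟩ ⟨h5, h6⟩ hB
    calc ψ (x * y) = (ψ x + ψ y + ψ (x * y)) + (ψ x + ψ y) := by
          generalize ψ x = a, ψ y = b, ψ (x * y) = c
          revert a b c
          decide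
      _ = ψ x + ψ y := by rw [h7, zero_add]
  · exact h.add x hx y hy hB

end Frm

end Cfsg.Agent.Omega.OM.Delta

end

section


/-!
# The DELTA LEMMA (helper564 #15873 (D) (1), (2); `blueprints/OMEGA-NO3S-II-helper564.md`), abstract form

`C` acts on the elementary abelian group `F ≥ N`, `B` is the form of `N` with radical `⟨r⟩` (`r = 1` in case (NR)),
`Om` is the set of points of `N` ((R): the singular vectors, (NR): `N - 1`), `D b ≤ C` (`b ∈ Om`) acts on `F` as ONE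
transvection with centre `b r`, nontrivially on `N`.

* `Dat.exists_mul` : (1) `|F : N Δ| ≤ 2`, `Δ = Dl F Om D = C_F(⟨D b⟩)`;
* `Dat.exists_conj` : `E = ⟨D b⟩` is transitive on `Om`; `Dat.conj_mem` : it centralises `F / N`;
* `HDat` : the subgroups `H b` (`b ∈ Om`) with `F = N ⟨H b⟩`, no invariant subgroup of index 2;
* `HDat.sup` : `F = N (H b)` for every `b`; `HDat.rep` : `F = N Δ`; `HDat.mem` : `H b ≤ ⟨b⟩ Δ`;
* **`HDat.mem_iff`** ((R)) : `H b = ⟨b⟩ Δ` for every `b ∈ Om`, `HDat.Dl_le` : `Δ ≤ H b`;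
* **`HDat.eq`** ((NR)) : `H b = Δ` for every `b ∈ Om`.
-/

set_option autoImplicit false
set_option linter.unusedSectionVars false

namespace Cfsg.Agent.Omega.OM.Delta

open Subgroup

variable {G : Type*} [Group G]

/-- the data of the DELTA LEMMA -/
structure Dat (C N F : Subgroup G) (r : G) (Om : Set G) (B : G → G → ZMod 2) (D : G → Subgroup G) : Prop
    extends Frm N r B where
  N_le : N ≤ F
  F_comm : ∀ x ∈ F, ∀ y ∈ F, x * y = y * x
  F_sq : ∀ x ∈ F, x * x = 1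
  C_F : ∀ c ∈ C, ∀ x ∈ F, c * x * c⁻¹ ∈ F
  C_N : ∀ c ∈ C, ∀ x ∈ N, c * x * c⁻¹ ∈ N
  C_Om : ∀ c ∈ C, ∀ b ∈ Om, c * b * c⁻¹ ∈ Om
  B_conj : ∀ c ∈ C, ∀ x ∈ N, ∀ y ∈ N, B (c * x * c⁻¹) (c * y * c⁻¹) = B x y
  om_mem : ∀ b ∈ Om, b ∈ N
  om_nr : ∀ b ∈ Om, NR r b
  om_hyp : ∀ b ∈ Om, ∀ b' ∈ Om, B b b' = 1 → b * b' * r ∈ Om
  om_line : ∀ b ∈ Om, ∀ b' ∈ Om, B b b' = 0 → b ≠ b' → b * b' ∈ Om
  om_rep : ∀ x ∈ N, NR r x → x ∈ Om ∨ x * r ∈ Om
  om_uni : ∀ b ∈ Om, b * r ∈ Om → r = 1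
  big : Big N r B
  D_le : ∀ b ∈ Om, D b ≤ C
  D_conj : ∀ b ∈ Om, ∀ g ∈ C, ∀ d ∈ D b, g * d * g⁻¹ ∈ D (g * b * g⁻¹)
  D_F : ∀ b ∈ Om, ∀ d ∈ D b, ∀ x ∈ F, d * x * d⁻¹ = x ∨ d * x * d⁻¹ = x * (b * r)
  D_N : ∀ b ∈ Om, ∃ d ∈ D b, ∃ x ∈ N, d * x * d⁻¹ ≠ x
  D_cen : ∀ b ∈ Om, ∀ d ∈ D b, (∀ x ∈ N, d * x * d⁻¹ = x) → ∀ x ∈ F, d * x * d⁻¹ = x

/-- the functional of `D b` -/
noncomputable def fb (D : G → Subgroup G) (b x : G) : ZMod 2 :=
  open Classical in if ∀ d ∈ D b, d * x * d⁻¹ = x then 0 else 1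

/-- `t ∈ D b` acts on `N` as the transvection with centre `b r` -/
structure Mov (N : Subgroup G) (r : G) (B : G → G → ZMod 2) (D : G → Subgroup G) (b t : G) : Prop where
  mem : t ∈ D b
  zero : ∀ x ∈ N, B x b = 0 → t * x * t⁻¹ = x
  one : ∀ x ∈ N, B x b = 1 → t * x * t⁻¹ = x * (b * r)

/-- the union of the `D b` -/
def DU (Om : Set G) (D : G → Subgroup G) : Set G := {d | ∃ b ∈ Om, d ∈ D b}

/-- `Δ` -/
def Dl (F : Subgroup G) (Om : Set G) (D : G → Subgroup G) : Subgroup G := F ⊓ centralizer (DU Om D)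

/-- the function `b ↦ f_b(x)`, extended to `N` -/
noncomputable def ps (r : G) (Om : Set G) (D : G → Subgroup G) (x y : G) : ZMod 2 :=
  open Classical in if y ∈ Om then fb D y x else if y * r ∈ Om then fb D (y * r) x else 0

namespace Dat

variable {C N F : Subgroup G} {r : G} {Om : Set G} {B : G → G → ZMod 2} {D : G → Subgroup G}
  (h : Dat C N F r Om B D)

include h

theorem br_ne {b : G} (hb : b ∈ Om) : b * r ≠ 1 := fun e => (h.om_nr b hb).2 (by
  calc b = b * (r * r) := by rw [h.rr, mul_one]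
    _ = r := by rw [← mul_assoc, e, one_mul])

theorem br_mem {b : G} (hb : b ∈ Om) : b * r ∈ N := mul_mem (h.om_mem b hb) h.r_mem

/-- an element of `D b` moving `N` acts as the transvection -/
theorem mov_of {b d x : G} (hb : b ∈ Om) (hd : d ∈ D b) (hx : x ∈ N) (hne : d * x * d⁻¹ ≠ x) :
    Mov N r B D b d := by
  have hbN := h.om_mem b hb
  have hbr := h.br_mem hb
  have hF : ∀ y ∈ N, d * y * d⁻¹ = y ∨ d * y * d⁻¹ = y * (b * r) := fun y hy => h.D_F b hb d hd y (h.N_le hy)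
  have hsq : b * r * (b * r) = 1 := h.sq _ hbr
  have hxm : d * x * d⁻¹ = x * (b * r) := (hF x hx).resolve_left hne
  -- fixed elements are orthogonal to `b`
  have hfix : ∀ y ∈ N, d * y * d⁻¹ = y → B y b = 0 := by
    intro y hy hy1
    have h1 := h.B_conj d (h.D_le b hb hd) x hx y hy
    rw [hxm, hy1, h.B_mul x hx _ hbr y hy, h.B_mul b hbN r h.r_mem y hy, h.B_r' hy, add_zero] at h1
    have h2 : B x y + B b y = B x y + 0 := by rw [h1, add_zero]
    rw [h.symm y hy b hbN]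
    exact add_left_cancel h2
  obtain ⟨y1, hy1, hB1⟩ := h.exists_B hbN (h.om_nr b hb).1 (h.om_nr b hb).2
  have hm1 : d * y1 * d⁻¹ = y1 * (b * r) := (hF y1 hy1).resolve_left fun e => by
    rw [hfix y1 hy1 e] at hB1
    exact absurd hB1 (by decide)
  refine ⟨hd, fun y hy hB => ?_, fun y hy hB => (hF y hy).resolve_left fun e => ?_⟩
  · refine (hF y hy).resolve_right fun e => ?_
    have e1 : d * (y * y1) * d⁻¹ = y * y1 := by
      calc d * (y * y1) * d⁻¹ = d * y * d⁻¹ * (d * y1 * d⁻¹) := by group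
        _ = y * (b * r) * (y1 * (b * r)) := by rw [e, hm1]
        _ = y * (b * r * (b * r)) * y1 := by
          rw [h.comm y1 hy1 _ hbr]; group
        _ = y * y1 := by rw [hsq, mul_one]
    have h1 := hfix _ (mul_mem hy hy1) e1
    rw [h.B_mul y hy y1 hy1 b hbN, hB, hB1] at h1
    exact absurd h1 (by decide)
  · rw [hfix y hy e] at hB
    exact absurd hB (by decide)

theorem exists_mov {b : G} (hb : b ∈ Om) : ∃ t, Mov N r B D b t := by
  obtain ⟨d, hd, x, hx, hne⟩ := h.D_N b hb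
  exact ⟨d, h.mov_of hb hd hx hne⟩

/-- all elements of `D b` act on `F` as `1` or as `t` -/
theorem same {b t d : G} (hb : b ∈ Om) (ht : Mov N r B D b t) (hd : d ∈ D b) :
    (∀ x ∈ F, d * x * d⁻¹ = x) ∨ ∀ x ∈ F, d * x * d⁻¹ = t * x * t⁻¹ := by
  by_cases hc : ∀ x ∈ N, d * x * d⁻¹ = x
  · exact Or.inl (h.D_cen b hb d hd hc)
  right
  push Not at hc
  obtain ⟨x0, hx0, hne⟩ := hc
  have hm := h.mov_of hb hd hx0 hne
  have h1 : ∀ x ∈ N, t⁻¹ * d * x * (t⁻¹ * d)⁻¹ = x := by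
    intro x hx
    have h2 : d * x * d⁻¹ = t * x * t⁻¹ := by
      rcases zt (B x b) with hB | hB
      · rw [hm.zero x hx hB, ht.zero x hx hB]
      · rw [hm.one x hx hB, ht.one x hx hB]
    calc t⁻¹ * d * x * (t⁻¹ * d)⁻¹ = t⁻¹ * (d * x * d⁻¹) * t := by group
      _ = x := by rw [h2]; group
  intro x hx
  have h2 := h.D_cen b hb _ (mul_mem (inv_mem ht.mem) hd) h1 x hx
  calc d * x * d⁻¹ = t * (t⁻¹ * d * x * (t⁻¹ * d)⁻¹) * t⁻¹ := by group
    _ = t * x * t⁻¹ := by rw [h2]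

theorem fb_or {b t x : G} (hb : b ∈ Om) (ht : Mov N r B D b t) (hx : x ∈ F) :
    (fb D b x = 0 ∧ t * x * t⁻¹ = x) ∨ (fb D b x = 1 ∧ t * x * t⁻¹ = x * (b * r)) := by
  classical
  by_cases h1 : t * x * t⁻¹ = x
  · left
    refine ⟨if_pos fun d hd => ?_, h1⟩
    rcases h.same hb ht hd with h2 | h2
    · exact h2 x hx
    · rw [h2 x hx, h1]
  · right
    exact ⟨if_neg fun h2 => h1 (h2 t ht.mem), (h.D_F b hb t ht.mem x hx).resolve_left h1⟩

theorem fb_zero_iff {b x : G} : fb D b x = 0 ↔ ∀ d ∈ D b, d * x * d⁻¹ = x := by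
  classical
  constructor
  · intro h1
    by_contra h2
    rw [fb, if_neg h2] at h1
    exact absurd h1 (by decide)
  · exact fun h1 => if_pos h1

theorem fb_mul {b x y : G} (hb : b ∈ Om) (hx : x ∈ F) (hy : y ∈ F) : fb D b (x * y) = fb D b x + fb D b y := by
  obtain ⟨t, ht⟩ := h.exists_mov hb
  have hbr : b * r ∈ F := h.N_le (h.br_mem hb)
  have hne := h.br_ne hb
  have e : t * (x * y) * t⁻¹ = t * x * t⁻¹ * (t * y * t⁻¹) := by group
  have hsq : b * r * (b * r) = 1 := h.F_sq _ hbr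
  rcases h.fb_or hb ht hx with ⟨h1, h1'⟩ | ⟨h1, h1'⟩ <;> rcases h.fb_or hb ht hy with ⟨h2, h2'⟩ | ⟨h2, h2'⟩ <;>
    rcases h.fb_or hb ht (mul_mem hx hy) with ⟨h3, h3'⟩ | ⟨h3, h3'⟩ <;> rw [h1, h2, h3]
  · decide
  · exfalso
    rw [e, h1', h2'] at h3'
    exact hne (left_eq_mul.1 h3')
  · exfalso
    rw [e, h1', h2', ← mul_assoc] at h3'
    exact hne (mul_eq_left.1 h3')
  · decide
  · exfalso
    rw [e, h1', h2', mul_assoc, h.F_comm _ hbr y hy, ← mul_assoc] at h3'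
    exact hne (mul_eq_left.1 h3')
  · decide
  · decide
  · exfalso
    rw [e, h1', h2'] at h3'
    have e2 : x * (b * r) * (y * (b * r)) = x * y := by
      rw [h.F_comm y hy _ hbr]
      calc x * (b * r) * (b * r * y) = x * (b * r * (b * r)) * y := by group
        _ = x * y := by rw [hsq, mul_one]
    rw [e2] at h3'
    exact hne (left_eq_mul.1 h3')

theorem fb_N {b x : G} (hb : b ∈ Om) (hx : x ∈ N) : fb D b x = B x b := by
  obtain ⟨t, ht⟩ := h.exists_mov hb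
  have hne := h.br_ne hb
  rcases zt (B x b) with hB | hB
  · rcases h.fb_or hb ht (h.N_le hx) with ⟨h1, -⟩ | ⟨-, h1⟩
    · rw [h1, hB]
    · rw [ht.zero x hx hB] at h1
      exact absurd (left_eq_mul.1 h1) hne
  · rcases h.fb_or hb ht (h.N_le hx) with ⟨-, h1⟩ | ⟨h1, -⟩
    · rw [ht.one x hx hB] at h1
      exact absurd (mul_eq_left.1 h1) hne
    · rw [h1, hB]

theorem fb_conj {b x g : G} (hb : b ∈ Om) (hg : g ∈ C) : fb D (g * b * g⁻¹) (g * x * g⁻¹) = fb D b x := by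
  have key : ∀ b' ∈ Om, ∀ g' ∈ C, ∀ x', fb D b' x' = 0 → fb D (g' * b' * g'⁻¹) (g' * x' * g'⁻¹) = 0 := by
    intro b' hb' g' hg' x' h0
    rw [h.fb_zero_iff] at h0 ⊢
    intro d hd
    have h1 := h.D_conj _ (h.C_Om g' hg' b' hb') g'⁻¹ (inv_mem hg') d hd
    have e : g'⁻¹ * (g' * b' * g'⁻¹) * g'⁻¹⁻¹ = b' := by group
    rw [e] at h1
    have h2 := h0 _ h1
    calc d * (g' * x' * g'⁻¹) * d⁻¹
        = g' * (g'⁻¹ * d * g'⁻¹⁻¹ * x' * (g'⁻¹ * d * g'⁻¹⁻¹)⁻¹) * g'⁻¹ := by group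
      _ = g' * x' * g'⁻¹ := by rw [h2]
  rcases zt (fb D b x) with h1 | h1
  · rw [key b hb g hg x h1, h1]
  · rcases zt (fb D (g * b * g⁻¹) (g * x * g⁻¹)) with h2 | h2
    · have h3 := key _ (h.C_Om g hg b hb) g⁻¹ (inv_mem hg) _ h2
      have e : ∀ y : G, g⁻¹ * (g * y * g⁻¹) * g⁻¹⁻¹ = y := fun y => by group
      rw [e, e, h1] at h3
      exact absurd h3 (by decide)
    · rw [h1, h2]

/-- hyperbolic lines -/
theorem fb_hyp {b b' x : G} (hb : b ∈ Om) (hb' : b' ∈ Om) (hB : B b b' = 1) (hx : x ∈ F) :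
    fb D (b * b' * r) x = fb D b x + fb D b' x := by
  obtain ⟨t, ht⟩ := h.exists_mov hb'
  have hbN := h.om_mem b hb
  have hbN' := h.om_mem b' hb'
  have htC : t ∈ C := h.D_le b' hb' ht.mem
  have h1 : t * b * t⁻¹ = b * b' * r := by rw [ht.one b hbN hB, mul_assoc]
  have hom := h.om_hyp b hb b' hb' hB
  have h2 := h.fb_conj (x := x) hb htC
  rw [h1] at h2
  rcases h.fb_or hb' ht hx with ⟨h3, h4⟩ | ⟨h3, h4⟩
  · rw [h4] at h2
    rw [h2, h3, add_zero]
  · rw [h4, h.fb_mul hom hx (h.N_le (h.br_mem hb')), h.fb_N hom (h.br_mem hb'),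
      h.B_mul_r hbN' (h.om_mem _ hom), h.B_mul_r' hbN' (mul_mem hbN hbN'), h.B_mul' hbN hbN' hbN',
      h.B_self b' hbN', h.symm b' hbN' b hbN, hB, add_zero] at h2
    rw [h3, ← h2, add_assoc, zt_add_self, add_zero]

theorem ps_of {x y : G} (hy : y ∈ Om) : ps r Om D x y = fb D y x := if_pos hy

theorem ps_mul_r {x y : G} (_ : y ∈ N) : ps r Om D x (y * r) = ps r Om D x y := by
  classical
  have e : y * r * r = y := by rw [mul_assoc, h.rr, mul_one]
  unfold ps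
  rw [e]
  by_cases h1 : y ∈ Om
  · by_cases h2 : y * r ∈ Om
    · have hr := h.om_uni y h1 h2
      rw [hr, mul_one, if_pos h1]
    · rw [if_neg h2, if_pos h1]
      simp [h1]
  · by_cases h2 : y * r ∈ Om
    · rw [if_pos h2, if_neg h1, if_pos h2]
    · rw [if_neg h2, if_neg h1, if_neg h1, if_neg h2]

theorem ps_one {x : G} : ps r Om D x 1 = 0 := by
  classical
  unfold ps
  rw [if_neg fun h1 => (h.om_nr 1 h1).1 rfl, one_mul, if_neg fun h1 => (h.om_nr r h1).2 rfl]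

theorem nr_of_B {x y : G} (hx : x ∈ N) (hy : y ∈ N) (hB : B x y = 1) : NR r x := by
  refine ⟨fun e => ?_, fun e => ?_⟩
  · rw [e, h.B_one hy] at hB
    exact absurd hB (by decide)
  · rw [e, h.B_r' hy] at hB
    exact absurd hB (by decide)

theorem ps_add {x y y' : G} (hx : x ∈ F) (hy : y ∈ N) (hy' : y' ∈ N) (hB : B y y' = 1) :
    ps r Om D x (y * y') = ps r Om D x y + ps r Om D x y' := by
  -- both in `Om`
  have key : ∀ a ∈ Om, ∀ b ∈ Om, B a b = 1 → ps r Om D x (a * b) = ps r Om D x a + ps r Om D x b := by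
    intro a ha b hb hab
    rw [← h.ps_mul_r (mul_mem (h.om_mem a ha) (h.om_mem b hb)), h.ps_of (h.om_hyp a ha b hb hab), h.ps_of ha,
      h.ps_of hb, h.fb_hyp ha hb hab hx]
  have key2 : ∀ a ∈ Om, ∀ b ∈ N, B a b = 1 → ps r Om D x (a * b) = ps r Om D x a + ps r Om D x b := by
    intro a ha b hb hab
    have haN := h.om_mem a ha
    rcases h.om_rep b hb (h.nr_of_B hb haN (by rw [h.symm b hb a haN, hab])) with h1 | h1
    · exact key a ha b h1 hab
    · rw [← h.ps_mul_r hb, ← h.ps_mul_r (mul_mem haN hb), mul_assoc]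
      exact key a ha _ h1 (by rw [h.B_mul_r' haN hb, hab])
  rcases h.om_rep y hy (h.nr_of_B hy hy' hB) with h1 | h1
  · exact key2 y h1 y' hy' hB
  · have e : y * y' * r = y * r * y' := by rw [mul_assoc, h.comm y' hy' r h.r_mem, ← mul_assoc]
    rw [← h.ps_mul_r hy, ← h.ps_mul_r (mul_mem hy hy'), e]
    exact key2 _ h1 y' hy' (by rw [h.B_mul_r hy hy', hB])

theorem ps_hyp {x : G} (hx : x ∈ F) : Hyp N r B (ps r Om D x) :=
  ⟨h.ps_one, fun _ hy => h.ps_mul_r hy, fun _ hy _ hy' hB => h.ps_add hx hy hy' hB⟩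

theorem ps_mul {x x' y : G} (hx : x ∈ F) (hx' : x' ∈ F) :
    ps r Om D (x * x') y = ps r Om D x y + ps r Om D x' y := by
  classical
  unfold ps
  by_cases h1 : y ∈ Om
  · rw [if_pos h1, if_pos h1, if_pos h1, h.fb_mul h1 hx hx']
  · by_cases h2 : y * r ∈ Om
    · rw [if_neg h1, if_pos h2, if_neg h1, if_pos h2, if_neg h1, if_pos h2, h.fb_mul h2 hx hx']
    · rw [if_neg h1, if_neg h2, if_neg h1, if_neg h2, if_neg h1, if_neg h2, add_zero]

theorem mem_Dl {x : G} : x ∈ Dl F Om D ↔ x ∈ F ∧ ∀ b ∈ Om, fb D b x = 0 := by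
  constructor
  · intro hx
    refine ⟨hx.1, fun b hb => h.fb_zero_iff.2 fun d hd => ?_⟩
    have h1 := mem_centralizer_iff.1 hx.2 d ⟨b, hb, hd⟩
    rw [h1]; group
  · rintro ⟨h1, h2⟩
    refine ⟨h1, mem_centralizer_iff.2 ?_⟩
    rintro d ⟨b, hb, hd⟩
    have h3 := h.fb_zero_iff.1 (h2 b hb) d hd
    calc d * x = d * x * d⁻¹ * d := by group
      _ = x * d := by rw [h3]

theorem mem_Dl_of_add [Finite N] {x : G} (hx : x ∈ F)
    (hadd : ∀ y ∈ N, ∀ y' ∈ N, ps r Om D x (y * y') = ps r Om D x y + ps r Om D x y') :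
    ∃ n ∈ N, x * n ∈ Dl F Om D := by
  have hr : ps r Om D x r = 0 := by
    have := h.ps_mul_r (x := x) (one_mem N)
    rwa [one_mul, h.ps_one] at this
  obtain ⟨n, hn, hψ⟩ := h.toFrm.dual _ hadd hr
  refine ⟨n, hn, h.mem_Dl.2 ⟨mul_mem hx (h.N_le hn), fun b hb => ?_⟩⟩
  rw [h.fb_mul hb hx (h.N_le hn), h.fb_N hb hn, ← h.ps_of hb, hψ b (h.om_mem b hb), zt_add_self]

/-- **(1)** `|F : N Δ| ≤ 2` -/
theorem exists_mul [Finite N] {x y : G} (hx : x ∈ F) (hy : y ∈ F) (hx' : ¬ ∃ n ∈ N, x * n ∈ Dl F Om D)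
    (hy' : ¬ ∃ n ∈ N, y * n ∈ Dl F Om D) : ∃ n ∈ N, x * y * n ∈ Dl F Om D := by
  have key : ∀ a ∈ F, (¬ ∃ n ∈ N, a * n ∈ Dl F Om D) → Cst N r B (ps r Om D a) 1 := by
    intro a ha hna
    obtain ⟨κ, hκ⟩ := h.const h.big (h.ps_hyp ha)
    rcases zt κ with h0 | h0
    · rw [h0] at hκ
      exact absurd (h.mem_Dl_of_add ha (h.add_of_cst (h.ps_hyp ha) hκ)) hna
    · rwa [h0] at hκ
  have h1 := key x hx hx'
  have h2 := key y hy hy'
  have h3 : Cst N r B (ps r Om D (x * y)) 0 := by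
    intro a ha b hb na nb nab hab
    have h4 := h1 a ha b hb na nb nab hab
    have h5 := h2 a ha b hb na nb nab hab
    rw [h.ps_mul hx hy, h.ps_mul hx hy, h.ps_mul hx hy]
    calc _ = (ps r Om D x a + ps r Om D x b + ps r Om D x (a * b)) +
          (ps r Om D y a + ps r Om D y b + ps r Om D y (a * b)) := by ring
      _ = 0 := by rw [h4, h5]; decide
  exact h.mem_Dl_of_add (mul_mem hx hy) (h.add_of_cst (h.ps_hyp (mul_mem hx hy)) h3)

/-- `N ∩ Δ = ⟨r⟩` -/
theorem eq_of_mem {x : G} (hx : x ∈ N) (hd : x ∈ Dl F Om D) : x = 1 ∨ x = r := by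
  have h1 : ∀ b ∈ Om, B x b = 0 := fun b hb => by rw [← h.fb_N hb hx]; exact (h.mem_Dl.1 hd).2 b hb
  apply h.rad x hx
  intro y hy
  by_cases hy1 : y = 1
  · rw [hy1, h.B_one' hx]
  by_cases hyr : y = r
  · rw [hyr, h.B_r x hx]
  rcases h.om_rep y hy ⟨hy1, hyr⟩ with h2 | h2
  · exact h1 y h2
  · rw [← h.B_mul_r' hx hy]
    exact h1 _ h2

theorem r_mem_Dl : r ∈ Dl F Om D := by
  refine h.mem_Dl.2 ⟨h.N_le h.r_mem, fun b hb => ?_⟩
  rw [h.fb_N hb h.r_mem, h.B_r' (h.om_mem b hb)]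

theorem Dl_le : Dl F Om D ≤ F := inf_le_left

theorem Dl_conj {g x : G} (hg : g ∈ C) (hx : x ∈ Dl F Om D) : g * x * g⁻¹ ∈ Dl F Om D := by
  rw [h.mem_Dl] at hx ⊢
  refine ⟨h.C_F g hg x hx.1, fun b hb => ?_⟩
  have h1 := h.fb_conj (x := x) (h.C_Om g⁻¹ (inv_mem hg) b hb) hg
  have e : g * (g⁻¹ * b * g⁻¹⁻¹) * g⁻¹ = b := by group
  rw [e, hx.2 _ (h.C_Om g⁻¹ (inv_mem hg) b hb)] at h1
  exact h1

theorem DU_C {d : G} (hd : d ∈ closure (DU Om D)) : d ∈ C := by
  have : closure (DU Om D) ≤ C := by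
    rw [closure_le]
    rintro d ⟨b, hb, hd⟩
    exact h.D_le b hb hd
  exact this hd

/-- `E` is transitive on `Om` -/
theorem exists_conj {b b' : G} (hb : b ∈ Om) (hb' : b' ∈ Om) :
    ∃ e ∈ closure (DU Om D), e * b * e⁻¹ = b' := by
  -- noncollinear
  have key : ∀ a ∈ Om, ∀ c ∈ Om, B a c = 1 → ∃ e ∈ closure (DU Om D), e * a * e⁻¹ = c := by
    intro a ha c hc hac
    obtain ⟨t, ht⟩ := h.exists_mov ha
    obtain ⟨t', ht'⟩ := h.exists_mov hc
    have haN := h.om_mem a ha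
    have hcN := h.om_mem c hc
    refine ⟨t * t', mul_mem (subset_closure ⟨a, ha, ht.mem⟩) (subset_closure ⟨c, hc, ht'.mem⟩), ?_⟩
    have e1 : t' * a * t'⁻¹ = a * c * r := by rw [ht'.one a haN hac, mul_assoc]
    have hacr : a * c * r ∈ N := mul_mem (mul_mem haN hcN) h.r_mem
    have e2 : B (a * c * r) a = 1 := by
      rw [h.B_mul_r (mul_mem haN hcN) haN, h.B_mul a haN c hcN a haN, h.B_self a haN, h.symm c hcN a haN, hac,
        zero_add]
    calc t * t' * a * (t * t')⁻¹ = t * (t' * a * t'⁻¹) * t⁻¹ := by group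
      _ = a * c * r * (a * r) := by rw [e1, ht.one _ hacr e2]
      _ = (a * a) * c * (r * r) := by
        rw [h.comm a haN r h.r_mem]
        calc a * c * r * (r * a) = a * (c * (r * r)) * a := by group
          _ = a * c * a := by rw [h.rr, mul_one]
          _ = a * (a * c) := by rw [mul_assoc, h.comm c hcN a haN]
          _ = a * a * c * (r * r) := by rw [h.rr, mul_one]; group
      _ = c := by rw [h.sq a haN, h.rr, one_mul, mul_one]
  rcases zt (B b b') with hB | hB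
  · by_cases e : b = b'
    · exact ⟨1, one_mem _, by rw [e]; group⟩
    have hbN := h.om_mem b hb
    have hbN' := h.om_mem b' hb'
    -- `w` with `B w b = B w b' = 1`
    have hex : ∃ w ∈ N, B w b = 1 ∧ B w b' = 1 := by
      by_contra hcon
      push Not at hcon
      obtain ⟨y, hy, hyb⟩ := h.exists_B hbN (h.om_nr b hb).1 (h.om_nr b hb).2
      obtain ⟨y', hy', hyb'⟩ := h.exists_B hbN' (h.om_nr b' hb').1 (h.om_nr b' hb').2
      have h1 : B y b' = 0 := (zt _).resolve_right (hcon y hy hyb)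
      have h2 : B y' b = 0 := (zt _).resolve_right fun h3 => hcon y' hy' h3 hyb'
      refine hcon (y * y') (mul_mem hy hy') ?_ ?_
      · rw [h.B_mul y hy y' hy' b hbN, hyb, h2, add_zero]
      · rw [h.B_mul y hy y' hy' b' hbN', hyb', h1, zero_add]
    obtain ⟨w, hw, hwb, hwb'⟩ := hex
    obtain ⟨w', hw', hwb1, hwb1'⟩ : ∃ w' ∈ Om, B w' b = 1 ∧ B w' b' = 1 := by
      rcases h.om_rep w hw (h.nr_of_B hw hbN hwb) with h1 | h1
      · exact ⟨w, h1, hwb, hwb'⟩
      · exact ⟨w * r, h1, by rw [h.B_mul_r hw hbN, hwb], by rw [h.B_mul_r hw hbN', hwb']⟩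
    obtain ⟨e1, he1, h1⟩ := key b hb w' hw' (by rw [h.symm b hbN w' (h.om_mem _ hw'), hwb1])
    obtain ⟨e2, he2, h2⟩ := key w' hw' b' hb' hwb1'
    refine ⟨e2 * e1, mul_mem he2 he1, ?_⟩
    calc e2 * e1 * b * (e2 * e1)⁻¹ = e2 * (e1 * b * e1⁻¹) * e2⁻¹ := by group
      _ = b' := by rw [h1, h2]
  · exact key b hb b' hb' hB

/-- `E` centralises `F / N` -/
theorem conj_mem {e x : G} (he : e ∈ closure (DU Om D)) (hx : x ∈ F) : e * x * e⁻¹ * x⁻¹ ∈ N := by
  induction he using closure_induction generalizing x with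
  | mem d hd =>
    obtain ⟨b, hb, hd⟩ := hd
    rcases h.D_F b hb d hd x hx with h1 | h1
    · rw [h1, mul_inv_cancel]; exact one_mem N
    · rw [h1, h.F_comm x hx _ (h.N_le (h.br_mem hb)), mul_inv_cancel_right]
      exact h.br_mem hb
  | one => simp
  | mul a b _ hb ih1 ih2 =>
    have h1 := ih2 hx
    have h2 := ih1 (h.C_F b (h.DU_C hb) x hx)
    have e1 : a * b * x * (a * b)⁻¹ * x⁻¹ = a * (b * x * b⁻¹) * a⁻¹ * (b * x * b⁻¹)⁻¹ * (b * x * b⁻¹ * x⁻¹) := by
      group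
    rw [e1]
    exact mul_mem h2 h1
  | inv a ha ih =>
    have h1 := ih (h.C_F a⁻¹ (inv_mem (h.DU_C ha)) x hx)
    have e1 : a⁻¹ * x * a⁻¹⁻¹ * x⁻¹ = (a * (a⁻¹ * x * a⁻¹⁻¹) * a⁻¹ * (a⁻¹ * x * a⁻¹⁻¹)⁻¹)⁻¹ := by group
    rw [e1]
    exact inv_mem h1

theorem conj_Dl {e x : G} (he : e ∈ closure (DU Om D)) (hx : x ∈ Dl F Om D) : e * x * e⁻¹ = x := by
  have h1 : closure (DU Om D) ≤ centralizer {x} := by
    rw [closure_le]
    intro d hd
    rw [SetLike.mem_coe, mem_centralizer_singleton_iff]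
    exact mem_centralizer_iff.1 hx.2 d hd
  have h2 := mem_centralizer_singleton_iff.1 (h1 he)
  rw [h2]; group

end Dat

/-- the subgroups `H b` (= the group generated by the lines on `a` in `N_b`) -/
structure HDat (C N F : Subgroup G) (r : G) (Om : Set G) (H : G → Subgroup G) : Prop where
  H_le : ∀ b ∈ Om, H b ≤ F
  H_conj : ∀ b ∈ Om, ∀ g ∈ C, ∀ x ∈ H b, g * x * g⁻¹ ∈ H (g * b * g⁻¹)
  H_gen : F ≤ N ⊔ closure {x | ∃ b ∈ Om, x ∈ H b}
  H_inf : ∀ b ∈ Om, ∀ x ∈ H b, x ∈ N → x = 1 ∨ x = r ∨ x = b ∨ x = b * r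
  H_two : ∀ b ∈ Om, ∀ K : Subgroup G, K ≤ H b →
    (∀ m ∈ C, m * b * m⁻¹ = b → ∀ x ∈ K, m * x * m⁻¹ ∈ K) → (∀ x ∈ H b, x ∈ N → x ∈ K) →
    (∀ x ∈ H b, ∀ y ∈ H b, x ∉ K → y ∉ K → x * y ∈ K) → H b ≤ K
  Om_ne : Om.Nonempty

namespace HDat

variable {C N F : Subgroup G} {r : G} {Om : Set G} {B : G → G → ZMod 2} {D H : G → Subgroup G}
  (k : HDat C N F r Om H) (h : Dat C N F r Om B D)

include k h

/-- `F = N (H b)` for every `b` -/
theorem sup {b x : G} (hb : b ∈ Om) (hx : x ∈ F) : ∃ n ∈ N, ∃ y ∈ H b, x = n * y := by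
  have hHF := k.H_le b hb
  -- the product is a subgroup
  let K : Subgroup G :=
    { carrier := {x | ∃ n ∈ N, ∃ y ∈ H b, x = n * y}
      one_mem' := ⟨1, one_mem N, 1, one_mem _, by simp⟩
      mul_mem' := by
        rintro _ _ ⟨n, hn, y, hy, rfl⟩ ⟨n', hn', y', hy', rfl⟩
        refine ⟨n * n', mul_mem hn hn', y * y', mul_mem hy hy', ?_⟩
        calc n * y * (n' * y') = n * (y * n') * y' := by group
          _ = n * n' * (y * y') := by rw [h.F_comm y (hHF hy) n' (h.N_le hn')]; group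
      inv_mem' := by
        rintro _ ⟨n, hn, y, hy, rfl⟩
        refine ⟨n⁻¹, inv_mem hn, y⁻¹, inv_mem hy, ?_⟩
        rw [h.F_comm n (h.N_le hn) y (hHF hy)]
        group }
  have hle : N ⊔ closure {x | ∃ b ∈ Om, x ∈ H b} ≤ K := by
    rw [sup_le_iff, closure_le]
    refine ⟨fun n hn => ⟨n, hn, 1, one_mem _, by simp⟩, ?_⟩
    rintro x ⟨b', hb', hx'⟩
    obtain ⟨e, he, hc⟩ := h.exists_conj hb' hb
    have h1 := k.H_conj b' hb' e (h.DU_C he) x hx'
    rw [hc] at h1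
    have h2 := h.conj_mem he (k.H_le b' hb' hx')
    refine ⟨(e * x * e⁻¹ * x⁻¹)⁻¹, inv_mem h2, e * x * e⁻¹, h1, ?_⟩
    have hxF := k.H_le b' hb' hx'
    rw [h.F_comm _ (h.N_le (inv_mem h2)) _ (hHF h1)]
    have h3 : e * x * e⁻¹ * (e * x * e⁻¹ * x⁻¹)⁻¹ = e * x * e⁻¹ * (x * (e * x * e⁻¹)⁻¹) := by group
    rw [h3, h.F_comm x hxF _ (inv_mem (hHF h1)), ← mul_assoc, mul_inv_cancel, one_mul]
  exact hle (k.H_gen hx)

/-- **`F = N Δ`** -/
theorem rep [Finite N] {x : G} (hx : x ∈ F) : ∃ n ∈ N, x * n ∈ Dl F Om D := by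
  obtain ⟨b, hb⟩ := k.Om_ne
  have hHF := k.H_le b hb
  -- `N Δ`
  let L : Subgroup G :=
    { carrier := {x | x ∈ F ∧ ∃ n ∈ N, x * n ∈ Dl F Om D}
      one_mem' := ⟨one_mem F, 1, one_mem N, by simp⟩
      mul_mem' := by
        rintro x y ⟨hx, n, hn, h1⟩ ⟨hy, n', hn', h2⟩
        refine ⟨mul_mem hx hy, n * n', mul_mem hn hn', ?_⟩
        have e : x * y * (n * n') = x * n * (y * n') := by
          calc x * y * (n * n') = x * (y * n) * n' := by group
            _ = x * n * (y * n') := by rw [h.F_comm y hy n (h.N_le hn)]; group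
        rw [e]
        exact mul_mem h1 h2
      inv_mem' := by
        rintro x ⟨hx, n, hn, h1⟩
        refine ⟨inv_mem hx, n⁻¹, inv_mem hn, ?_⟩
        have e : x⁻¹ * n⁻¹ = (x * n)⁻¹ := by rw [h.F_comm x hx n (h.N_le hn)]; group
        rw [e]
        exact inv_mem h1 }
  have hL : ∀ x, x ∈ L ↔ x ∈ F ∧ ∃ n ∈ N, x * n ∈ Dl F Om D := fun x => Iff.rfl
  have h1 : H b ≤ H b ⊓ L := by
    refine k.H_two b hb (H b ⊓ L) inf_le_left ?_ ?_ ?_
    · rintro m hm hmb x ⟨hxH, hxF, n, hn, hxn⟩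
      refine ⟨?_, h.C_F m hm x hxF, m * n * m⁻¹, h.C_N m hm n hn, ?_⟩
      · have := k.H_conj b hb m hm x hxH
        rwa [hmb] at this
      · have e : m * x * m⁻¹ * (m * n * m⁻¹) = m * (x * n) * m⁻¹ := by group
        rw [e]
        exact h.Dl_conj hm hxn
    · intro x hxH hxN
      refine ⟨hxH, h.N_le hxN, x⁻¹, inv_mem hxN, ?_⟩
      rw [mul_inv_cancel]; exact one_mem _
    · intro x hx y hy hx' hy'
      refine ⟨mul_mem hx hy, mul_mem (hHF hx) (hHF hy), ?_⟩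
      refine h.exists_mul (hHF hx) (hHF hy) (fun h2 => hx' ⟨hx, hHF hx, h2⟩) (fun h2 => hy' ⟨hy, hHF hy, h2⟩)
  obtain ⟨n, hn, y, hy, rfl⟩ := k.sup h hb hx
  have h2 := (h1 hy).2
  have h3 : n ∈ L := ⟨h.N_le hn, n⁻¹, inv_mem hn, by rw [mul_inv_cancel]; exact one_mem _⟩
  exact (mul_mem h3 h2).2

/-- **`H b ≤ ⟨b⟩ Δ`** -/
theorem mem [Finite N] {b x : G} (hb : b ∈ Om) (hx : x ∈ H b) : x ∈ Dl F Om D ∨ x * b ∈ Dl F Om D := by
  have hxF := k.H_le b hb hx
  have hbN := h.om_mem b hb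
  obtain ⟨n, hn, hxn⟩ := k.rep h hxF
  have h1 : ∀ u ∈ Om, B u b = 0 → u ≠ b → B n u = 0 := by
    intro u hu hub hne
    obtain ⟨t, ht⟩ := h.exists_mov hu
    have htC := h.D_le u hu ht.mem
    have htE : t ∈ closure (DU Om D) := subset_closure ⟨u, hu, ht.mem⟩
    have htb : t * b * t⁻¹ = b := ht.zero b hbN (by rw [h.symm b hbN u (h.om_mem u hu), hub])
    have h2 := k.H_conj b hb t htC x hx
    rw [htb] at h2
    have h3 := h.conj_Dl htE hxn
    refine (zt _).resolve_right fun hnu => ?_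
    have h4 := ht.one n hn hnu
    have h5 : t * x * t⁻¹ = x * (u * r) := by
      have e1 : t * (x * n) * t⁻¹ = t * x * t⁻¹ * (t * n * t⁻¹) := by group
      rw [e1, h4] at h3
      have hur := h.br_mem hu
      have e2 : n * (u * r) * (n * (u * r)) = 1 := h.sq _ (mul_mem hn hur)
      calc t * x * t⁻¹ = t * x * t⁻¹ * (n * (u * r) * (n * (u * r))) := by rw [e2, mul_one]
        _ = t * x * t⁻¹ * (n * (u * r)) * (n * (u * r)) := by group
        _ = x * (n * n) * (u * r) := by rw [h3]; group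
        _ = x * (u * r) := by rw [h.sq n hn, mul_one]
    have h6 : u * r ∈ H b := by
      have := mul_mem (inv_mem hx) h2
      rw [h5] at this
      simpa using this
    have hrr := h.rr
    have hcan : ∀ z : G, u * r = z → u = z * r := fun z hz => by rw [← hz, mul_assoc, hrr, mul_one]
    rcases k.H_inf b hb _ h6 (h.br_mem hu) with h7 | h7 | h7 | h7
    · exact h.br_ne hu h7
    · exact (h.om_nr u hu).1 (by rw [hcan _ h7, hrr])
    · have h8 := hcan _ h7
      have hr1 := h.om_uni b hb (by rw [← h8]; exact hu)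
      exact hne (by rw [h8, hr1, mul_one])
    · exact hne (mul_right_cancel h7)
  have h2 : ∀ y ∈ N, B y b = 0 → B y n = 0 := by
    -- `B n b = 0`
    have hnb : B n b = 0 := by
      obtain ⟨u, hu, hub, nu, nub⟩ := h.big b hbN (h.om_nr b hb)
      have key : ∀ w ∈ Om, B w b = 0 → w ≠ b → B n b = 0 := by
        intro w hw hwb hne
        have h3 := h1 w hw hwb hne
        have hwN := h.om_mem w hw
        have h4 := h.om_line w hw b hb hwb hne
        have h5 : w * b ≠ b := fun e => (h.om_nr w hw).1 (mul_eq_right.1 e)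
        have h6 := h1 _ h4 (by rw [h.B_mul w hwN b hbN b hbN, hwb, h.B_self b hbN, add_zero]) h5
        rw [h.B_mul' hwN hbN hn, h3, zero_add] at h6
        exact h6
      have hne := h.nr_mul_ne hbN nub
      rcases h.om_rep u hu nu with h3 | h3
      · exact key u h3 hub hne.1
      · refine key _ h3 (by rw [h.B_mul_r hu hbN, hub]) fun e => hne.2 ?_
        rw [← e, mul_assoc, h.rr, mul_one]
    intro y hy hyb
    rw [h.symm y hy n hn]
    by_cases hy1 : y = 1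
    · rw [hy1, h.B_one' hn]
    by_cases hyr : y = r
    · rw [hyr, h.B_r n hn]
    rcases h.om_rep y hy ⟨hy1, hyr⟩ with h3 | h3
    · by_cases e : y = b
      · rw [e, hnb]
      · exact h1 y h3 hyb e
    · rw [← h.B_mul_r' hn hy]
      by_cases e : y * r = b
      · rw [e, hnb]
      · exact h1 _ h3 (by rw [h.B_mul_r hy hbN, hyb]) e
  have hrD := h.r_mem_Dl
  rcases h.eq_of_perp hbN hn h2 with e | e | e | e
  · left; rwa [e, mul_one] at hxn
  · left
    rw [e] at hxn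
    have := mul_mem hxn (inv_mem hrD)
    rwa [mul_inv_cancel_right] at this
  · right; rwa [e] at hxn
  · right
    rw [e, ← mul_assoc] at hxn
    have := mul_mem hxn (inv_mem hrD)
    rwa [mul_inv_cancel_right] at this

/-- **(R)** `Δ ≤ H b` -/
theorem Dl_le [Finite N] {b : G} (hb : b ∈ Om) (hrH : r ∈ H b) (hbH : b ∈ H b) : Dl F Om D ≤ H b := by
  intro x hx
  have hbF := h.N_le (h.om_mem b hb)
  obtain ⟨n, hn, y, hy, e⟩ := k.sup h hb (h.Dl_le hx)
  have hyF := k.H_le b hb hy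
  have hn' : n = x * y⁻¹ := by rw [e]; group
  have hyy : y⁻¹ = y := inv_eq_of_mul_eq_one_left (h.F_sq y hyF)
  suffices n ∈ H b by rw [e]; exact mul_mem this hy
  rcases k.mem h hb hy with h1 | h1
  · have h2 : n ∈ Dl F Om D := by rw [hn']; exact mul_mem hx (inv_mem h1)
    rcases h.eq_of_mem hn h2 with h3 | h3
    · rw [h3]; exact one_mem _
    · rw [h3]; exact hrH
  · have h2 : n * b ∈ Dl F Om D := by
      rw [hn', hyy, mul_assoc]; exact mul_mem hx h1
    have h4 : n = n * b * b := by rw [mul_assoc, h.sq b (h.om_mem b hb), mul_one]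
    rcases h.eq_of_mem (mul_mem hn (h.om_mem b hb)) h2 with h3 | h3
    · rw [h4, h3, one_mul]; exact hbH
    · rw [h4, h3]; exact mul_mem hrH hbH

/-- **(R)** `H b = ⟨b⟩ Δ` for every `b` -/
theorem mem_iff [Finite N] {b x : G} (hb : b ∈ Om) (hrH : r ∈ H b) (hbH : b ∈ H b) :
    x ∈ H b ↔ x ∈ Dl F Om D ∨ x * b ∈ Dl F Om D := by
  refine ⟨k.mem h hb, ?_⟩
  rintro (h1 | h1)
  · exact k.Dl_le h hb hrH hbH h1
  · have h2 := mul_mem (k.Dl_le h hb hrH hbH h1) (inv_mem hbH)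
    rwa [mul_inv_cancel_right] at h2

/-- **(NR)** `H b = Δ` for every `b` -/
theorem eq [Finite N] {b : G} (hb : b ∈ Om) (hr : r = 1) (hH : ∀ x ∈ H b, x ∈ N → x = 1) : H b = Dl F Om D := by
  have h0 : H b ≤ H b ⊓ Dl F Om D := by
    refine k.H_two b hb _ inf_le_left ?_ ?_ ?_
    · rintro m hm hmb x ⟨hxH, hxD⟩
      refine ⟨?_, h.Dl_conj hm hxD⟩
      have := k.H_conj b hb m hm x hxH
      rwa [hmb] at this
    · intro x hxH hxN
      rw [hH x hxH hxN]
      exact one_mem _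
    · intro x hx y hy hx' hy'
      refine ⟨mul_mem hx hy, ?_⟩
      have h1 := (k.mem h hb hx).resolve_left fun h2 => hx' ⟨hx, h2⟩
      have h2 := (k.mem h hb hy).resolve_left fun h2 => hy' ⟨hy, h2⟩
      have h3 := mul_mem h1 h2
      have hbF := h.N_le (h.om_mem b hb)
      have hyF := k.H_le b hb hy
      have e : x * b * (y * b) = x * y * (b * b) := by
        rw [h.F_comm y hyF b hbF]
        calc x * b * (b * y) = x * (b * b) * y := by group
          _ = x * y * (b * b) := by rw [h.F_sq b hbF]; group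
      rwa [e, h.F_sq b hbF, mul_one] at h3
  refine le_antisymm (h0.trans inf_le_right) fun x hx => ?_
  obtain ⟨n, hn, y, hy, e⟩ := k.sup h hb (h.Dl_le hx)
  have h1 := (h0 hy).2
  have h2 : n ∈ Dl F Om D := by
    have e2 : n = x * y⁻¹ := by rw [e]; group
    rw [e2]
    exact mul_mem hx (inv_mem h1)
  have h3 : n = 1 := by
    rcases h.eq_of_mem hn h2 with h4 | h4
    · exact h4
    · rw [h4, hr]
  rw [e, h3, one_mul]
  exact hy

end HDat

end Cfsg.Agent.Omega.OM.Delta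

end

end

-- merged: Cfsg.Agent.Mrg.Omega.OM.KTwo.Adj
section

section


/-!
# NO-3S, `k = 2`, `q = 2`, case (II), distance 1 (helper609 #16177 (4))

`D : Sit S P T U v`, `N i = ⟨U (i+1) ^ C_G(v i)⟩`, `W i = ⟨U i ^ C_G(v i)⟩`, `M = C_G(Y)`, `Y = Ω₁Z(T) = ⟨v 0, v 1⟩`.

* `DOne` : the facts on the module `N i` used in (4); in the application `C_G(v i)` induces `O_{2n+1}(2)` on `N i`
  (radical `v i`) and `N (i+1)` induces the transvection with centre `v 0 v 1`;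
* `Sit.false_of_dOne`.
-/

set_option autoImplicit false
set_option linter.unusedSectionVars false

namespace Cfsg.Agent.Omega.OM.KTwo

open Subgroup Cfsg Cfsg.Agent.ZN Cfsg.Agent.Omega.MinPar
open Cfsg.Agent.Omega.NO3S Cfsg.Agent.Omega.FrameNOFF
open Cfsg.Agent.Omega.NoFF.Basic (conj_conj mem_conj conj_le_iff conj_le_centralizer comm_symm comm_mono
  Z_le_V V_le conj_V_mul)
open Cfsg.Agent.Omega.NOThreeL.Pair (conj_eq_of_mem)
open Cfsg.Agent.MinSimple.VModule (mem_zc)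
open scoped Pointwise

universe u

variable {G : Type u} [Group G]

/-- `⟨U (i+1) ^ C_G(Y)⟩`: generated by the lines of `N i` on `v (i+1)` -/
abbrev LU (T : Subgroup G) (U : Fin 2 → Subgroup G) (i : Fin 2) : Subgroup G :=
  NoFF.Basic.V (U (i + 1)) (centralizer (zc T : Set G))

/-- The facts on `C_G(v i)` acting on `N i` used in (4). -/
structure DOne (P T : Subgroup G) (U : Fin 2 → Subgroup G) (v : Fin 2 → G) : Prop where
  /-- the lines of `N i` on `v (i+1)` generate a subgroup containing the radical `v i` -/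
  rad : ∀ i, v i ∈ LU T U i
  /-- an element centralising the lines of `N i` on `v (i+1)` is `1` or the transvection with centre `v 0 v 1` -/
  tv : ∀ i, ∀ g ∈ CC v i, g ∈ centralizer (LU T U i : Set G) → ∀ x ∈ NU U v i, g * x * g⁻¹ * x⁻¹ ∈ zpowers (v 0 * v 1)
  /-- the `C_G(v i)`-conjugates of `N (i+1)` generate `C_G(v i)` modulo `C(N i)` -/
  gen : ∀ i, CC v i ≤ FF U v i ⊔ NoFF.Basic.V (NU U v (i + 1)) (CC v i)
  inf : NU U v 0 ⊓ NU U v 1 ≤ zc T
  /-- `C_G(v i) = ⟨C_G(Y), L_{i+1}⟩` -/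
  max : ∀ i, CC v i ≤ centralizer (zc T : Set G) ⊔ (P ⊓ centralizer (U i : Set G))

namespace Sit

variable [Finite G] {S : Sylow 2 G} {P T : Subgroup G} {U : Fin 2 → Subgroup G} {v : Fin 2 → G}
  (D : Sit S P T U v)

include D

theorem W_le_C (i j : Fin 2) : WU U v i ≤ CC v j := (D.W_le_Q i).trans ((D.Q_le_T i).trans (D.T_le_C j))

theorem N_le_C (i j : Fin 2) : NU U v i ≤ CC v j := (D.N_le_Q i).trans ((D.Q_le_T i).trans (D.T_le_C j))

/-- the subgroup of `C_G(v i)` acting trivially on `W i / N i` -/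
def KW (D : Sit S P T U v) (i : Fin 2) : Subgroup G where
  carrier := {r | r ∈ CC v i ∧ ∀ x ∈ WU U v i, r * x * r⁻¹ * x⁻¹ ∈ NU U v i}
  one_mem' := ⟨one_mem _, fun x _ => by simp⟩
  mul_mem' := by
    rintro r s ⟨hr, h1⟩ ⟨hs, h2⟩
    refine ⟨mul_mem hr hs, fun x hx => ?_⟩
    have h3 := (mem_normalizer_iff.1 (D.C_le_N_N i hr) _).1 (h2 x hx)
    have e : r * s * x * (r * s)⁻¹ * x⁻¹ = (r * (s * x * s⁻¹ * x⁻¹) * r⁻¹) * (r * x * r⁻¹ * x⁻¹) := by group
    rw [e]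
    exact mul_mem h3 (h1 x hx)
  inv_mem' := by
    rintro r ⟨hr, h1⟩
    refine ⟨inv_mem hr, fun x hx => ?_⟩
    have h3 := (mem_normalizer_iff.1 (D.C_le_N_N i (inv_mem hr)) _).1 (inv_mem (h1 x hx))
    have e : r⁻¹ * x * r⁻¹⁻¹ * x⁻¹ = r⁻¹ * (r * x * r⁻¹ * x⁻¹)⁻¹ * r⁻¹⁻¹ := by group
    rw [e]
    exact h3

/-- `C_G(Y) ⊓ KW` normalises `U i` -/
theorem conj_mem_U (K : DOne P T U v) {i : Fin 2} {r : G} (hrD : r ∈ centralizer (zc T : Set G)) (hr : r ∈ D.KW i)
    {x : G} (hx : x ∈ U i) : r * x * r⁻¹ ∈ U i := by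
  by_cases hx1 : x = 1
  · rw [hx1]; simp
  have hxW : x ∈ WU U v i := le_V _ _ hx
  have hxN : x ∈ NU U v (i + 1) := by
    have := D.U_le_N (i + 1)
    rw [add_one_add_one] at this
    exact this hx
  have h1 : r * x * r⁻¹ * x⁻¹ ∈ NU U v i := hr.2 x hxW
  have h2 : r * x * r⁻¹ * x⁻¹ ∈ NU U v (i + 1) :=
    mul_mem ((mem_normalizer_iff.1 (D.C_le_N_N (i + 1) (D.cent_zc_le (i + 1) hrD)) x).1 hxN) (inv_mem hxN)
  have h3 : r * x * r⁻¹ * x⁻¹ ∈ zc T := by
    apply K.inf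
    rcases Fin.exists_fin_two.1 ⟨i, rfl⟩ with h | h
    · rw [h] at h1 h2; exact ⟨h1, h2⟩
    · rw [h] at h1 h2; exact ⟨h2, h1⟩
  have hvi := D.mem i
  -- the four elements of `Y`
  have h4 : r * x * r⁻¹ * x⁻¹ = 1 ∨ r * x * r⁻¹ * x⁻¹ = v i ∨ r * x * r⁻¹ * x⁻¹ = v (i + 1) ∨
      r * x * r⁻¹ * x⁻¹ = v (i + 1) * v i := by
    have hc : v 0 * v 1 = v 1 * v 0 := D.comm (D.le 0 (D.mem 0)) (D.le 1 (D.mem 1))
    have h01 : ∀ {y : G}, y = v 0 → y = v i ∨ y = v (i + 1) := by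
      intro y hy
      rcases Fin.exists_fin_two.1 ⟨i, rfl⟩ with hi | hi
      · left; rw [hy, hi]
      · right; rw [hy, hi]; rfl
    have h11 : ∀ {y : G}, y = v 1 → y = v i ∨ y = v (i + 1) := by
      intro y hy
      rcases Fin.exists_fin_two.1 ⟨i, rfl⟩ with hi | hi
      · right; rw [hy, hi]; rfl
      · left; rw [hy, hi]
    have h21 : v 0 * v 1 = v (i + 1) * v i := by
      rcases Fin.exists_fin_two.1 ⟨i, rfl⟩ with hi | hi
      · rw [hi]; exact hc
      · rw [hi]; rfl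
    rcases (D.zT _).1 h3 with h | h | h | h
    · exact Or.inl h
    · rcases h01 h with h | h
      · exact Or.inr (Or.inl h)
      · exact Or.inr (Or.inr (Or.inl h))
    · rcases h11 h with h | h
      · exact Or.inr (Or.inl h)
      · exact Or.inr (Or.inr (Or.inl h))
    · exact Or.inr (Or.inr (Or.inr (h.trans h21)))
  -- not of the form `v (i+1) x'`, `x' ∈ U i`
  have key : ∀ x' ∈ U i, r * x * r⁻¹ ≠ v (i + 1) * x' := by
    intro x' hx' he
    obtain ⟨l, -, -, -, hlx⟩ := D.tr i (i + 1) (ne_add_one i) x hx hx1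
    by_cases hx'1 : x' = 1
    · rw [hx'1, mul_one] at he
      -- `r x r⁻¹ = v (i+1)`, `r` centralises `v (i+1)`: `x = v (i+1)`
      have h5 : r * v (i + 1) = v (i + 1) * r :=
        mem_centralizer_singleton_iff.1 (D.cent_zc_le (i + 1) hrD)
      have h6 : x = v (i + 1) := by
        calc x = r⁻¹ * (r * x * r⁻¹) * r := by group
          _ = r⁻¹ * (v (i + 1) * r) := by rw [he]; group
          _ = v (i + 1) := by rw [← h5]; group
      have h7 : v (i + 1) ∈ U i ⊓ U (i + 1) := ⟨h6 ▸ hx, D.mem _⟩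
      rw [D.inf i (i + 1) (ne_add_one i), mem_bot] at h7
      exact D.ne _ h7
    · obtain ⟨m, -, hm, -, hmx⟩ := D.tr i (i + 1) (ne_add_one i) x' hx' hx'1
      have h5 : m * v (i + 1) = v (i + 1) * m := (mem_centralizer_iff.1 hm _ (D.mem _)).symm
      have h6 : (m⁻¹ * r * l) * v i * (m⁻¹ * r * l)⁻¹ = v 0 * v 1 := by
        have hc : v 0 * v 1 = v 1 * v 0 := D.comm (D.le 0 (D.mem 0)) (D.le 1 (D.mem 1))
        have h7 : v (i + 1) * v i = v 0 * v 1 := by
          rcases Fin.exists_fin_two.1 ⟨i, rfl⟩ with hi | hi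
          · rw [hi]; exact hc.symm
          · rw [hi]; rfl
        have e5 : m⁻¹ * v (i + 1) = v (i + 1) * m⁻¹ := by
          calc m⁻¹ * v (i + 1) = m⁻¹ * (v (i + 1) * m) * m⁻¹ := by group
            _ = m⁻¹ * (m * v (i + 1)) * m⁻¹ := by rw [h5]
            _ = v (i + 1) * m⁻¹ := by group
        calc (m⁻¹ * r * l) * v i * (m⁻¹ * r * l)⁻¹ = m⁻¹ * (r * (l * v i * l⁻¹) * r⁻¹) * m := by group
          _ = m⁻¹ * (v (i + 1) * x') * m := by rw [hlx, he]
          _ = (m⁻¹ * v (i + 1)) * x' * m := by group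
          _ = v (i + 1) * (m⁻¹ * x' * m) := by rw [e5]; group
          _ = v (i + 1) * v i := by rw [← hmx]; group
          _ = v 0 * v 1 := h7
      exact D.z_not_conj i _ h6
  have e : r * x * r⁻¹ = (r * x * r⁻¹ * x⁻¹) * x := by group
  rcases h4 with h | h | h | h
  · rw [e, h, one_mul]; exact hx
  · rw [e, h]; exact mul_mem hvi hx
  · rw [h] at e
    exact absurd e (key x hx)
  · refine absurd ?_ (key _ (mul_mem hvi hx))
    rw [e, h, mul_assoc]

end Sit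

end Cfsg.Agent.Omega.OM.KTwo

end

section


/-!
# NO-3S, `k = 2`, `q = 2`, case (II), distance 1: the module facts (helper609 #16177 (4))

* `OOrth C N r q B` : `C` acts on the elementary abelian group `N` as the full isometry group of the quadratic form
  `q` (polar form `B`, radical `⟨r⟩`, `q r = 1`), i.e. as `O_{2n+1}(2)`;
* `OOrth.tra` : the stabiliser of the singular vector `u₀` is transitive on the singular vectors of `u₀^⊥ - ⟨u₀⟩`;
* `Sit.dOne` : `OOrth` for `C_G(v i)` on `N i` (radical `v i`) and an element of `N (i+1)` acting on `N i` as the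
  transvection with centre `v 0 v 1` give `DOne`; `Sit.false_of_oorth`.
-/

set_option autoImplicit false
set_option linter.unusedSectionVars false

namespace Cfsg.Agent.Omega.OM.KTwo

open Subgroup Cfsg Cfsg.Agent.ZN Cfsg.Agent.Omega.MinPar
open Cfsg.Agent.Omega.NO3S Cfsg.Agent.Omega.FrameNOFF
open Cfsg.Agent.Omega.NoFF.Basic (conj_conj mem_conj conj_le_iff conj_le_centralizer comm_symm comm_mono
  Z_le_V V_le conj_V_mul)
open Cfsg.Agent.Omega.NOThreeL.Pair (conj_eq_of_mem)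
open Cfsg.Agent.MinSimple.VModule (mem_zc)
open scoped Pointwise

universe u

variable {G : Type u} [Group G]

/-- `g` acts on `N` as the transvection with centre `u r` (`u` singular). -/
def Tv (N : Subgroup G) (r : G) (B : G → G → ZMod 2) (u g : G) : Prop :=
  ∀ x ∈ N, (B x u = 0 → g * x * g⁻¹ = x) ∧ (B x u = 1 → g * x * g⁻¹ = x * (u * r))

/-- **`C` acts on `N` as `O_{2n+1}(2)`.** -/
structure OOrth (C N : Subgroup G) (r : G) (q : G → ZMod 2) (B : G → G → ZMod 2) : Prop where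
  nor : ∀ c ∈ C, ∀ x ∈ N, c * x * c⁻¹ ∈ N
  comm : ∀ x ∈ N, ∀ y ∈ N, x * y = y * x
  sq : ∀ x ∈ N, x * x = 1
  q_mul : ∀ x ∈ N, ∀ y ∈ N, q (x * y) = q x + q y + B x y
  B_mul : ∀ x ∈ N, ∀ y ∈ N, ∀ w ∈ N, B (x * y) w = B x w + B y w
  symm : ∀ x ∈ N, ∀ y ∈ N, B x y = B y x
  q_conj : ∀ c ∈ C, ∀ x ∈ N, q (c * x * c⁻¹) = q x
  r_mem : r ∈ N
  q_r : q r = 1
  B_r : ∀ x ∈ N, B x r = 0
  rad : ∀ x ∈ N, (∀ y ∈ N, B x y = 0) → x = 1 ∨ x = r
  tv : ∀ u ∈ N, q u = 0 → ∃ g ∈ C, Tv N r B u g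
  gen : C ≤ (C ⊓ centralizer (N : Set G)) ⊔ closure {g | g ∈ C ∧ ∃ u ∈ N, q u = 0 ∧ Tv N r B u g}

theorem zmod_two (a : ZMod 2) : a = 0 ∨ a = 1 := by
  revert a
  decide

namespace OOrth

variable {C N : Subgroup G} {r : G} {q : G → ZMod 2} {B : G → G → ZMod 2} (O : OOrth C N r q B)

include O

theorem B_mul' {x y w : G} (hx : x ∈ N) (hy : y ∈ N) (hw : w ∈ N) : B w (x * y) = B w x + B w y := by
  rw [O.symm w hw _ (mul_mem hx hy), O.B_mul x hx y hy w hw, O.symm x hx w hw, O.symm y hy w hw]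

theorem B_one {x : G} (hx : x ∈ N) : B 1 x = 0 := by
  have h := O.B_mul 1 (one_mem N) 1 (one_mem N) x hx
  rw [mul_one] at h
  rcases zmod_two (B 1 x) with h1 | h1
  · exact h1
  · rw [h1] at h
    exact absurd h (by decide)

theorem q_one : q 1 = 0 := by
  have h := O.q_mul 1 (one_mem N) 1 (one_mem N)
  rw [mul_one, O.B_one (one_mem N), add_zero] at h
  rcases zmod_two (q 1) with h1 | h1
  · exact h1
  · rw [h1] at h
    exact absurd h (by decide)

theorem B_self {x : G} (hx : x ∈ N) : B x x = 0 := by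
  have h := O.q_mul x hx x hx
  rw [O.sq x hx, O.q_one] at h
  rcases zmod_two (B x x) with h1 | h1
  · exact h1
  · rcases zmod_two (q x) with h2 | h2
    · rw [h1, h2] at h; exact absurd h (by decide)
    · rw [h1, h2] at h; exact absurd h (by decide)

theorem B_r' {x : G} (hx : x ∈ N) : B r x = 0 := by rw [O.symm r O.r_mem x hx, O.B_r x hx]

theorem q_mul_r {x : G} (hx : x ∈ N) : q (x * r) = q x + 1 := by
  rw [O.q_mul x hx r O.r_mem, O.q_r, O.B_r x hx, add_zero]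

theorem B_mul_r {x y : G} (hx : x ∈ N) (hy : y ∈ N) : B (x * r) y = B x y := by
  rw [O.B_mul x hx r O.r_mem y hy, O.B_r' hy, add_zero]

theorem B_conj {c x y : G} (hc : c ∈ C) (hx : x ∈ N) (hy : y ∈ N) : B (c * x * c⁻¹) (c * y * c⁻¹) = B x y := by
  have h1 := O.q_mul _ (O.nor c hc x hx) _ (O.nor c hc y hy)
  have h2 := O.q_mul x hx y hy
  have e : c * x * c⁻¹ * (c * y * c⁻¹) = c * (x * y) * c⁻¹ := by group
  rw [e, O.q_conj c hc _ (mul_mem hx hy), O.q_conj c hc x hx, O.q_conj c hc y hy, h2] at h1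
  exact (add_left_cancel h1).symm

/-- one of `x`, `x r` is singular -/
theorem exists_sing {x : G} (hx : x ∈ N) : ∃ x' ∈ N, q x' = 0 ∧ (x' = x ∨ x' = x * r) ∧ ∀ y ∈ N, B x' y = B x y := by
  rcases zmod_two (q x) with h | h
  · exact ⟨x, hx, h, Or.inl rfl, fun _ _ => rfl⟩
  · refine ⟨x * r, mul_mem hx O.r_mem, ?_, Or.inr rfl, fun y hy => O.B_mul_r hx hy⟩
    rw [O.q_mul_r hx, h]
    decide

/-- a singular vector `≠ 1` is not orthogonal to everything -/
theorem exists_B {u : G} (hu : u ∈ N) (hq : q u = 0) (hu1 : u ≠ 1) : ∃ y ∈ N, B y u = 1 := by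
  by_contra hcon
  push Not at hcon
  rcases O.rad u hu fun y hy => by
    rcases zmod_two (B u y) with h | h
    · exact h
    · exact absurd ((O.symm y hy u hu).trans h) (hcon y hy) with h | h
  · exact hu1 h
  · rw [h, O.q_r] at hq
    exact absurd hq (by decide)

/-- `B(·, y)` vanishing on `u^⊥` is `0` or `B(·, u)` -/
theorem eq_of_perp {u y : G} (hu : u ∈ N) (hy : y ∈ N) (h : ∀ x ∈ N, B x u = 0 → B x y = 0) :
    y = 1 ∨ y = r ∨ y = u ∨ y = u * r := by
  by_cases h1 : ∀ x ∈ N, B x y = 0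
  · rcases O.rad y hy fun x hx => (O.symm y hy x hx).trans (h1 x hx) with h2 | h2
    · exact Or.inl h2
    · exact Or.inr (Or.inl h2)
  push Not at h1
  obtain ⟨a, ha, ha1⟩ := h1
  have ha2 : B a y = 1 := (zmod_two _).resolve_left ha1
  have ha3 : B a u = 1 := (zmod_two _).resolve_left fun h3 => ha1 (h a ha h3)
  have h2 : ∀ x ∈ N, B (u * y) x = 0 := by
    intro x hx
    rw [O.B_mul u hu y hy x hx, O.symm u hu x hx, O.symm y hy x hx]
    rcases zmod_two (B x u) with h3 | h3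
    · rw [h3, h x hx h3, add_zero]
    · have h4 : B (x * a) u = 0 := by
        rw [O.B_mul x hx a ha u hu, h3, ha3]
        decide
      have h5 := h _ (mul_mem hx ha) h4
      rw [O.B_mul x hx a ha y hy, ha2] at h5
      rw [h3]
      rcases zmod_two (B x y) with h6 | h6
      · rw [h6] at h5
        exact absurd h5 (by decide)
      · rw [h6]
        decide
  have e : y = u * (u * y) := by rw [← mul_assoc, O.sq u hu, one_mul]
  rcases O.rad _ (mul_mem hu hy) h2 with h3 | h3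
  · right; right; left
    rw [e, h3, mul_one]
  · right; right; right
    rw [e, h3]

/-- a functional not vanishing on `u₀^⊥` -/
theorem exists_perp {u₀ u : G} (h0 : u₀ ∈ N) (hq0 : q u₀ = 0) (hu : u ∈ N) (hq : q u = 0) (hu1 : u ≠ 1)
    (hu0 : u ≠ u₀) : ∃ x ∈ N, B x u₀ = 0 ∧ B x u = 1 := by
  by_contra hcon
  push Not at hcon
  rcases O.eq_of_perp h0 hu fun x hx hx0 => (zmod_two _).resolve_right (hcon x hx hx0) with h | h | h | h
  · exact hu1 h
  · rw [h, O.q_r] at hq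
    exact absurd hq (by decide)
  · exact hu0 h
  · rw [h, O.q_mul_r h0, hq0] at hq
    exact absurd hq (by decide)

/-- two noncollinear singular vectors of `u₀^⊥` are conjugate under `C(u₀)` -/
theorem conj_of_one {u₀ u u' : G} (h0 : u₀ ∈ N) (hu : u ∈ N) (hq : q u = 0) (hu' : u' ∈ N) (hq' : q u' = 0)
    (hB0 : B u₀ u = 0) (hB0' : B u₀ u' = 0) (hB : B u u' = 1) :
    ∃ g ∈ C, g * u₀ * g⁻¹ = u₀ ∧ g * u * g⁻¹ = u' := by
  have hw : u * u' * r ∈ N := mul_mem (mul_mem hu hu') O.r_mem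
  have hqw : q (u * u' * r) = 0 := by
    rw [O.q_mul_r (mul_mem hu hu'), O.q_mul u hu u' hu', hq, hq', hB]
    decide
  obtain ⟨g, hg, ht⟩ := O.tv _ hw hqw
  have hBw : ∀ x ∈ N, B x (u * u' * r) = B x u + B x u' := by
    intro x hx
    rw [O.B_mul' (mul_mem hu hu') O.r_mem hx, O.B_r x hx, add_zero, O.B_mul' hu hu' hx]
  refine ⟨g, hg, (ht u₀ h0).1 ?_, ?_⟩
  · rw [hBw u₀ h0, hB0, hB0', add_zero]
  · rw [(ht u hu).2 (by rw [hBw u hu, O.B_self hu, hB, zero_add])]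
    have e1 : u * u' * r * r = u * u' := by rw [mul_assoc, O.sq r O.r_mem, mul_one]
    rw [e1, ← mul_assoc, O.sq u hu, one_mul]

/-- **the stabiliser of `u₀` is transitive on the singular vectors of `u₀^⊥ - ⟨u₀⟩`** -/
theorem tra {u₀ u u' : G} (h0 : u₀ ∈ N) (hq0 : q u₀ = 0) (hu : u ∈ N) (hq : q u = 0) (hu' : u' ∈ N) (hq' : q u' = 0)
    (hB0 : B u₀ u = 0) (hB0' : B u₀ u' = 0) (hu1 : u ≠ 1) (hu1' : u' ≠ 1) (hu0 : u ≠ u₀) (hu0' : u' ≠ u₀) :
    ∃ g ∈ C, g * u₀ * g⁻¹ = u₀ ∧ g * u * g⁻¹ = u' := by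
  obtain ⟨a, ha, ha0, ha1⟩ := O.exists_perp h0 hq0 hu hq hu1 hu0
  obtain ⟨b, hb, hb0, hb1⟩ := O.exists_perp h0 hq0 hu' hq' hu1' hu0'
  obtain ⟨x, hx, hx0, hx1, hx1'⟩ : ∃ x ∈ N, B x u₀ = 0 ∧ B x u = 1 ∧ B x u' = 1 := by
    rcases zmod_two (B a u') with h | h
    · rcases zmod_two (B b u) with h' | h'
      · refine ⟨a * b, mul_mem ha hb, ?_, ?_, ?_⟩
        · rw [O.B_mul a ha b hb _ h0, ha0, hb0, add_zero]
        · rw [O.B_mul a ha b hb _ hu, ha1, h', add_zero]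
        · rw [O.B_mul a ha b hb _ hu', h, hb1, zero_add]
      · exact ⟨b, hb, hb0, h', hb1⟩
    · exact ⟨a, ha, ha0, ha1, h⟩
  obtain ⟨x', hx', hqx, -, hBx⟩ := O.exists_sing hx
  obtain ⟨g, hg, hg0, hgx⟩ := O.conj_of_one h0 hu hq hx' hqx hB0
    (by rw [O.symm _ h0 _ hx', hBx _ h0, hx0]) (by rw [O.symm _ hu _ hx', hBx _ hu, hx1])
  obtain ⟨g', hg', hg0', hgx'⟩ := O.conj_of_one h0 hx' hqx hu' hq'
    (by rw [O.symm _ h0 _ hx', hBx _ h0, hx0]) hB0' (by rw [hBx _ hu', hx1'])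
  refine ⟨g' * g, mul_mem hg' hg, ?_, ?_⟩
  · calc g' * g * u₀ * (g' * g)⁻¹ = g' * (g * u₀ * g⁻¹) * g'⁻¹ := by group
      _ = u₀ := by rw [hg0, hg0']
  · calc g' * g * u * (g' * g)⁻¹ = g' * (g * u * g⁻¹) * g'⁻¹ := by group
      _ = u' := by rw [hgx, hgx']

/-- an isometry trivial on `u₀^⊥` is `1` or the transvection with centre `u₀ r` -/
theorem eq_of_fix {u₀ g x : G} (h0 : u₀ ∈ N) (hq0 : q u₀ = 0) (hg : g ∈ C)
    (hfix : ∀ w ∈ N, B w u₀ = 0 → g * w * g⁻¹ = w) (hx : x ∈ N) :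
    g * x * g⁻¹ * x⁻¹ = 1 ∨ g * x * g⁻¹ * x⁻¹ = u₀ * r := by
  rcases zmod_two (B x u₀) with hB | hB
  · left
    rw [hfix x hx hB, mul_inv_cancel]
  have hgx : g * x * g⁻¹ ∈ N := O.nor g hg x hx
  have hy : g * x * g⁻¹ * x⁻¹ ∈ N := mul_mem hgx (inv_mem hx)
  have hinv : x⁻¹ = x := inv_eq_of_mul_eq_one_left (O.sq x hx)
  have hxy : g * x * g⁻¹ = x * (g * x * g⁻¹ * x⁻¹) := by
    rw [O.comm x hx _ hy]; group
  have hperp : ∀ w ∈ N, B w u₀ = 0 → B w (g * x * g⁻¹ * x⁻¹) = 0 := by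
    intro w hw hw0
    have h1 := O.B_conj hg hw hx
    rw [hfix w hw hw0, hxy, O.B_mul' hx hy hw] at h1
    have h2 : B w x + B w (g * x * g⁻¹ * x⁻¹) = B w x + 0 := by rw [h1, add_zero]
    exact add_left_cancel h2
  have hqq : q (g * x * g⁻¹ * x⁻¹) + B x (g * x * g⁻¹ * x⁻¹) = 0 := by
    have h1 := O.q_conj g hg x hx
    rw [hxy, O.q_mul x hx _ hy] at h1
    have h2 : q x + (q (g * x * g⁻¹ * x⁻¹) + B x (g * x * g⁻¹ * x⁻¹)) = q x + 0 := by
      rw [← add_assoc, h1, add_zero]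
    exact add_left_cancel h2
  rcases O.eq_of_perp h0 hy hperp with h | h | h | h
  · exact Or.inl h
  · exfalso
    rw [h, O.q_r, O.B_r x hx] at hqq
    exact absurd hqq (by decide)
  · exfalso
    rw [h, hq0, hB] at hqq
    exact absurd hqq (by decide)
  · exact Or.inr h

end OOrth

/-- The module hypotheses of (4). -/
structure OHyp (T : Subgroup G) (U : Fin 2 → Subgroup G) (v : Fin 2 → G) (q : Fin 2 → G → ZMod 2)
    (B : Fin 2 → G → G → ZMod 2) : Prop where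
  orth : ∀ i, OOrth (CC v i) (NU U v i) (v i) (q i) (B i)
  sing : ∀ i, q i (v (i + 1)) = 0
  /-- some element of `N (i+1)` acts nontrivially on `N i` and trivially on `v (i+1)^⊥` -/
  tv : ∀ i, ∃ y ∈ NU U v (i + 1), y ∈ CC v i ∧ Tv (NU U v i) (v i) (B i) (v (i + 1)) y

namespace Sit

variable [Finite G] {S : Sylow 2 G} {P T : Subgroup G} {U : Fin 2 → Subgroup G} {v : Fin 2 → G}
  (D : Sit S P T U v) {q : Fin 2 → G → ZMod 2} {B : Fin 2 → G → G → ZMod 2} (H : OHyp T U v q B)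

include D

theorem mem_D_of {i : Fin 2} {g : G} (hg : g ∈ CC v i) (h : g * v (i + 1) * g⁻¹ = v (i + 1)) :
    g ∈ centralizer (zc T : Set G) := by
  have h1 : g ∈ CC v (i + 1) := by
    rw [mem_centralizer_singleton_iff]
    calc g * v (i + 1) = g * v (i + 1) * g⁻¹ * g := by group
      _ = v (i + 1) * g := by rw [h]
  apply D.CC_inf
  rcases Fin.exists_fin_two.1 ⟨i, rfl⟩ with hi | hi
  · rw [hi] at hg h1; exact ⟨hg, h1⟩
  · rw [hi] at hg h1; exact ⟨h1, hg⟩

include H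

/-- the elements `≠ 1` of `U (i+1)` are singular in `N i` -/
theorem sing_U {i : Fin 2} {w : G} (hw : w ∈ U (i + 1)) : q i w = 0 := by
  have O := H.orth i
  by_cases hw1 : w = 1
  · rw [hw1]; exact O.q_one
  obtain ⟨l, -, hl, -, hlw⟩ := D.tr (i + 1) i (ne_add_one i).symm w hw hw1
  have hlC : l ∈ CC v i := (centralizer_le (Set.singleton_subset_iff.2 (D.mem i))) hl
  rw [← hlw, O.q_conj l hlC _ (D.mem_N i)]
  exact H.sing i

theorem B_U {i : Fin 2} {w w' : G} (hw : w ∈ U (i + 1)) (hw' : w' ∈ U (i + 1)) : B i w w' = 0 := by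
  have O := H.orth i
  have h := O.q_mul w (D.U_le_N i hw) w' (D.U_le_N i hw')
  rw [D.sing_U H hw, D.sing_U H hw', D.sing_U H (mul_mem hw hw'), add_zero, zero_add] at h
  exact h.symm

/-- `U (i+1)` contains a second singular vector -/
theorem exists_second (i : Fin 2) : ∃ w ∈ U (i + 1), w ≠ 1 ∧ w ≠ v (i + 1) := by
  by_contra hcon
  push Not at hcon
  have h1 : (U (i + 1) : Set G) ⊆ {1, v (i + 1)} := by
    intro x hx
    by_cases hx1 : x = 1
    · exact Or.inl hx1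
    · exact Or.inr (hcon x hx hx1)
  have h2 := Nat.card_mono (Set.toFinite {1, v (i + 1)}) h1
  have h3 : Nat.card (({1, v (i + 1)} : Set G)) ≤ 2 := by
    rw [Nat.card_coe_set_eq]
    exact Set.ncard_insert_le _ _ |>.trans (by rw [Set.ncard_singleton])
  have h4 := D.four (i + 1)
  have h5 : Nat.card ((U (i + 1) : Set G)) = 4 := h4
  omega

/-- every singular vector `≠ 1` of `N i` is conjugate to `v (i+1)` under `C_G(v i)` -/
theorem exists_conj {i : Fin 2} {u : G} (hu : u ∈ NU U v i) (hq : q i u = 0) (hu1 : u ≠ 1) :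
    ∃ c ∈ CC v i, c * v (i + 1) * c⁻¹ = u := by
  have O := H.orth i
  rcases zmod_two (B i (v (i + 1)) u) with hB | hB
  · by_cases hu0 : u = v (i + 1)
    · exact ⟨1, one_mem _, by rw [hu0]; group⟩
    obtain ⟨w, hw, hw1, hw0⟩ := D.exists_second H i
    obtain ⟨l, -, hl, -, hlw⟩ := D.tr (i + 1) i (ne_add_one i).symm w hw hw1
    have hlC : l ∈ CC v i := (centralizer_le (Set.singleton_subset_iff.2 (D.mem i))) hl
    obtain ⟨g, hg, -, hgw⟩ := O.tra (D.mem_N i) (H.sing i) (D.U_le_N i hw) (D.sing_U H hw) hu hq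
      (by rw [O.symm _ (D.mem_N i) _ (D.U_le_N i hw)]; exact D.B_U H hw (D.mem _)) hB hw1 hu1 hw0 hu0
    refine ⟨g * l, mul_mem hg hlC, ?_⟩
    calc g * l * v (i + 1) * (g * l)⁻¹ = g * (l * v (i + 1) * l⁻¹) * g⁻¹ := by group
      _ = u := by rw [hlw, hgw]
  · obtain ⟨g, hg, -, hgw⟩ := O.conj_of_one (one_mem _) (D.mem_N i) (H.sing i) hu hq
      (O.B_one (D.mem_N i)) (O.B_one hu) hB
    exact ⟨g, hg, hgw⟩

end Sit

end Cfsg.Agent.Omega.OM.KTwo

end

section


/-!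
# The DELTA LEMMA for `O_{2n+1}(2)` and `Sp_{2n}(2)` (helper564 #15873 (D))

* `Dat.of_orth` : (R), from `OOrth C N r q B`, `Om` = the singular vectors;
* `Symp C N B` : `C` acts on `N` as `Sp_{2n}(2)`; `Symp.tra`; `Dat.of_symp` : (NR), `Om = N - 1`;
* `OOrth.two`, `Symp.two` : `a^⊥` has no subgroup of index 2 invariant under the stabiliser of `a`
  ((R): containing `a` and `r`).
-/

set_option autoImplicit false
set_option linter.unusedSectionVars false

namespace Cfsg.Agent.Omega.OM.Delta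

open Subgroup
open Cfsg.Agent.Omega.OM.KTwo (OOrth Tv)

universe u

variable {G : Type u} [Group G]

section orth

variable {C N : Subgroup G} {r : G} {q : G → ZMod 2} {B : G → G → ZMod 2} (O : OOrth C N r q B)

include O

end orth

/-- **`C` acts on `N` as `Sp_{2n}(2)`** (contains all transvections) -/
structure Symp (C N : Subgroup G) (B : G → G → ZMod 2) : Prop where
  nor : ∀ c ∈ C, ∀ x ∈ N, c * x * c⁻¹ ∈ N
  comm : ∀ x ∈ N, ∀ y ∈ N, x * y = y * x
  sq : ∀ x ∈ N, x * x = 1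
  B_mul : ∀ x ∈ N, ∀ y ∈ N, ∀ w ∈ N, B (x * y) w = B x w + B y w
  symm : ∀ x ∈ N, ∀ y ∈ N, B x y = B y x
  B_self : ∀ x ∈ N, B x x = 0
  B_conj : ∀ c ∈ C, ∀ x ∈ N, ∀ y ∈ N, B (c * x * c⁻¹) (c * y * c⁻¹) = B x y
  rad : ∀ x ∈ N, (∀ y ∈ N, B x y = 0) → x = 1
  tv : ∀ u ∈ N, u ≠ 1 → ∃ g ∈ C, Tv N 1 B u g

namespace Symp

variable {C N : Subgroup G} {B : G → G → ZMod 2} (O : Symp C N B)

/-- the nonzero vectors -/
def omN (N : Subgroup G) : Set G := {u | u ∈ N ∧ u ≠ 1}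

include O

theorem frm : Frm N 1 B where
  comm := O.comm
  sq := O.sq
  B_mul := O.B_mul
  symm := O.symm
  B_self := O.B_self
  r_mem := one_mem N
  B_r := fun x hx => by
    have h := O.B_mul 1 (one_mem N) 1 (one_mem N) x hx
    rw [mul_one] at h
    rw [O.symm x hx 1 (one_mem N)]
    exact (left_eq_add.1 h)
  rad := fun x hx h => Or.inl (O.rad x hx h)

theorem dat {F : Subgroup G} {D : G → Subgroup G} (hbig : Big N 1 B) (hNF : N ≤ F)
    (hFc : ∀ x ∈ F, ∀ y ∈ F, x * y = y * x) (hFs : ∀ x ∈ F, x * x = 1) (hCF : ∀ c ∈ C, ∀ x ∈ F, c * x * c⁻¹ ∈ F)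
    (hD : ∀ b ∈ omN N, D b ≤ C) (hDc : ∀ b ∈ omN N, ∀ g ∈ C, ∀ d ∈ D b, g * d * g⁻¹ ∈ D (g * b * g⁻¹))
    (hDF : ∀ b ∈ omN N, ∀ d ∈ D b, ∀ x ∈ F, d * x * d⁻¹ = x ∨ d * x * d⁻¹ = x * b)
    (hDN : ∀ b ∈ omN N, ∃ d ∈ D b, ∃ x ∈ N, d * x * d⁻¹ ≠ x)
    (hDZ : ∀ b ∈ omN N, ∀ d ∈ D b, (∀ x ∈ N, d * x * d⁻¹ = x) → ∀ x ∈ F, d * x * d⁻¹ = x) :
    Dat C N F 1 (omN N) B D where
  toFrm := O.frm
  N_le := hNF
  F_comm := hFc
  F_sq := hFs
  C_F := hCF
  C_N := O.nor
  C_Om := fun c hc b hb => ⟨O.nor c hc b hb.1, fun e => hb.2 (by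
    calc b = c⁻¹ * (c * b * c⁻¹) * c := by group
      _ = 1 := by rw [e]; group)⟩
  B_conj := O.B_conj
  om_mem := fun _ hb => hb.1
  om_nr := fun b hb => ⟨hb.2, hb.2⟩
  om_hyp := fun b hb b' hb' hB => by
    rw [mul_one]
    refine ⟨mul_mem hb.1 hb'.1, fun e => ?_⟩
    have h1 : b = b' := by
      calc b = b * (b' * b') := by rw [O.sq _ hb'.1, mul_one]
        _ = b' := by rw [← mul_assoc, e, one_mul]
    rw [h1, O.B_self b' hb'.1] at hB
    exact absurd hB (by decide)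
  om_line := fun b hb b' hb' _ hne => by
    refine ⟨mul_mem hb.1 hb'.1, fun e => hne ?_⟩
    calc b = b * (b' * b') := by rw [O.sq _ hb'.1, mul_one]
      _ = b' := by rw [← mul_assoc, e, one_mul]
  om_rep := fun x hx hn => Or.inl ⟨hx, hn.1⟩
  om_uni := fun _ _ _ => rfl
  big := hbig
  D_le := hD
  D_conj := hDc
  D_F := fun b hb d hd x hx => by rw [mul_one]; exact hDF b hb d hd x hx
  D_N := hDN
  D_cen := hDZ

/-- two vectors `u, u'` with `B u u' = 1` of `u₀^⊥` are conjugate under `C(u₀)` -/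
theorem conj_of_one {u₀ u u' : G} (h0 : u₀ ∈ N) (hu : u ∈ N) (hu' : u' ∈ N)
    (hB0 : B u₀ u = 0) (hB0' : B u₀ u' = 0) (hB : B u u' = 1) :
    ∃ g ∈ C, g * u₀ * g⁻¹ = u₀ ∧ g * u * g⁻¹ = u' := by
  have hF := O.frm
  have hw : u * u' ∈ N := mul_mem hu hu'
  have hBw : ∀ x ∈ N, B x (u * u') = B x u + B x u' := fun x hx => hF.B_mul' hu hu' hx
  have hw1 : u * u' ≠ 1 := fun e => by
    have h1 := hBw u hu
    rw [e, hF.B_one' hu, O.B_self u hu, hB] at h1
    exact absurd h1 (by decide)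
  obtain ⟨g, hg, ht⟩ := O.tv _ hw hw1
  refine ⟨g, hg, (ht u₀ h0).1 ?_, ?_⟩
  · rw [hBw u₀ h0, hB0, hB0', add_zero]
  · rw [(ht u hu).2 (by rw [hBw u hu, O.B_self u hu, hB, zero_add]), mul_one, ← mul_assoc, O.sq u hu, one_mul]

/-- **the stabiliser of `u₀` is transitive on `u₀^⊥ - ⟨u₀⟩`** -/
theorem tra {u₀ u u' : G} (h0 : u₀ ∈ N) (hu : u ∈ N) (hu' : u' ∈ N) (hB0 : B u₀ u = 0) (hB0' : B u₀ u' = 0)
    (hu1 : u ≠ 1) (hu1' : u' ≠ 1) (hu0 : u ≠ u₀) (hu0' : u' ≠ u₀) :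
    ∃ g ∈ C, g * u₀ * g⁻¹ = u₀ ∧ g * u * g⁻¹ = u' := by
  have hF := O.frm
  obtain ⟨x, hx, hx0, hx1, hx1'⟩ := hF.exists_link h0 hu hu' hu1 hu1 hu0 (by rw [mul_one]; exact hu0) hu1' hu1'
    hu0' (by rw [mul_one]; exact hu0')
  obtain ⟨g, hg, hg0, hgx⟩ := O.conj_of_one h0 hu hx hB0 (by rw [O.symm _ h0 _ hx, hx0])
    (by rw [O.symm _ hu _ hx, hx1])
  obtain ⟨g', hg', hg0', hgx'⟩ := O.conj_of_one h0 hx hu' (by rw [O.symm _ h0 _ hx, hx0]) hB0' hx1'
  refine ⟨g' * g, mul_mem hg' hg, ?_, ?_⟩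
  · calc g' * g * u₀ * (g' * g)⁻¹ = g' * (g * u₀ * g⁻¹) * g'⁻¹ := by group
      _ = u₀ := by rw [hg0, hg0']
  · calc g' * g * u * (g' * g)⁻¹ = g' * (g * u * g⁻¹) * g'⁻¹ := by group
      _ = u' := by rw [hgx, hgx']

/-- `a^⊥` has no subgroup of index 2 invariant under the stabiliser of `a` -/
theorem two (hbig : Big N 1 B) {a : G} (ha : a ∈ N) (ha1 : a ≠ 1) {K : Subgroup G}
    (hKC : ∀ m ∈ C, m * a * m⁻¹ = a → ∀ x ∈ K, m * x * m⁻¹ ∈ K)
    (hK2 : ∀ x ∈ N, ∀ y ∈ N, B x a = 0 → B y a = 0 → x ∉ K → y ∉ K → x * y ∈ K) :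
    ∀ x ∈ N, B x a = 0 → x ∈ K := by
  have hF := O.frm
  obtain ⟨u, hu, hua, nu, nua⟩ := hbig a ha ⟨ha1, ha1⟩
  have hne := hF.nr_mul_ne ha nua
  have key : ∀ w ∈ N, B w a = 0 → w ≠ 1 → w ≠ a → ∀ w' ∈ N, B w' a = 0 → w' ≠ 1 → w' ≠ a → w ∈ K → w' ∈ K := by
    intro w hw hwa hw1 hw0 w' hw' hwa' hw1' hw0' hwK
    obtain ⟨g, hg, hg0, hgw⟩ := O.tra ha hw hw' (by rw [O.symm a ha w hw, hwa]) (by rw [O.symm a ha w' hw', hwa'])
      hw1 hw1' hw0 hw0'
    rw [← hgw]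
    exact hKC g hg hg0 w hwK
  by_cases huK : u ∈ K
  · have h1 : ∀ x ∈ N, B x a = 0 → x ≠ 1 → x ≠ a → x ∈ K := fun x hx hxa hx1 hx0 =>
      key u hu hua nu.1 hne.1 x hx hxa hx1 hx0 huK
    intro x hx hxa
    by_cases hx1 : x = 1
    · rw [hx1]; exact one_mem K
    by_cases hx0 : x = a
    · have h2 : u * a ∈ K := h1 _ (mul_mem hu ha) (by rw [O.B_mul u hu a ha a ha, hua, O.B_self a ha, add_zero])
        nua.1 (fun e => nu.1 (mul_eq_right.1 e))
      have h3 := mul_mem (inv_mem huK) h2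
      rw [inv_mul_cancel_left] at h3
      rwa [hx0]
    · exact h1 x hx hxa hx1 hx0
  exfalso
  obtain ⟨w, hw, hwa, hwu, -⟩ := hF.exists_link ha hu hu nu.1 nu.2 hne.1 hne.2 nu.1 nu.2 hne.1 hne.2
  have hau : B a u = 0 := by rw [O.symm a ha u hu, hua]
  have hn : ∀ z ∈ N, B z u = 1 → z ≠ 1 ∧ z ≠ a := by
    intro z _ hzu
    refine ⟨fun e => ?_, fun e => ?_⟩
    · rw [e, hF.B_one hu] at hzu
      exact absurd hzu (by decide)
    · rw [e, hau] at hzu
      exact absurd hzu (by decide)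
  have hwK : w ∉ K := fun h1 => huK (key w hw hwa (hn w hw hwu).1 (hn w hw hwu).2 u hu hua nu.1 hne.1 h1)
  have h1 := hK2 u hu w hw hua hwa huK hwK
  have huw := mul_mem hu hw
  have h3 : B (u * w) u = 1 := by rw [O.B_mul u hu w hw u hu, O.B_self u hu, hwu, zero_add]
  have h4 := hn _ huw h3
  exact huK (key _ huw (by rw [O.B_mul u hu w hw a ha, hua, hwa, add_zero]) h4.1 h4.2 u hu hua nu.1 hne.1 h1)

end Symp

end Cfsg.Agent.Omega.OM.Delta

end

section


/-!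
# THEOREM TV without fixed vector: every transvection is induced, or `Sp_{2n}(2)`

`h : GSys C N r`, a 2-group `T ≤ C` with `C_N(T) ≤ {1, r}`, a nontrivial transvection `t` with centre `r` which
centralises `p`, where `p`, `r p` are conjugate to `r`: all elements `≠ 1` of `N` are conjugate to `r`, and
`AllTv C N` or `Symp C N B`.

* `symp_or`; `tv_of` : in `Symp C N B` an element of `C` with `[N, g] ≤ ⟨s⟩` acts as the transvection with centre `s`;
* `symp_conj`.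
-/

set_option autoImplicit false

namespace Cfsg.Agent.Omega.NO3S.Sym.SympOf

open Subgroup Module Cfsg.Agent.Omega.TV
open Cfsg.Agent.Omega.OM.KTwo (Tv)
open Cfsg.Agent.Omega.OM.Delta (Symp zt)

universe u

variable {G : Type u} [Group G]

section symp

variable {C N : Subgroup G} {B : G → G → ZMod 2} (O : Symp C N B)

include O

end symp

end Cfsg.Agent.Omega.NO3S.Sym.SympOf

end

section


/-!
# Case (E), two centres: LEMMA 0 / QP, (COMP) and THEOREM C (helper997 #19092, helper173 #19764, helper33 #19461)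

Abstract part (any `q`, any frame):
* `Compl.le_or_le_sup` : LEMMA QP. `T ≤ D ≤ H`, `N_H(T) ≤ D`, every `R ∈ P(T)`, `R ≤ H`, `R ≰ D` generates `H` together
  with `D`, `X ⊴ H`: `X ≤ D` or `H = X D`;
* `Compl.le_centralizer_of_le` : `X ⊴ H`, `X ≤ C(u)`: `X` centralises `⟨A ^ H⟩` for `A ≤ ⟨u ^ H⟩`;
* `Compl.le_normalizer` : (COMP). `C₁ ⊆ C₂ N_{C₁}(L)`, `C₂ = ⟨D, M⟩`, `M` transitive on the points `Z ^ m` of `L`: `C₁`
  normalises `⟨Z ^ C₂⟩`;
* `Compl.comm_le` : averaging (Gaschuetz). `K` normalises `Y` and `Z ≤ Y`, `[u, K] ≤ Y`, `T ≤ K` of odd index, `M ≤ K`,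
  `[u, T] [u, M] ≤ Z`, and `y ∈ Y`, `[y, T] [y, M] ≤ Z` only for `y ∈ Z`: then `[u, K] ≤ Z`.

In the frame `Sit` (`k = 2`, `q = 2`):
* `Sit.comp` : `U i ^ c ∈ U i ^ D` for all `c ∈ C_G(v i)` is impossible (`D = C_G(Y)`);
* `Sit.qp` : `X ⊴ C_G(v i)` moves `N i`: `C_G(v i) = X D`;
* `Sit.not_le_normalizer` : moreover `X` does not normalise `U i` (STEP F+);
* `Sit.thmC` : **THEOREM C.**
-/

set_option autoImplicit false
set_option linter.unusedSectionVars false

namespace Cfsg.Agent.Omega.OM.KTwo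

open Subgroup Cfsg Cfsg.Agent.ZN Cfsg.Agent.Omega.MinPar
open Cfsg.Agent.Omega.NO3S Cfsg.Agent.Omega.FrameNOFF
open Cfsg.Agent.MinSimple.MinParabolic
open Cfsg.Agent.Omega.NoFF.Basic (conj_conj mem_conj conj_le_iff conj_le_centralizer comm_symm comm_mono
  Z_le_V V_le conj_V_mul)
open Cfsg.Agent.Omega.NOThreeL.Pair (conj_eq_of_mem)
open Cfsg.Agent.ZN.ChoiceSit (Syl)
open Cfsg.Agent.MinSimple.VModule (mem_zc)
open scoped Pointwise

universe u

variable {G : Type u} [Group G]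

namespace Compl

/-! ### Abstract part -/

/-- **LEMMA QP / LEMMA 0.** -/
theorem le_or_le_sup [Finite G] {T D H X : Subgroup G} (hTD : T ≤ D) (hXH : X ≤ H) (hTH : T ≤ H)
    (hN : H ⊓ normalizer (T : Set G) ≤ D)
    (hR : ∀ R : Subgroup G, IsMinPar T R → R ≤ H → ¬ R ≤ D → H ≤ D ⊔ R) :
    X ≤ D ∨ H ≤ X ⊔ D := by
  by_cases h : ∀ R : Subgroup G, IsMinPar T R → R ≤ X ⊔ T → R ≤ D
  · left
    have hXT : X ⊔ T ≤ H := sup_le hXH hTH
    exact le_sup_left.trans (MinSimple.MinParabolic.le_of_forall (S := T) le_sup_right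
      ((inf_le_inf_right _ hXT).trans hN) h)
  · right
    push Not at h
    obtain ⟨R, hR1, hR2, hR3⟩ := h
    exact (hR R hR1 (hR2.trans (sup_le hXH hTH)) hR3).trans
      (sup_le le_sup_right (hR2.trans (sup_le le_sup_left (hTD.trans le_sup_right))))

/-- `X ⊴ H` centralises `u`, `A ≤ ⟨u ^ H⟩` elementwise: `X` centralises `⟨A ^ H⟩` -/
theorem le_centralizer_of_le {X H A : Subgroup G} {u : G} (hX : H ≤ normalizer (X : Set G))
    (hu : ∀ x ∈ X, x * u * x⁻¹ = u) (hA : ∀ a ∈ A, a ≠ 1 → ∃ l ∈ H, l * u * l⁻¹ = a) :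
    X ≤ centralizer (NoFF.Basic.V A H : Set G) := by
  apply comm_symm
  refine V_le fun c hc => ?_
  intro y hy
  rw [mem_conj] at hy
  rw [mem_centralizer_iff]
  intro x hx
  by_cases h1 : c⁻¹ * y * c = 1
  · have e : y = 1 := by
      have := congrArg (fun t => c * t * c⁻¹) h1
      simpa only [mul_assoc, _root_.mul_inv_cancel_left, _root_.mul_inv_cancel, _root_.mul_one] using this
    rw [e]; simp
  obtain ⟨l, hl, hlu⟩ := hA _ hy h1
  have hcl : c * l ∈ H := mul_mem hc hl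
  have hx' : (c * l)⁻¹ * x * (c * l) ∈ X := by
    have := (mem_normalizer_iff.1 (hX (inv_mem hcl)) x).1 hx
    rwa [inv_inv] at this
  have h2 := hu _ hx'
  have h3 : y = (c * l) * u * (c * l)⁻¹ := by
    have : y = c * (c⁻¹ * y * c) * c⁻¹ := by group
    rw [this, ← hlu]
    group
  have h4 : x * y * x⁻¹ = y := by
    calc x * y * x⁻¹ = (c * l) * (((c * l)⁻¹ * x * (c * l)) * u * ((c * l)⁻¹ * x * (c * l))⁻¹) * (c * l)⁻¹ := by
          rw [h3]; group
      _ = y := by rw [h2, ← h3]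
  calc x * y = x * y * x⁻¹ * x := by group
    _ = y * x := by rw [h4]

/-- **(COMP).** -/
theorem le_normalizer {C₁ C₂ D M L Z : Subgroup G} (hZ : ∀ g, g ∈ C₁ ↔ MulAut.conj g • Z = Z)
    (hD1 : D ≤ C₁) (hM2 : M ≤ C₂) (hC2 : C₂ ≤ D ⊔ M) (hML : M ≤ normalizer (L : Set G))
    (hdec : ∀ c ∈ C₁, ∃ f ∈ C₂, ∃ n ∈ normalizer (L : Set G), c = f * n)
    (htr : ∀ g ∈ normalizer (L : Set G), ∃ l ∈ M, MulAut.conj l • Z = MulAut.conj g • Z) :
    C₁ ≤ normalizer (NoFF.Basic.V Z C₂ : Set G) := by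
  have hM : ∀ m ∈ M, ∀ c ∈ C₁, ∃ x ∈ C₂, ∃ c' ∈ C₁, c * m = x * c' := by
    intro m hm c hc
    obtain ⟨f, hf, n, hn, rfl⟩ := hdec c hc
    obtain ⟨l, hl, hlZ⟩ := htr (n * m) (mul_mem hn (hML hm))
    refine ⟨f * l, mul_mem hf (hM2 hl), l⁻¹ * (n * m), (hZ _).2 ?_, by group⟩
    rw [← conj_conj, ← hlZ, conj_conj, inv_mul_cancel, map_one, one_smul]
  have hA : ∀ y ∈ D ⊔ M, ∀ c ∈ C₁, ∃ x ∈ C₂, ∃ c' ∈ C₁, c * y = x * c' := by
    intro y hy
    rw [← closure_eq D, ← closure_eq M, ← Subgroup.closure_union] at hy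
    induction hy using closure_induction'' with
    | mem x hx =>
      intro c hc
      rcases hx with hx | hx
      · exact ⟨1, one_mem _, c * x, mul_mem hc (hD1 hx), by group⟩
      · exact hM x hx c hc
    | inv_mem x hx =>
      intro c hc
      rcases hx with hx | hx
      · exact ⟨1, one_mem _, c * x⁻¹, mul_mem hc (inv_mem (hD1 hx)), by group⟩
      · exact hM x⁻¹ (inv_mem hx) c hc
    | one => exact fun c hc => ⟨1, one_mem _, c, hc, by group⟩
    | mul x y _ _ h1 h2 =>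
      intro c hc
      obtain ⟨x₁, hx₁, c₁, hc₁, e₁⟩ := h1 c hc
      obtain ⟨x₂, hx₂, c₂, hc₂, e₂⟩ := h2 c₁ hc₁
      refine ⟨x₁ * x₂, mul_mem hx₁ hx₂, c₂, hc₂, ?_⟩
      calc c * (x * y) = c * x * y := by group
        _ = x₁ * (c₁ * y) := by rw [e₁]; group
        _ = x₁ * x₂ * c₂ := by rw [e₂]; group
  have key : ∀ c ∈ C₁, MulAut.conj c • NoFF.Basic.V Z C₂ ≤ NoFF.Basic.V Z C₂ := by
    intro c hc
    have h0 : NoFF.Basic.V Z C₂ ≤ MulAut.conj c⁻¹ • NoFF.Basic.V Z C₂ := by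
      refine V_le fun x hx => ?_
      obtain ⟨x', hx', c', hc', e⟩ := hA x (hC2 hx) c hc
      have h1 : MulAut.conj c • (MulAut.conj x • Z) ≤ NoFF.Basic.V Z C₂ := by
        rw [conj_conj, e, ← conj_conj, (hZ c').1 hc']
        exact Z_le_V hx'
      have h2 := conj_le_iff (g := c⁻¹) |>.2 h1
      rwa [conj_conj, inv_mul_cancel, map_one, one_smul] at h2
    have h2 := conj_le_iff (g := c) |>.2 h0
    rwa [conj_conj, mul_inv_cancel, map_one, one_smul] at h2
  intro c hc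
  rw [mem_normalizer_iff]
  intro x
  constructor
  · intro hx
    apply key c hc
    rw [mem_conj]
    have e : c⁻¹ * (c * x * c⁻¹) * c = x := by group
    rwa [e]
  · intro hx
    have h1 := key c⁻¹ (inv_mem hc)
    apply h1
    rw [mem_conj, inv_inv]
    exact hx

/-- **Averaging** (Gaschuetz): a vector of `U / Z` fixed by `T` and `M` modulo `Z`, fixed by `K` modulo `Y`, is fixed by
`K` modulo `Z` if no vector of `Y / Z` is fixed by `T` and `M`. -/
theorem comm_le [Finite G] {K T M Y Z : Subgroup G} (hTK : T ≤ K) (hodd : Odd (T.relIndex K)) (hMK : M ≤ K)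
    (hZY : Z ≤ Y) (hKY : K ≤ normalizer (Y : Set G)) (hKZ : K ≤ normalizer (Z : Set G))
    (hYZ : Y ≤ normalizer (Z : Set G)) (hY2 : ∀ y ∈ Y, y * y ∈ Z) {u : G} (huK : ∀ x ∈ K, u⁻¹ * x * u * x⁻¹ ∈ Y)
    (huT : ∀ x ∈ T, u⁻¹ * x * u * x⁻¹ ∈ Z) (huM : ∀ x ∈ M, u⁻¹ * x * u * x⁻¹ ∈ Z)
    (hfix : ∀ y ∈ Y, (∀ x ∈ T, y⁻¹ * x * y * x⁻¹ ∈ Z) → (∀ x ∈ M, y⁻¹ * x * y * x⁻¹ ∈ Z) → y ∈ Z) :
    ∀ x ∈ K, u⁻¹ * x * u * x⁻¹ ∈ Z := by
  obtain ⟨y, hy, h⟩ := BTwo.Avg.avg hTK hodd hZY (fun x hx y hy => (mem_normalizer_iff.1 (hKY hx) y).1 hy)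
    (fun x hx y hy => (mem_normalizer_iff.1 (hKZ hx) y).1 hy)
    (fun x hx y hy => (mem_normalizer_iff.1 (hYZ hx) y).1 hy) hY2 huK huT
  -- `[u y, x] ≡ y⁻¹ [u, x] (x y x⁻¹)`
  have hconj : ∀ a ∈ normalizer (Z : Set G), ∀ z ∈ Z, a * z * a⁻¹ ∈ Z := fun a ha z hz =>
    (mem_normalizer_iff.1 ha z).1 hz
  have key : ∀ x ∈ K, u⁻¹ * x * u * x⁻¹ ∈ Z → y⁻¹ * x * y * x⁻¹ ∈ Z := by
    intro x hx h1
    have h2 := h x hx
    have e : (u * y)⁻¹ * x * (u * y) * x⁻¹ = (y⁻¹ * (u⁻¹ * x * u * x⁻¹) * y⁻¹⁻¹) * (y⁻¹ * x * y * x⁻¹) := by group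
    rw [e] at h2
    exact (Subgroup.mul_mem_cancel_left _ (hconj y⁻¹ (inv_mem (hYZ hy)) _ h1)).1 h2
  have hyZ : y ∈ Z := hfix y hy (fun x hx => key x (hTK hx) (huT x hx)) fun x hx => key x (hMK hx) (huM x hx)
  intro x hx
  have h2 := h x hx
  have h3 : x * y * x⁻¹ ∈ Z := hconj x (hKZ hx) y hyZ
  have e : (u * y)⁻¹ * x * (u * y) * x⁻¹ = y⁻¹ * ((u⁻¹ * x * u * x⁻¹) * (x * y * x⁻¹)) := by group
  rw [e] at h2
  exact (Subgroup.mul_mem_cancel_right _ h3).1 ((Subgroup.mul_mem_cancel_left _ (inv_mem hyZ)).1 h2)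

end Compl

namespace Sit

variable [Finite G] {S : Sylow 2 G} {P T : Subgroup G} {U : Fin 2 → Subgroup G} {v : Fin 2 → G}
  (D : Sit S P T U v)

include D

/-! ### The frame `Sit` -/

theorem T_le_D : T ≤ centralizer (zc T : Set G) := MinSimple.VModule.le_centralizer_zc T

theorem mem_D {i : Fin 2} {g : G} (h1 : g ∈ CC v i) (h2 : g ∈ CC v (i + 1)) : g ∈ centralizer (zc T : Set G) := by
  apply D.CC_inf
  rcases Fin.exists_fin_two.1 ⟨i, rfl⟩ with h | h
  · rw [h] at h1 h2; exact ⟨h1, h2⟩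
  · rw [h] at h1 h2; exact ⟨h2, h1⟩

theorem conj_v_mem {i : Fin 2} {g : G} (h : g ∈ normalizer (U i : Set G)) :
    g * v i * g⁻¹ ∈ U i ∧ g * v i * g⁻¹ ≠ 1 :=
  ⟨(mem_normalizer_iff.1 h _).1 (D.mem i), fun h1 => D.ne i (conj_eq_one_iff.1 h1)⟩

theorem mem_CC_iff {i : Fin 2} {g : G} : g ∈ CC v i ↔ g * v i * g⁻¹ = v i := by
  rw [mem_centralizer_singleton_iff]
  constructor
  · intro h
    rw [h]; group
  · intro h
    calc g * v i = g * v i * g⁻¹ * g := by group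
      _ = v i * g := by rw [h]

/-- `N_G(T) ∩ C_G(v i) ≤ C_G(Y)` -/
theorem inf_norm_le (i : Fin 2) : CC v i ⊓ normalizer (T : Set G) ≤ centralizer (zc T : Set G) := by
  rintro g ⟨hg, hgT⟩
  refine D.mem_D hg (D.mem_CC_iff.2 ?_)
  have h1 : g * v (i + 1) * g⁻¹ ∈ zc T :=
    (mem_normalizer_iff.1 (MinSimple.VModule.normalizer_le_normalizer_zc T hgT) _).1 (D.v_mem_zc _)
  have hne : g * v (i + 1) * g⁻¹ ≠ v i := by
    intro h
    have h2 : v (i + 1) = v i := by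
      have h3 : g⁻¹ * v i * g = v i := by
        have := (D.mem_CC_iff.1 (inv_mem hg))
        rwa [inv_inv] at this
      calc v (i + 1) = g⁻¹ * (g * v (i + 1) * g⁻¹) * g := by group
        _ = v i := by rw [h, h3]
    have h3 : v i ∈ U i ⊓ U (i + 1) := ⟨D.mem i, h2 ▸ D.mem (i + 1)⟩
    rw [D.inf i (i + 1) (ne_add_one i), mem_bot] at h3
    exact D.ne i h3
  rcases (D.zT _).1 h1 with h | h | h | h
  · exact absurd (conj_eq_one_iff.1 h) (D.ne _)
  · rcases Fin.exists_fin_two.1 ⟨i, rfl⟩ with hi | hi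
    · subst hi; exact absurd h hne
    · subst hi; exact h
  · rcases Fin.exists_fin_two.1 ⟨i, rfl⟩ with hi | hi
    · subst hi; exact h
    · subst hi; exact absurd h hne
  · exact absurd h (D.z_not_conj _ _)

/-- a subgroup over `T` normalising `U j` and moving `v j` is transitive on the involutions of `U j` -/
theorem trans_of {j : Fin 2} {R : Subgroup G} (hT : T ≤ R) (hR : R ≤ normalizer (U j : Set G)) (hC : ¬ R ≤ CC v j)
    {x : G} (hx : x ∈ U j) (hx1 : x ≠ 1) : ∃ r ∈ R, r * v j * r⁻¹ = x := by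
  obtain ⟨r, hr, hrC⟩ := SetLike.not_le_iff_exists.1 hC
  set y := r * v j * r⁻¹ with hy
  have hyv : y ≠ v j := fun h => hrC (D.mem_CC_iff.2 h)
  obtain ⟨hyU, hy1⟩ := D.conj_v_mem (hR hr)
  obtain ⟨t, ht, hty⟩ : ∃ t ∈ T, t * y * t⁻¹ ≠ y := by
    by_contra hcon
    push Not at hcon
    exact hyv (D.eq_v hyU hy1 hcon)
  have htU : t * y * t⁻¹ ∈ U j := (mem_normalizer_iff.1 (D.T_le_N j ht) _).1 hyU
  have ht1 : t * y * t⁻¹ ≠ 1 := fun h => hy1 (conj_eq_one_iff.1 h)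
  have htv : t * y * t⁻¹ ≠ v j := by
    intro h
    apply hyv
    have h1 := D.cen j _ (inv_mem ht)
    rw [inv_inv] at h1
    calc y = t⁻¹ * (t * y * t⁻¹) * t := by group
      _ = v j := by rw [h, h1]
  rcases NO3S.eq_of_card_four (D.four j) (D.U_sq j) (D.mem j) (D.ne j) hyU hy1 (Ne.symm hyv) hx hx1 with h | h | h
  · exact ⟨1, one_mem _, by rw [h]; group⟩
  · exact ⟨r, hr, h.symm⟩
  · refine ⟨t * r, mul_mem (hT ht) hr, ?_⟩
    have e : t * r * v j * (t * r)⁻¹ = t * y * t⁻¹ := by rw [hy]; group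
    rw [e, h]
    rcases NO3S.eq_of_card_four (D.four j) (D.U_sq j) (D.mem j) (D.ne j) hyU hy1 (Ne.symm hyv) htU ht1 with h2 | h2 | h2
    · exact absurd h2 htv
    · exact absurd h2 hty
    · exact h2

/-- **Generation**: a subgroup `R ≤ C_G(v i)` over `T` normalising `U (i+1)` and moving `v (i+1)` generates `C_G(v i)`
together with `C_G(Y)`. -/
theorem gen_of {i : Fin 2} {R : Subgroup G} (hT : T ≤ R) (hRC : R ≤ CC v i) (hR : R ≤ normalizer (U (i + 1) : Set G))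
    (hRD : ¬ R ≤ centralizer (zc T : Set G))
    (hmax : CC v i ≤ centralizer (zc T : Set G) ⊔ (P ⊓ centralizer (U i : Set G))) :
    CC v i ≤ centralizer (zc T : Set G) ⊔ R := by
  have hC : ¬ R ≤ CC v (i + 1) := fun h => hRD fun r hr => D.mem_D (hRC hr) (h hr)
  refine hmax.trans (sup_le le_sup_left fun l hl => ?_)
  have hlC : l ∈ CC v i := centralizer_le (Set.singleton_subset_iff.2 (D.mem i)) hl.2
  have hlN : l ∈ normalizer (U (i + 1) : Set G) := D.cen_le_norm (ne_add_one i).symm hl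
  obtain ⟨h1, h2⟩ := D.conj_v_mem hlN
  obtain ⟨r, hr, h3⟩ := D.trans_of hT hR hC h1 h2
  have h4 : r⁻¹ * l ∈ centralizer (zc T : Set G) := by
    refine D.mem_D (mul_mem (inv_mem (hRC hr)) hlC) (D.mem_CC_iff.2 ?_)
    calc r⁻¹ * l * v (i + 1) * (r⁻¹ * l)⁻¹ = r⁻¹ * (l * v (i + 1) * l⁻¹) * r := by group
      _ = v (i + 1) := by rw [← h3]; group
  have e : l = r * (r⁻¹ * l) := by group
  rw [e]
  exact mul_mem (mem_sup_right hr) (mem_sup_left h4)

/-- a normal subgroup of `C_G(v i)` in `C_G(Y)` centralises `N i` -/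
theorem le_cent_N_of_le {i : Fin 2} {X : Subgroup G} (hXn : CC v i ≤ normalizer (X : Set G))
    (hX : X ≤ centralizer (zc T : Set G)) : X ≤ centralizer (NU U v i : Set G) := by
  refine Compl.le_centralizer_of_le (u := v (i + 1)) hXn (fun x hx => D.mem_CC_iff.1 (D.cent_zc_le _ (hX hx)))
    fun a ha ha1 => ?_
  obtain ⟨l, -, hl, -, hla⟩ := D.tr (i + 1) i (ne_add_one i).symm a ha ha1
  exact ⟨l, centralizer_le (Set.singleton_subset_iff.2 (D.mem i)) hl, hla⟩

/-- **LEMMA QP** (helper173 #19764 (1)), **LEMMA 0** (helper997 #19092). -/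
theorem qp {i : Fin 2} (hmax : CC v i ≤ centralizer (zc T : Set G) ⊔ (P ⊓ centralizer (U i : Set G)))
    (hU : ∀ R : Subgroup G, IsMinPar T R → R ≤ CC v i → ¬ R ≤ centralizer (zc T : Set G) →
      R ≤ normalizer (U (i + 1) : Set G))
    {X : Subgroup G} (hX : X ≤ CC v i) (hXn : CC v i ≤ normalizer (X : Set G))
    (hXN : ¬ X ≤ centralizer (NU U v i : Set G)) : CC v i ≤ X ⊔ centralizer (zc T : Set G) := by
  refine (Compl.le_or_le_sup D.T_le_D hX (D.T_le_C i) (D.inf_norm_le i) fun R h1 h2 h3 =>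
    D.gen_of h1.le h2 (hU R h1 h2 h3) h3 hmax).resolve_left fun h => hXN (D.le_cent_N_of_le hXn h)

/-- the end of STEP F -/
theorem false_of_le_normalizer (hII : NonLoc (CC v 0) (CC v 1)) (i : Fin 2)
    (h1 : CC v i ≤ normalizer (NoFF.Basic.V (zpowers (v i)) (CC v (i + 1)) : Set G)) : False := by
  have h2 : CC v (i + 1) ≤ normalizer (NoFF.Basic.V (zpowers (v i)) (CC v (i + 1)) : Set G) :=
    le_normalizer_V _ _
  have h3 : NoFF.Basic.V (zpowers (v i)) (CC v (i + 1)) ≤ (S : Subgroup G) := by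
    refine le_trans (V_le fun c hc => ?_) ((D.Q_le_T (i + 1)).trans D.T_le)
    change _ ≤ QQ v (i + 1)
    rw [← D.conj_QQ hc]
    refine conj_le_iff.2 ?_
    rw [zpowers_le]
    exact D.zc_le_Q (i + 1) (D.v_mem_zc i)
  have h4 : NoFF.Basic.V (zpowers (v i)) (CC v (i + 1)) = ⊥ := by
    refine hII _ (S.isPGroup'.to_le h3) ?_ ?_
    · rcases Fin.exists_fin_two.1 ⟨i, rfl⟩ with h | h
      · rw [h] at h1 ⊢; exact h1
      · rw [h] at h2 ⊢; exact h2
    · rcases Fin.exists_fin_two.1 ⟨i, rfl⟩ with h | h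
      · rw [h] at h2 ⊢; exact h2
      · rw [h] at h1 ⊢; exact h1
  have h5 : v i ∈ NoFF.Basic.V (zpowers (v i)) (CC v (i + 1)) := le_V _ _ (mem_zpowers _)
  rw [h4, mem_bot] at h5
  exact D.ne i h5

theorem mem_zpowers_iff' {i : Fin 2} {x : G} : x ∈ zpowers (v i) ↔ x = 1 ∨ x = v i := by
  constructor
  · intro hx
    obtain ⟨n, rfl⟩ := mem_zpowers_iff.1 hx
    have h2 : v i ^ (2 : ℤ) = 1 := by
      have := D.v_sq' i
      exact_mod_cast this
    rcases Int.even_or_odd' n with ⟨k, hk | hk⟩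
    · left
      rw [hk, zpow_mul, h2, one_zpow]
    · right
      rw [hk, zpow_add, zpow_mul, h2, one_zpow, one_mul, zpow_one]
  · rintro (h | h)
    · rw [h]; exact one_mem _
    · rw [h]; exact mem_zpowers _

theorem conj_zpowers_iff {i : Fin 2} (g : G) : g ∈ CC v i ↔ MulAut.conj g • zpowers (v i) = zpowers (v i) := by
  constructor
  · intro hg
    apply conj_eq_of_mem
    apply centralizer_le_normalizer
    rw [mem_centralizer_iff]
    intro x hx
    rcases D.mem_zpowers_iff'.1 hx with h | h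
    · rw [h]; simp
    · rw [h]; exact (mem_centralizer_singleton_iff.1 hg).symm
  · intro h
    have h1 : g * v i * g⁻¹ ∈ zpowers (v i) := by
      rw [← h, mem_conj]
      have e : g⁻¹ * (g * v i * g⁻¹) * g = v i := by group
      rw [e]
      exact mem_zpowers _
    rcases D.mem_zpowers_iff'.1 h1 with h2 | h2
    · exact absurd (conj_eq_one_iff.1 h2) (D.ne i)
    · exact D.mem_CC_iff.2 h2

/-- **(COMP)** (helper33 #19461). -/
theorem comp (hII : NonLoc (CC v 0) (CC v 1)) (i : Fin 2)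
    (hmax : CC v (i + 1) ≤ centralizer (zc T : Set G) ⊔ (P ⊓ centralizer (U (i + 1) : Set G)))
    (h : ∀ c ∈ CC v i, ∃ d ∈ centralizer (zc T : Set G), MulAut.conj c • U i = MulAut.conj d • U i) : False := by
  refine D.false_of_le_normalizer hII i ?_
  refine Compl.le_normalizer (D := centralizer (zc T : Set G)) (M := P ⊓ centralizer (U (i + 1) : Set G))
    (L := U i) D.conj_zpowers_iff (D.cent_zc_le i) ?_ hmax (D.cen_le_norm (ne_add_one i)) ?_ ?_
  · exact inf_le_right.trans (centralizer_le (Set.singleton_subset_iff.2 (D.mem _)))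
  · intro c hc
    obtain ⟨d, hd, hcd⟩ := h c hc
    refine ⟨d, D.cent_zc_le _ hd, d⁻¹ * c, ?_, by group⟩
    refine ChoiceBase.mem_normalizer_iff_cj.2 ?_
    change MulAut.conj (d⁻¹ * c) • U i = U i
    rw [← conj_conj, hcd, conj_conj, inv_mul_cancel, map_one, one_smul]
  · intro g hg
    obtain ⟨h1, h2⟩ := D.conj_v_mem hg
    obtain ⟨l, hl, hlU, -, hlw⟩ := D.tr i (i + 1) (ne_add_one i) _ h1 h2
    refine ⟨l, ⟨hl, hlU⟩, ?_⟩
    have key : ∀ k : G, MulAut.conj k • zpowers (v i) = zpowers (k * v i * k⁻¹) := by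
      intro k
      ext x
      rw [mem_conj, D.mem_zpowers_iff']
      constructor
      · rintro (h3 | h3)
        · have : x = 1 := by
            have := congrArg (fun t => k * t * k⁻¹) h3
            simpa [mul_assoc] using this
          rw [this]; exact one_mem _
        · have : x = k * v i * k⁻¹ := by rw [← h3]; group
          rw [this]; exact mem_zpowers _
      · intro h3
        obtain ⟨n, rfl⟩ := mem_zpowers_iff.1 h3
        rw [conj_zpow]
        have e : k⁻¹ * (k * v i ^ n * k⁻¹) * k = v i ^ n := by group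
        rw [e]
        exact D.mem_zpowers_iff'.1 (mem_zpowers_iff.2 ⟨n, rfl⟩)
    rw [key, key, hlw]

/-- `N i ⟨v i⟩` -/
abbrev NZ (U : Fin 2 → Subgroup G) (v : Fin 2 → G) (i : Fin 2) : Subgroup G := NU U v i ⊔ zpowers (v i)

theorem C_le_N_Z (i : Fin 2) : CC v i ≤ normalizer (zpowers (v i) : Set G) := by
  intro c hc
  refine ChoiceBase.mem_normalizer_iff_cj.2 ?_
  exact (D.conj_zpowers_iff c).1 hc

theorem C_le_N_NZ (i : Fin 2) : CC v i ≤ normalizer (NZ U v i : Set G) := by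
  intro c hc
  refine ChoiceBase.mem_normalizer_iff_cj.2 ?_
  change MulAut.conj c • (NU U v i ⊔ zpowers (v i)) = _
  rw [Subgroup.smul_sup, conj_eq_of_mem (D.C_le_N_N i hc), (D.conj_zpowers_iff c).1 hc]

/-- the subgroup of `C_G(v i)` acting trivially on `U i N i / N i ⟨v i⟩` -/
def KU (D : Sit S P T U v) (i : Fin 2) : Subgroup G where
  carrier := {r | r ∈ CC v i ∧ ∀ x ∈ U i, x⁻¹ * r * x * r⁻¹ ∈ NZ U v i}
  one_mem' := ⟨one_mem _, fun x _ => by simp⟩
  mul_mem' := by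
    rintro r s ⟨hr, h1⟩ ⟨hs, h2⟩
    refine ⟨mul_mem hr hs, fun x hx => ?_⟩
    have h3 := (mem_normalizer_iff.1 (D.C_le_N_NZ i hr) _).1 (h2 x hx)
    have h4 := h1 x hx
    have e : x⁻¹ * (r * s) * x * (r * s)⁻¹ = (x⁻¹ * r * x * r⁻¹) * (r * (x⁻¹ * s * x * s⁻¹) * r⁻¹) := by group
    rw [e]
    exact mul_mem h4 h3
  inv_mem' := by
    rintro r ⟨hr, h1⟩
    refine ⟨inv_mem hr, fun x hx => ?_⟩
    have h3 := (mem_normalizer_iff.1 (D.C_le_N_NZ i (inv_mem hr)) _).1 (inv_mem (h1 x hx))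
    have e : x⁻¹ * r⁻¹ * x * r⁻¹⁻¹ = r⁻¹ * (x⁻¹ * r * x * r⁻¹)⁻¹ * r⁻¹⁻¹ := by group
    rw [e]
    exact h3

end Sit

end Cfsg.Agent.Omega.OM.KTwo

end

section


/-!
# The structure lemma in the transvection case (helper918 #19487, section 0): the hyperbolic line

`h : TUn C D M T N v e x₀ a` (one transvection for every centre).

* `TUn.ti_of_zz` : if `e ≠ 1` and `p v` is not a point for a point `p`, then the line `{x₀, a, x₀ a}` is totally
  isotropic;
* `TUn.hyp` : (helper118 #18145 (4)) if `e = 1` and the line is not totally isotropic, then `N = {1, x₀, a, x₀ a}`.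
-/

set_option autoImplicit false
set_option linter.unusedSectionVars false
set_option linter.style.haveILetI false

namespace Cfsg.Agent.Omega.OM.KTwo.StrSp

open Subgroup

universe u

variable {G : Type u} [Group G]

/-- a conjugate in a Sylow 2-subgroup -/
theorem exists_conj_mem [Finite G] {C T A : Subgroup G} (hT : IsPGroup 2 T) (_ : T ≤ C)
    (hs : ¬ 2 ∣ T.relIndex C) (hAC : A ≤ C) (hA : IsPGroup 2 A) : ∃ c ∈ C, ∀ x ∈ A, c * x * c⁻¹ ∈ T := by
  haveI : Fact (Nat.Prime 2) := ⟨Nat.prime_two⟩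
  have hT' : IsPGroup 2 (T.subgroupOf C) := hT.comap_of_injective _ C.subtype_injective
  have hA' : IsPGroup 2 (A.subgroupOf C) := hA.comap_of_injective _ C.subtype_injective
  obtain ⟨Q, hQ⟩ := hA'.exists_le_sylow
  obtain ⟨g, hg⟩ := MulAction.exists_smul_eq C Q (hT'.toSylow hs)
  refine ⟨g, g.2, fun x hx => ?_⟩
  have h1 : (⟨x, hAC hx⟩ : C) ∈ (Q : Subgroup C) := hQ (mem_subgroupOf.mpr hx)
  have h2 : (MulAut.conj g) ⟨x, hAC hx⟩ ∈ ((g • Q : Sylow 2 C) : Subgroup C) := by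
    rw [Sylow.smul_def]
    exact Subgroup.smul_mem_pointwise_smul _ (MulAut.conj g) _ h1
  rw [hg] at h2
  exact mem_subgroupOf.mp h2

namespace TUn

variable {C D M T N : Subgroup G} {v e x₀ a : G} (h : TUn C D M T N v e x₀ a)
include h

theorem ti_of_zz (he1 : e = v) (zz : ∀ p ∈ Pts C x₀, p * v ∉ Pts C x₀) {t : G} (ht : Tr C N e x₀ t) :
    t * a * t⁻¹ = a := by
  have haN := h.pt_mem h.a_pt
  by_contra h1
  have h2 := (ht.2.1 a haN).resolve_left h1
  have h3 := h.conj_pt h.a_pt ht.1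
  rw [h2, ← mul_assoc, h.comm a haN x₀ h.x_mem, he1] at h3
  exact zz _ h.xa_pt h3

section frm

variable {B : G → G → ℤˣ} (F : Frm C N e x₀ B)
include F

theorem v_l (hv : v ∈ N) {u : G} (hu : u ∈ N) : B v u = 1 := by
  rw [F.symm v hv u hu]
  exact h.ext (φ := fun u => B u v) (ψ := fun _ => 1) (fun _ hx _ hy => h.mul_left F hx hy hv) (fun _ _ _ _ => by simp)
    (fun p hp => by
      obtain ⟨t, ht⟩ := h.exists_tr hp
      exact (F.tv p hp t ht v hv).2 (by rw [h.vC t ht.1]; group)) u hu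

theorem pt_ne_one {p : G} (hp : p ∈ Pts C x₀) : p ≠ 1 := by
  rintro rfl
  obtain ⟨q, hq, h1⟩ := h.exists_nonperp F hp
  rw [h.one_l F (h.pt_mem hq)] at h1
  exact absurd h1.symm neg_ne

variable (he1 : e = 1) (hTn : ∀ t ∈ T, t * a * t⁻¹ = a ∨ t * a * t⁻¹ = x₀ * a)
include he1 hTn

theorem claimA {p t : G} (hp : p ∈ Pts C x₀) (hne : p ≠ x₀) (ht : Tr C N e p t) (htT : t ∈ T) : B p a = 1 := by
  have haN := h.pt_mem h.a_pt
  by_contra h1
  have h2 := h.neg F hp ht haN (ne_of h1)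
  rw [he1, mul_one] at h2
  rcases hTn t htT with h3 | h3 <;> rw [h3] at h2
  · exact h.pt_ne_one F hp (mul_eq_left.1 h2.symm)
  · rw [h.comm a haN p (h.pt_mem hp)] at h2
    exact hne (mul_right_cancel h2).symm

/-- a transvection with centre `p ∈ x₀^⊥` in `T`, up to conjugation in `D` -/
theorem exists_T [Finite G] (hT2 : IsPGroup 2 T) {p : G} (hp : p ∈ Pts C x₀) (hne : p ≠ x₀) (h1 : B x₀ p = 1) :
    ∃ q ∈ Pts C x₀, q ≠ x₀ ∧ ∃ t ∈ T, Tr C N e q t := by
  haveI : Fact (Nat.Prime 2) := ⟨Nat.prime_two⟩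
  have hpN := h.pt_mem hp
  obtain ⟨t, ht⟩ := h.exists_tr hp
  have hpe := h.pe_mem ht
  -- `t²` centralises `N`
  have hsq : ∀ n ∈ N, t ^ 2 * n * (t ^ 2)⁻¹ = n := by
    intro n hn
    have e1 : t ^ 2 * n * (t ^ 2)⁻¹ = t * (t * n * t⁻¹) * t⁻¹ := by rw [pow_two]; group
    rw [e1]
    rcases Int.units_eq_one_or (B p n) with h2 | h2
    · rw [(F.tv p hp t ht n hn).1 h2, (F.tv p hp t ht n hn).1 h2]
    · have h3 := h.neg F hp ht hn h2
      have h4 : t * (p * e) * t⁻¹ = p * e := by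
        refine (F.tv p hp t ht _ hpe).1 ?_
        rw [h.mul_e' F hpN hpN, F.self p hpN]
      rw [h3, h.conj_mul' t, h3, h4, mul_assoc, h.sq _ hpe, mul_one]
  have hsqk : ∀ k : ℕ, ∀ n ∈ N, (t ^ 2) ^ k * n * ((t ^ 2) ^ k)⁻¹ = n := by
    intro k
    induction k with
    | zero => intro n _; simp
    | succ k ih =>
      intro n hn
      have e1 : (t ^ 2) ^ (k + 1) * n * ((t ^ 2) ^ (k + 1))⁻¹ = (t ^ 2) ^ k * (t ^ 2 * n * (t ^ 2)⁻¹) * ((t ^ 2) ^ k)⁻¹ := by
        rw [pow_succ]; group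
      rw [e1, hsq n hn, ih n hn]
  -- the 2-part of `t`
  obtain ⟨k, m, hm, hkm⟩ := Nat.exists_eq_two_pow_mul_odd (orderOf_pos t).ne'
  obtain ⟨l, hl⟩ := hm
  have hact : ∀ n ∈ N, t ^ m * n * (t ^ m)⁻¹ = t * n * t⁻¹ := by
    intro n hn
    have e1 : t ^ m = t * (t ^ 2) ^ l := by rw [hl, pow_succ', pow_mul]
    have e2 : t ^ m * n * (t ^ m)⁻¹ = t * ((t ^ 2) ^ l * n * ((t ^ 2) ^ l)⁻¹) * t⁻¹ := by rw [e1]; group
    rw [e2, hsqk l n hn]
  have h2 : IsPGroup 2 (zpowers (t ^ m)) := by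
    have h3 : (t ^ m) ^ 2 ^ k = 1 := by rw [← pow_mul, mul_comm m, ← hkm, pow_orderOf_eq_one]
    rw [IsPGroup.iff_card]
    obtain ⟨j, -, hj⟩ := (Nat.dvd_prime_pow Nat.prime_two).1 (orderOf_dvd_of_pow_eq_one h3)
    exact ⟨j, by rw [Nat.card_zpowers, hj]⟩
  have htD : t ∈ D := by
    refine (h.D_iff t).2 ⟨ht.1, ?_⟩
    have h3 := (F.tv p hp t ht x₀ h.x_mem).1 (by rw [F.symm p hpN x₀ h.x_mem, h1])
    calc t * x₀ = t * x₀ * t⁻¹ * t := by group
      _ = x₀ * t := by rw [h3]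
  have hDC : D ≤ C := fun d hd => ((h.D_iff d).1 hd).1
  have hTo : ¬ 2 ∣ T.relIndex D := fun h3 =>
    h.T_odd (h3.trans (Dvd.intro _ (relIndex_mul_relIndex T D C h.TD hDC)))
  obtain ⟨d, hd, h3⟩ := exists_conj_mem hT2 h.TD hTo (zpowers_le.2 (pow_mem htD m)) h2
  have hdC := hDC hd
  have htr : Tr C N e p (t ^ m) := by
    refine ⟨pow_mem ht.1 m, fun n hn => by rw [hact n hn]; exact ht.2.1 n hn, ?_⟩
    obtain ⟨n, hn, h4⟩ := ht.2.2
    exact ⟨n, hn, by rwa [hact n hn]⟩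
  refine ⟨d * p * d⁻¹, h.conj_pt hp hdC, fun h4 => hne ?_, _, h3 _ (mem_zpowers _), h.conj_tr htr hdC⟩
  have h5 : d * x₀ = x₀ * d := ((h.D_iff d).1 hd).2
  calc p = d⁻¹ * (d * p * d⁻¹) * d := by group
    _ = d⁻¹ * (x₀ * d) := by rw [h4]; group
    _ = x₀ := by rw [← h5]; group

/-- transvections in a 2-group with centres `o`, `o'` : `o ⊥ o'` -/
theorem perp_of_T [Finite G] (hT2 : IsPGroup 2 T) {o o' t t' : G} (ho : o ∈ Pts C x₀) (ho' : o' ∈ Pts C x₀)
    (ht : Tr C N e o t) (ht' : Tr C N e o' t') (htT : t ∈ T) (htT' : t' ∈ T) : B o o' = 1 := by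
  by_contra h1
  have h1 := ne_of h1
  have hoN := h.pt_mem ho
  have ho'N := h.pt_mem ho'
  have h1' : B o' o = -1 := by rw [F.symm o' ho'N o hoN, h1]
  have hc := h.comm o hoN o' ho'N
  have a1 : t * o' * t⁻¹ = o' * o := by have := h.neg F ho ht ho'N h1; rwa [he1, mul_one] at this
  have a2 : t' * o * t'⁻¹ = o * o' := by have := h.neg F ho' ht' hoN h1'; rwa [he1, mul_one] at this
  have a3 : t * o * t⁻¹ = o := (F.tv o ho t ht o hoN).1 (F.self o hoN)
  have a4 : t' * o' * t'⁻¹ = o' := (F.tv o' ho' t' ht' o' ho'N).1 (F.self o' ho'N)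
  have b1 : t * t' * o' * (t * t')⁻¹ = o' * o := by
    calc t * t' * o' * (t * t')⁻¹ = t * (t' * o' * t'⁻¹) * t⁻¹ := by group
      _ = o' * o := by rw [a4, a1]
  have b2 : t * t' * o * (t * t')⁻¹ = o' := by
    calc t * t' * o * (t * t')⁻¹ = t * (t' * o * t'⁻¹) * t⁻¹ := by group
      _ = t * o * t⁻¹ * (t * o' * t⁻¹) := by rw [a2]; group
      _ = o' := by rw [a3, a1, ← hc, ← mul_assoc, h.sq o hoN, one_mul]
  have b4 : t * t' * (o' * o) * (t * t')⁻¹ = o := by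
    calc t * t' * (o' * o) * (t * t')⁻¹ = t * t' * o' * (t * t')⁻¹ * (t * t' * o * (t * t')⁻¹) := by group
      _ = o' * o * o' := by rw [b1, b2]
      _ = o := by rw [← hc, mul_assoc, h.sq o' ho'N, mul_one]
  have b3 : (t * t') ^ 3 * o' * ((t * t') ^ 3)⁻¹ = o' := by
    calc (t * t') ^ 3 * o' * ((t * t') ^ 3)⁻¹
        = t * t' * (t * t' * (t * t' * o' * (t * t')⁻¹) * (t * t')⁻¹) * (t * t')⁻¹ := by
          rw [pow_succ, pow_two]; group
      _ = o' := by rw [b1, b4, b2]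
  have hgT := mul_mem htT htT'
  obtain ⟨k, hk⟩ := hT2 ⟨t * t', hgT⟩
  have hk' : (t * t') ^ 2 ^ k = 1 := by simpa only [_root_.SubmonoidClass.mk_pow, _root_.OneMemClass.coe_one] using congrArg Subtype.val hk
  have hcop : Nat.Coprime 3 (orderOf (t * t')) :=
    Nat.Coprime.coprime_dvd_right (orderOf_dvd_of_pow_eq_one hk') (Nat.Coprime.pow_right _ (by norm_num))
  obtain ⟨m, hm⟩ := exists_pow_eq_self_of_coprime hcop
  have h3 : Commute ((t * t') ^ 3) o' := by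
    change (t * t') ^ 3 * o' = o' * (t * t') ^ 3
    calc (t * t') ^ 3 * o' = (t * t') ^ 3 * o' * ((t * t') ^ 3)⁻¹ * (t * t') ^ 3 := by group
      _ = o' * (t * t') ^ 3 := by rw [b3]
  have h4 := h3.pow_left m
  rw [hm] at h4
  have h5 : t * t' * o' * (t * t')⁻¹ = o' := by rw [h4.eq]; group
  rw [b1] at h5
  exact h.pt_ne_one F ho (mul_eq_left.1 h5)

/-- **(4) of #18145** -/
theorem hyp [Finite G] (hT2 : IsPGroup 2 T) (hna : B x₀ a = -1)
    (hfix : ∀ n ∈ N, (∀ t ∈ T, t * n * t⁻¹ = n) → n = 1 ∨ n = x₀ ∨ n = v ∨ n = x₀ * v) :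
    ∀ n ∈ N, n = 1 ∨ n = x₀ ∨ n = a ∨ n = x₀ * a := by
  classical
  have haN := h.pt_mem h.a_pt
  have hxN := h.x_mem
  by_cases hc1 : ∀ p ∈ Pts C x₀, B x₀ p = 1 → p = x₀
  · -- all pairs of points are not perpendicular
    have hall : ∀ p ∈ Pts C x₀, ∀ q ∈ Pts C x₀, B p q = 1 → q = p := by
      rintro _ ⟨g, hg, rfl⟩ q hq h1
      have h2 := F.inv g hg x₀ hxN _ (h.conj_N' hg (h.pt_mem hq))
      have e1 : g * (g⁻¹ * q * g) * g⁻¹ = q := by group
      rw [e1, h1] at h2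
      rw [← e1, hc1 _ (h.conj_pt' hq hg) h2.symm]
    have hpts : ∀ p ∈ Pts C x₀, p = x₀ ∨ p = a ∨ p = x₀ * a := by
      intro p hp
      by_contra hcon
      push Not at hcon
      have h1 : B x₀ p = -1 := ne_of fun h1 => hcon.1 (hall x₀ h.x_pt p hp h1)
      have h2 : B a p = -1 := ne_of fun h1 => hcon.2.1 (hall a h.a_pt p hp h1)
      have h3 : B (x₀ * a) p = -1 := ne_of fun h1 => hcon.2.2 (hall _ h.xa_pt p hp h1)
      rw [h.mul_left F hxN haN (h.pt_mem hp), h1, h2] at h3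
      exact absurd h3 (by decide)
    intro n hn
    have hxx := h.sq x₀ hxN
    have haa := h.sq a haN
    have hc := h.comm x₀ hxN a haN
    have e1 : a * x₀ = x₀ * a := hc.symm
    have e2 : x₀ * (x₀ * a) = a := by rw [← mul_assoc, hxx, one_mul]
    have e3 : a * (x₀ * a) = x₀ := by rw [← mul_assoc, e1, mul_assoc, haa, mul_one]
    have e4 : x₀ * a * x₀ = a := by rw [← e1, mul_assoc, hxx, mul_one]
    have e5 : x₀ * a * a = x₀ := by rw [mul_assoc, haa, mul_one]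
    have e6 : x₀ * a * (x₀ * a) = 1 := by rw [← mul_assoc, e4, haa]
    refine closure_induction (p := fun x _ => x = 1 ∨ x = x₀ ∨ x = a ∨ x = x₀ * a)
      (fun q hq => Or.inr (hpts q hq)) (Or.inl rfl) ?_ ?_ (h.gen hn)
    · rintro x y _ _ (rfl | rfl | rfl | rfl) (rfl | rfl | rfl | rfl) <;>
        simp only [one_mul, mul_one, hxx, haa, e1, e2, e3, e4, e5, e6, true_or, or_true]
    · rintro x _ (rfl | rfl | rfl | rfl)
      · exact Or.inl inv_one
      · exact Or.inr (Or.inl (h.inv_eq hxN))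
      · exact Or.inr (Or.inr (Or.inl (h.inv_eq haN)))
      · exact Or.inr (Or.inr (Or.inr (h.inv_eq (mul_mem hxN haN))))
  exfalso
  push Not at hc1
  obtain ⟨p₀, hp₀, hp₀x, hp₀n⟩ := hc1
  obtain ⟨p, hp, hpx, t, htT, ht⟩ := h.exists_T F he1 hTn hT2 hp₀ hp₀n hp₀x
  have hTC : T ≤ C := h.TD.trans fun _ hd => ((h.D_iff _).1 hd).1
  have hTx : ∀ τ ∈ T, τ * x₀ * τ⁻¹ = x₀ := fun τ hτ => by
    rw [((h.D_iff τ).1 (h.TD hτ)).2]; group
  -- the orbit
  set OO : Set N := {o | ∃ τ ∈ T, (o : G) = τ * p * τ⁻¹} with hOO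
  have hO : ∀ o : N, o ∈ OO → (o : G) ∈ Pts C x₀ ∧ (o : G) ≠ x₀ ∧ (∃ s ∈ T, Tr C N e o s) ∧ B o a = 1 ∧ B o x₀ = 1 := by
    rintro o ⟨τ, hτ, h1⟩
    rw [h1]
    have hne : τ * p * τ⁻¹ ≠ x₀ := fun h2 => hpx (by
      calc p = τ⁻¹ * (τ * p * τ⁻¹) * τ := by group
        _ = τ⁻¹ * (τ * x₀ * τ⁻¹) * τ := by rw [h2, hTx τ hτ]
        _ = x₀ := by group)
    have hpt := h.conj_pt hp (hTC hτ)
    have htr := h.conj_tr ht (hTC hτ)
    have hmem := mul_mem (mul_mem hτ htT) (inv_mem hτ)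
    exact ⟨hpt, hne, ⟨_, hmem, htr⟩, h.claimA F he1 hTn hpt hne htr hmem,
      (F.tv _ hpt _ htr x₀ hxN).2 (hTx _ hmem)⟩
  letI : CommGroup N :=
    { (inferInstance : Group N) with
      mul_comm := fun a b => Subtype.ext (h.comm a a.2 b b.2) }
  set O : Finset N := (Set.toFinite OO).toFinset with hOdef
  have hOmem : ∀ o, o ∈ O ↔ o ∈ OO := fun o => by rw [hOdef, Set.Finite.mem_toFinset]
  set s : N := ∏ o ∈ O, o with hs
  -- `s` is fixed by `T`
  have hsT : ∀ τ ∈ T, τ * (s : G) * τ⁻¹ = s := by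
    intro τ hτ
    let c : N →* N :=
      { toFun := fun n => ⟨τ * n * τ⁻¹, h.conj_N (hTC hτ) n.2⟩
        map_one' := Subtype.ext (by simp)
        map_mul' := fun m n => Subtype.ext (by
          change τ * ((m : G) * n) * τ⁻¹ = τ * m * τ⁻¹ * (τ * n * τ⁻¹)
          group) }
    have h1 : c s = s := by
      rw [hs, map_prod]
      refine Finset.prod_nbij (fun n => c n) ?_ ?_ ?_ (fun _ _ => rfl)
      · intro o ho
        rw [hOmem] at ho ⊢
        obtain ⟨τ', hτ', h2⟩ := ho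
        refine ⟨τ * τ', mul_mem hτ hτ', ?_⟩
        change τ * (o : G) * τ⁻¹ = _
        rw [h2]; group
      · intro m _ n _ h2
        have h3 : τ * (m : G) * τ⁻¹ = τ * (n : G) * τ⁻¹ := congrArg Subtype.val h2
        exact Subtype.ext (mul_left_cancel (mul_right_cancel h3))
      · intro o ho
        rw [Finset.mem_coe, hOmem] at ho
        obtain ⟨τ', hτ', h2⟩ := ho
        refine ⟨⟨τ⁻¹ * o * τ, h.conj_N' (hTC hτ) o.2⟩, ?_, ?_⟩
        · rw [Finset.mem_coe, hOmem]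
          refine ⟨τ⁻¹ * τ', mul_mem (inv_mem hτ) hτ', ?_⟩
          change τ⁻¹ * (o : G) * τ = _
          rw [h2]; group
        · apply Subtype.ext
          change τ * (τ⁻¹ * (o : G) * τ) * τ⁻¹ = o
          group
    exact congrArg Subtype.val h1
  -- products of values of the form
  have hprod : ∀ q ∈ N, B s q = ∏ o ∈ O, B (o : G) q := by
    intro q hq
    let φ : N →* ℤˣ :=
      { toFun := fun n => B n q
        map_one' := h.one_l F hq
        map_mul' := fun m n => h.mul_left F m.2 n.2 hq }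
    exact map_prod φ _ _
  have hsa : B s a = 1 := by
    rw [hprod a haN]
    exact Finset.prod_eq_one fun o ho => (hO o ((hOmem o).1 ho)).2.2.2.1
  have hxa : B x₀ a ≠ 1 := by rw [hna]; exact neg_ne
  have hs1 : ∀ q ∈ N, B s q = 1 := by
    rcases hfix s s.2 hsT with h1 | h1 | h1 | h1
    · intro q hq
      rw [h1]; exact h.one_l F hq
    · exact absurd (h1 ▸ hsa) hxa
    · intro q hq
      have hvN : v ∈ N := h1 ▸ s.2
      rw [h1]; exact h.v_l F hvN hq
    · have h2 : x₀ * v ∈ N := h1 ▸ s.2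
      have hvN : v ∈ N := (N.mul_mem_cancel_left hxN).1 h2
      rw [h1, h.mul_left F hxN hvN haN, h.v_l F hvN haN, mul_one] at hsa
      exact absurd hsa hxa
  -- the element `q`
  obtain ⟨g, hg, hgp⟩ := hp
  have hDC : ∀ d ∈ D, d ∈ C := fun d hd => ((h.D_iff d).1 hd).1
  have hDx : ∀ d ∈ D, d * x₀ * d⁻¹ = x₀ := fun d hd => by rw [((h.D_iff d).1 hd).2]; group
  have hTo : ¬ 2 ∣ T.relIndex D := fun h3 =>
    h.T_odd (h3.trans (Dvd.intro _ (relIndex_mul_relIndex T D C h.TD fun d hd => hDC d hd)))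
  let A : Subgroup G :=
    { carrier := {x | x ∈ D ∧ g * x * g⁻¹ ∈ T}
      one_mem' := ⟨one_mem _, by simp⟩
      mul_mem' := by
        rintro x y ⟨hx, hx'⟩ ⟨hy, hy'⟩
        refine ⟨mul_mem hx hy, ?_⟩
        have e1 : g * (x * y) * g⁻¹ = g * x * g⁻¹ * (g * y * g⁻¹) := by group
        rw [e1]; exact mul_mem hx' hy'
      inv_mem' := by
        rintro x ⟨hx, hx'⟩
        refine ⟨inv_mem hx, ?_⟩
        have e1 : g * x⁻¹ * g⁻¹ = (g * x * g⁻¹)⁻¹ := by group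
        rw [e1]; exact inv_mem hx' }
  have hA2 : IsPGroup 2 A := by
    intro x
    obtain ⟨k, hk⟩ := hT2 ⟨g * (x : G) * g⁻¹, x.2.2⟩
    have hk' : (g * (x : G) * g⁻¹) ^ 2 ^ k = 1 := by simpa only [_root_.conj_pow, _root_.conj_eq_one_iff, _root_.SubmonoidClass.mk_pow, _root_.OneMemClass.coe_one] using congrArg Subtype.val hk
    rw [conj_pow] at hk'
    refine ⟨k, Subtype.ext ?_⟩
    have h1 : (x : G) ^ 2 ^ k = g⁻¹ * (g * (x : G) ^ 2 ^ k * g⁻¹) * g := by group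
    push_cast
    rw [h1, hk']; group
  obtain ⟨d, hd, hdA⟩ := exists_conj_mem hT2 h.TD hTo (fun x (hx : x ∈ A) => hx.1) hA2
  -- `g' = g d⁻¹`
  set g' := g * d⁻¹ with hg'
  have hg'C : g' ∈ C := mul_mem hg (inv_mem (hDC d hd))
  have hg'x : g' * x₀ * g'⁻¹ = p := by
    have h1 := hDx d⁻¹ (inv_mem hd)
    calc g' * x₀ * g'⁻¹ = g * (d⁻¹ * x₀ * d⁻¹⁻¹) * g⁻¹ := by rw [hg']; group
      _ = p := by rw [h1, hgp]
  set q := g' * a * g'⁻¹ with hq
  have hqN : q ∈ N := h.conj_N hg'C haN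
  have hpN : p ∈ N := by rw [← hg'x]; exact h.conj_N hg'C hxN
  have hpq : B p q = -1 := by
    rw [← hg'x, hq, F.inv g' hg'C x₀ hxN a haN, hna]
  have hoq : ∀ o : N, o ∈ OO → (o : G) ≠ p → B (o : G) q = 1 := by
    intro o ho hne
    obtain ⟨ho1, ho2, ⟨so, hsoT, hso⟩, -, -⟩ := hO o ho
    have hppt : p ∈ Pts C x₀ := ⟨g, hg, hgp⟩
    have hperp : B (o : G) p = 1 := h.perp_of_T F he1 hTn hT2 ho1 hppt hso ht hsoT htT
    have h1 : so * p * so⁻¹ = p := (F.tv _ ho1 _ hso p hpN).1 hperp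
    -- `g⁻¹ so g ∈ A`
    have h2 : g⁻¹ * so * g ∈ A := by
      refine ⟨(h.D_iff _).2 ⟨mul_mem (mul_mem (inv_mem hg) (hTC hsoT)) hg, ?_⟩, ?_⟩
      · calc g⁻¹ * so * g * x₀ = g⁻¹ * (so * (g * x₀ * g⁻¹) * so⁻¹) * so * g := by group
          _ = g⁻¹ * (g * x₀ * g⁻¹) * so * g := by rw [← hgp, h1]
          _ = x₀ * (g⁻¹ * so * g) := by group
      · have e1 : g * (g⁻¹ * so * g) * g⁻¹ = so := by group
        rw [e1]; exact hsoT
    have h3 := hdA _ h2
    have e2 : d * (g⁻¹ * so * g) * d⁻¹ = g'⁻¹ * so * g' := by rw [hg']; group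
    rw [e2] at h3
    have h4 := h.conj_tr hso (inv_mem hg'C)
    rw [inv_inv] at h4
    have h5 : g'⁻¹ * (o : G) * g' ≠ x₀ := fun h5 => hne (by
      rw [← hg'x, ← h5]; group)
    have h6 := h.claimA F he1 hTn (h.conj_pt' ho1 hg'C) h5 h4 h3
    have h7 := F.inv g' hg'C _ (h.conj_N' hg'C o.2) a haN
    have e3 : g' * (g'⁻¹ * (o : G) * g') * g'⁻¹ = o := by group
    rw [e3, h6] at h7
    exact h7
  have h1 := hs1 q hqN
  rw [hprod q hqN] at h1
  have hpO : (⟨p, hpN⟩ : N) ∈ O := by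
    rw [hOmem]
    exact ⟨1, one_mem _, by simp⟩
  rw [← Finset.mul_prod_erase O _ hpO, Finset.prod_eq_one fun o ho => ?_, mul_one] at h1
  · change B p q = 1 at h1
    rw [hpq] at h1
    exact absurd h1 neg_ne
  · rw [Finset.mem_erase, hOmem] at ho
    exact hoq o ho.2 fun h2 => ho.1 (Subtype.ext h2)

end frm

end TUn

end Cfsg.Agent.Omega.OM.KTwo.StrSp

end

section


/-!
# CARD #18791: section 0 of helper918 #19487 over `Fr` ((gl) and (sp))

`Fr.sec0` : if some element of `C_i` acts on `N_i` as a transvection with centre `r ∈ {v (i+1), v (i+1) v i}`, then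
`N_i = HU i` and `v i ∉ N_i` (the general linear case), or `SpF T V v i r` (the symplectic case).
-/

set_option autoImplicit false
set_option linter.unusedSectionVars false

namespace Cfsg.Agent.Omega.TC

open Subgroup Cfsg Cfsg.Agent.ZN Cfsg.Agent.Omega.MinPar
open Cfsg.Agent.Omega.OM.KTwo (CC QQ WU NU EU FF ne_add_one eq_add_one add_one_add_one le_normalizer_V le_V
  le_o2_of_commutator)
open Cfsg.Agent.Omega.OM.KTwo.StrSp (Pts Tr TBase TUn TDat Frm exists_conj_mem)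
open Cfsg.Agent.Omega.NoFF.Basic (conj_conj mem_conj conj_le_iff conj_le_centralizer comm_symm comm_mono
  Z_le_V V_le conj_V_mul)
open Cfsg.Agent.MinSimple.VModule (mem_zc zc_le le_normalizer_o2 le_o2 o2_le o2_isPGroup
  normalizer_le_normalizer_zc)
open scoped Pointwise

universe u

variable {G : Type u} [Group G]

namespace Fr

variable [Finite G] {T : Subgroup G} {V P : Fin 2 → Subgroup G} {v : Fin 2 → G} (D : Fr T V P v)

include D

theorem s0_cent_v (i : Fin 2) {c : G} (hc : c ∈ CC v i) : c * v i = v i * c := mem_centralizer_singleton_iff.1 hc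

theorem s0_N_mul_self (i : Fin 2) {n : G} (hn : n ∈ NU V v i) : n * n = 1 := by rw [← pow_two]; exact D.N_sq i n hn

theorem s0_N_inv (i : Fin 2) {n : G} (hn : n ∈ NU V v i) : n⁻¹ = n := inv_eq_of_mul_eq_one_left (D.s0_N_mul_self i hn)

theorem s0_N_mul_comm (i : Fin 2) {n m : G} (hn : n ∈ NU V v i) (hm : m ∈ NU V v i) : n * m = m * n :=
  (mem_centralizer_iff.1 (D.N_comm i hn) m hm).symm

/-- an element of `C_i` whose commutators with `N_i` lie in `⟨v (i+1) e⟩` is trivial or a transvection -/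
theorem s0_tr_or (i : Fin 2) {r e x : G} (hr : r = v (i + 1) * e) (he : e * e = 1) (hre : v (i + 1) * e = e * v (i + 1))
    (hx : x ∈ CC v i)
    (hxr : ∀ n ∈ NU V v i, n * x * n⁻¹ * x⁻¹ ∈ zpowers r) :
    (∀ n ∈ NU V v i, x * n * x⁻¹ = n) ∨ Tr (CC v i) (NU V v i) e (v (i + 1)) x := by
  have hrr : r * r = 1 := by
    rw [hr]
    calc v (i + 1) * e * (v (i + 1) * e) = v (i + 1) * e * (e * v (i + 1)) := by rw [← hre]
      _ = v (i + 1) * (e * e) * v (i + 1) := by group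
      _ = 1 := by rw [he, mul_one, D.v_sq]
  by_cases h1 : ∀ n ∈ NU V v i, x * n * x⁻¹ = n
  · exact Or.inl h1
  right
  push Not at h1
  refine ⟨hx, fun n hn => ?_, h1⟩
  have h2 := hxr n hn
  have h3 : n * x * n⁻¹ * x⁻¹ = 1 ∨ n * x * n⁻¹ * x⁻¹ = r := by
    obtain ⟨k, hk⟩ := mem_zpowers_iff.1 h2
    rcases Int.even_or_odd' k with ⟨m, rfl | rfl⟩
    · left
      rw [← hk, zpow_mul, zpow_two, hrr, one_zpow]
    · right
      rw [← hk, zpow_add, zpow_mul, zpow_two, hrr, one_zpow, zpow_one, one_mul]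
  have h4 : x * n * x⁻¹ = (n * x * n⁻¹ * x⁻¹)⁻¹ * n := by group
  -- both `n`, `x n x⁻¹` in `N`
  have h5 : x * n * x⁻¹ = n⁻¹ * (n * x * n⁻¹ * x⁻¹) := by
    have h6 : x * n⁻¹ * x⁻¹ = n⁻¹ * (n * x * n⁻¹ * x⁻¹) := by group
    rw [D.s0_N_inv i hn] at h6 ⊢
    exact h6
  rcases h3 with h3 | h3
  · left
    rw [h5, h3, mul_one, D.s0_N_inv i hn]
  · right
    rw [h5, h3, D.s0_N_inv i hn, hr]

/-- `v (i+1)` is not conjugate to `v (i+1) v i` in `C_i` -/
theorem s0_zz (i : Fin 2) : ∀ p ∈ Pts (CC v i) (v (i + 1)), p * v i ∉ Pts (CC v i) (v (i + 1)) := by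
  have key : ∀ c ∈ CC v i, c * v (i + 1) * c⁻¹ ≠ v (i + 1) * v i := by
    intro c hc h1
    have hci := D.conj_v i hc
    -- `c` normalises `⟨v 0, v 1⟩`
    have hDC := D.cent_zc_le i
    have hTD := D.T_le_D
    have hDiff := fun {d : G} => D.mem_D_iff (ne_add_one i) (c := d)
    -- `D^c = D`
    have hcD : ∀ d ∈ centralizer (zc T : Set G), c * d * c⁻¹ ∈ centralizer (zc T : Set G) := by
      intro d hd
      obtain ⟨h2, h3⟩ := hDiff.1 hd
      have h2' := D.s0_cent_v i h2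
      have h3' := D.s0_cent_v (i + 1) h3
      have hcc := D.s0_cent_v i hc
      refine hDiff.2 ⟨mul_mem (mul_mem hc h2) (inv_mem hc), mem_centralizer_singleton_iff.2 ?_⟩
      -- `c d c⁻¹` centralises `c v (i+1) c⁻¹ = v (i+1) v i` and `v i`
      have h4 : c * d * c⁻¹ * (v (i + 1) * v i) = v (i + 1) * v i * (c * d * c⁻¹) := by
        rw [← h1]
        calc c * d * c⁻¹ * (c * v (i + 1) * c⁻¹) = c * (d * v (i + 1)) * c⁻¹ := by group
          _ = c * (v (i + 1) * d) * c⁻¹ := by rw [h3']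
          _ = c * v (i + 1) * c⁻¹ * (c * d * c⁻¹) := by group
      have h5 : c * d * c⁻¹ * v i = v i * (c * d * c⁻¹) :=
        D.s0_cent_v i (mul_mem (mul_mem hc h2) (inv_mem hc))
      have h6 : v (i + 1) = v (i + 1) * v i * v i := by rw [mul_assoc, D.v_sq, mul_one]
      calc c * d * c⁻¹ * v (i + 1) = c * d * c⁻¹ * (v (i + 1) * v i * v i) := by rw [← h6]
        _ = c * d * c⁻¹ * (v (i + 1) * v i) * v i := by group
        _ = v (i + 1) * v i * (c * d * c⁻¹) * v i := by rw [h4]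
        _ = v (i + 1) * v i * (c * d * c⁻¹ * v i) := by group
        _ = v (i + 1) * v i * v i * (c * d * c⁻¹) := by rw [h5]; group
        _ = v (i + 1) * (c * d * c⁻¹) := by rw [← h6]
    -- `T^c ≤ D`
    have hTcD : MulAut.conj c • T ≤ centralizer (zc T : Set G) := by
      intro x hx
      rw [mem_conj] at hx
      have h2 := hcD _ (hTD hx)
      have e : c * (c⁻¹ * x * c) * c⁻¹ = x := by group
      rwa [e] at h2
    have hTc2 : IsPGroup 2 (MulAut.conj c • T : Subgroup G) := by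
      rintro ⟨x, hx⟩
      rw [mem_conj] at hx
      obtain ⟨k, hk⟩ := D.T_isPGroup ⟨_, hx⟩
      refine ⟨k, Subtype.ext ?_⟩
      have h2 : (c⁻¹ * x * c) ^ 2 ^ k = 1 := by simpa only [_root_.SubmonoidClass.mk_pow, _root_.OneMemClass.coe_one] using congrArg Subtype.val hk
      have h3 : c⁻¹ * x ^ 2 ^ k * c = 1 := by
        have e : c⁻¹ * x * c = c⁻¹ * x * c⁻¹⁻¹ := by group
        rw [e, conj_pow] at h2
        simpa only [_root_.inv_inv] using h2
      have h4 : x ^ 2 ^ k = 1 := by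
        calc x ^ 2 ^ k = c * (c⁻¹ * x ^ 2 ^ k * c) * c⁻¹ := by group
          _ = 1 := by rw [h3]; group
      simpa using h4
    have hodd : ¬ 2 ∣ T.relIndex (centralizer (zc T : Set G)) := by
      intro h2
      apply Cfsg.Agent.ZN.ChoiceSit.syl_not_dvd (D.syl i)
      rw [← relIndex_mul_relIndex T (centralizer (zc T : Set G)) _ hTD hDC]
      exact h2.mul_right _
    obtain ⟨d, hd, hdT⟩ := exists_conj_mem D.T_isPGroup hTD hodd hTcD hTc2
    -- `d c` normalises `T`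
    have hn : d * c ∈ normalizer (T : Set G) := by
      refine mem_normalizer_iff.2 fun x => ?_
      have h2 : ∀ x ∈ T, d * c * x * (d * c)⁻¹ ∈ T := by
        intro x hx
        have h3 : c * x * c⁻¹ ∈ MulAut.conj c • T := by
          rw [mem_conj]
          have e : c⁻¹ * (c * x * c⁻¹) * c = x := by group
          rwa [e]
        have h4 := hdT _ h3
        have e : d * (c * x * c⁻¹) * d⁻¹ = d * c * x * (d * c)⁻¹ := by group
        rwa [e] at h4
      have h3 : MulAut.conj (d * c) • T = T := by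
        refine Subgroup.eq_of_le_of_card_ge ?_ ?_
        · intro y hy
          rw [mem_conj] at hy
          have h4 := h2 _ hy
          have e : d * c * ((d * c)⁻¹ * y * (d * c)) * (d * c)⁻¹ = y := by group
          rwa [e] at h4
        · exact (Nat.card_congr (Subgroup.equivSMul (MulAut.conj (d * c)) T).toEquiv).le
      refine ⟨h2 x, fun hx => ?_⟩
      rw [← h3, mem_conj] at hx
      have e : (d * c)⁻¹ * (d * c * x * (d * c)⁻¹) * (d * c) = x := by group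
      rwa [e] at hx
    have h2 : d * c ∈ centralizer (zc T : Set G) := D.norm_T_le i ⟨mul_mem (hDC hd) hc, hn⟩
    have h3 : c ∈ centralizer (zc T : Set G) := by
      have := mul_mem (inv_mem hd) h2
      rwa [inv_mul_cancel_left] at this
    have h4 := D.conj_v (i + 1) (D.cent_zc_le (i + 1) h3)
    rw [h4] at h1
    exact D.ne i (mul_eq_left.1 h1.symm)
  rintro _ ⟨g, hg, rfl⟩ ⟨g', hg', h1⟩
  refine key (g⁻¹ * g') (mul_mem (inv_mem hg) hg') ?_
  calc g⁻¹ * g' * v (i + 1) * (g⁻¹ * g')⁻¹ = g⁻¹ * (g' * v (i + 1) * g'⁻¹) * g := by group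
    _ = v (i + 1) * (g⁻¹ * v i * g) := by rw [← h1]; group
    _ = v (i + 1) * v i := by
      have := D.conj_v i (inv_mem hg)
      rw [inv_inv] at this
      rw [this]

theorem s0_base (i : Fin 2) {e a x : G} (he : e = 1 ∨ e = v i) (ha : a ∈ V (i + 1)) (ha1 : a ≠ 1) (hav : a ≠ v (i + 1))
    (hx : Tr (CC v i) (NU V v i) e (v (i + 1)) x) :
    TBase (CC v i) (centralizer (zc T : Set G)) (P (i + 1)) T (NU V v i) (v i) e (v (i + 1)) a := by
  have hij : i + 1 ≠ i := (ne_add_one i).symm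
  have hPC : P (i + 1) ≤ CC v i := D.PC (i + 1) i hij
  have hmv := D.mem (i + 1)
  have hne := D.ne (i + 1)
  have hva : v (i + 1) * a ∈ V (i + 1) := mul_mem hmv ha
  have hva1 : v (i + 1) * a ≠ 1 := by
    intro h1
    apply hav
    have h2 : a = (v (i + 1))⁻¹ := (inv_eq_of_mul_eq_one_right h1).symm
    rw [h2]
    exact inv_eq_of_mul_eq_one_left (D.v_sq _)
  have hpt : ∀ y ∈ V (i + 1), y ≠ 1 → y ∈ Pts (CC v i) (v (i + 1)) := by
    intro y hy hy1
    obtain ⟨l, hl, -, h1⟩ := D.tr hij hy hy1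
    exact ⟨l, hPC hl, h1.symm⟩
  refine
    { sq := fun n hn => D.s0_N_mul_self i hn
      comm := fun n hn m hm => D.s0_N_mul_comm i hn hm
      norm := D.C_le_N_N i
      gen := ?_
      x_mem := D.mem_N i
      vC := fun c hc => D.s0_cent_v i hc
      he := he
      D_iff := fun d => ?_
      MC := hPC
      CDM := by rw [sup_comm]; exact D.gen hij
      ML := fun m hm => ?_
      a_pt := hpt a ha ha1
      xa_pt := hpt _ hva hva1
      a_ne := hav
      tau := ?_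
      TD := D.T_le_D
      T_odd := Cfsg.Agent.ZN.ChoiceSit.syl_not_dvd (D.syl i)
      tr := ⟨x, hx⟩ }
  · refine V_le fun c hc y hy => ?_
    rw [mem_conj] at hy
    by_cases hy1 : c⁻¹ * y * c = 1
    · have : y = 1 := by
        calc y = c * (c⁻¹ * y * c) * c⁻¹ := by group
          _ = 1 := by rw [hy1]; group
      rw [this]; exact one_mem _
    · obtain ⟨g, hg, h1⟩ := hpt _ hy hy1
      refine subset_closure ⟨c * g, mul_mem hc hg, ?_⟩
      calc y = c * (c⁻¹ * y * c) * c⁻¹ := by group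
        _ = c * g * v (i + 1) * (c * g)⁻¹ := by rw [h1]; group
  · rw [D.mem_D_iff (ne_add_one i)]
    exact and_congr_right fun _ => mem_centralizer_singleton_iff
  · have h1 : m * v (i + 1) * m⁻¹ ∈ V (i + 1) := (mem_normalizer_iff.1 (D.PN (i + 1) (i + 1) hm) _).1 hmv
    exact D.eq_of_V hmv hne ha ha1 (Ne.symm hav) h1 fun h => hne (conj_eq_one_iff.1 h)
  · obtain ⟨t, ht, h1⟩ := D.exists_swap ha ha1 hav
    exact ⟨t, D.T_le_D ht, by rw [h1, D.V_comm ha hmv]⟩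

/-- the generated subgroup `HU i` is `x₀^⊥` -/
theorem s0_mem_HU (i : Fin 2) {e a : G} {B : G → G → ℤˣ} (ha : a ∈ V (i + 1)) (ha1 : a ≠ 1) (hav : a ≠ v (i + 1))
    (h : TDat (CC v i) (centralizer (zc T : Set G)) (P (i + 1)) T (NU V v i) (v i) e (v (i + 1)) a)
    (F : Frm (CC v i) (NU V v i) e (v (i + 1)) B) {n : G} :
    n ∈ HU V T i ↔ n ∈ NU V v i ∧ B (v (i + 1)) n = 1 := by
  have hmv := D.mem (i + 1)
  have hne := D.ne (i + 1)
  have hx := h.x_mem
  have haN := h.pt_mem h.a_pt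
  let K : Subgroup G :=
    { carrier := {n | n ∈ NU V v i ∧ B (v (i + 1)) n = 1}
      one_mem' := ⟨one_mem _, h.one_r F hx⟩
      mul_mem' := by
        rintro a b ⟨h1, h2⟩ ⟨h3, h4⟩
        exact ⟨mul_mem h1 h3, by rw [F.mul _ hx _ h1 _ h3, h2, h4, mul_one]⟩
      inv_mem' := by
        rintro a ⟨h1, h2⟩
        rw [h.inv_eq h1]
        exact ⟨h1, h2⟩ }
  have hVK : V (i + 1) ≤ K := by
    intro y hy
    by_cases hy1 : y = 1
    · rw [hy1]; exact one_mem _
    rcases D.eq_of_V hmv hne ha ha1 (Ne.symm hav) hy hy1 with h1 | h1 | h1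
    · rw [h1]; exact ⟨hx, F.self _ hx⟩
    · rw [h1]; exact ⟨haN, h.B_xa F⟩
    · rw [h1]
      exact ⟨mul_mem hx haN, by rw [F.mul _ hx _ hx _ haN, F.self _ hx, h.B_xa F, mul_one]⟩
  have hHK : HU V T i ≤ K := by
    refine V_le fun c hc y hy => ?_
    rw [mem_conj] at hy
    have hcC := D.cent_zc_le i hc
    obtain ⟨h1, h2⟩ := hVK hy
    have h3 := h.conj_N hcC h1
    have h4 := h.D_B F hc h1
    have e1 : c * (c⁻¹ * y * c) * c⁻¹ = y := by group
    rw [e1] at h3 h4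
    exact ⟨h3, by rw [h4, h2]⟩
  refine ⟨fun hn => hHK hn, fun ⟨h1, h2⟩ => ?_⟩
  refine h.perp_le_E F (E := HU V T i) (D.V_le_H i hmv) (D.V_le_H i ha) (fun b hb => hHK hb) (fun t ht b hb => ?_) h1 h2
  exact (mem_normalizer_iff.1 (le_normalizer_V _ _ ht) b).1 hb

theorem s0_spf (i : Fin 2) {r e a : G} {B : G → G → ℤˣ} (he : e = 1 ∨ e = v i) (hr : r = v (i + 1) * e)
    (ha : a ∈ V (i + 1)) (ha1 : a ≠ 1) (hav : a ≠ v (i + 1))
    (h : TDat (CC v i) (centralizer (zc T : Set G)) (P (i + 1)) T (NU V v i) (v i) e (v (i + 1)) a)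
    (F : Frm (CC v i) (NU V v i) e (v (i + 1)) B) :
    SpF T V v i r ∧ (e = 1 → v i ∉ NU V v i) := by
  have hmv := D.mem (i + 1)
  have hne := D.ne (i + 1)
  have hx := h.x_mem
  have hee := h.ee
  have hcomm : v (i + 1) * e = e * v (i + 1) := h.comm _ hx _ h.e_mem
  have hH := fun {n : G} => D.s0_mem_HU i ha ha1 hav h F (n := n)
  have hez : e ∈ zpowers (v i) := by
    rcases he with he | he
    · rw [he]; exact one_mem _
    · rw [he]; exact mem_zpowers _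
  have hrr : r ∈ zpowers r := mem_zpowers r
  have hvN : e = 1 → v i ∉ NU V v i := by
    intro he1 hv
    rcases h.rad F hv fun w hw => h.v_l F hv hw with h1 | h1
    · exact D.ne i h1
    · exact D.ne i (h1.trans he1)
  refine ⟨{ idx := ?_, pts := ?_, cenH := ?_, Hcen := ?_, rad := ?_, inj := ?_, fixT := ?_ }, hvN⟩
  · -- idx
    obtain ⟨y, hy, h1⟩ := h.exists_nonperp F h.x_pt
    have hyN := h.pt_mem hy
    rw [relIndex_eq_two_iff]
    refine ⟨y, hyN, fun b hb => ?_⟩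
    rcases Int.units_eq_one_or (B (v (i + 1)) b) with h2 | h2
    · right
      refine ⟨hH.2 ⟨hb, h2⟩, fun h3 => ?_⟩
      have h4 := (hH.1 h3).2
      rw [F.mul _ hx _ hb _ hyN, h2, h1, one_mul] at h4
      exact absurd h4 (by decide)
    · left
      refine ⟨hH.2 ⟨mul_mem hb hyN, by rw [F.mul _ hx _ hb _ hyN, h2, h1]; decide⟩, fun h3 => ?_⟩
      rw [(hH.1 h3).2] at h2
      exact absurd h2 (by decide)
  · -- pts
    intro n hn hnv
    rcases h.points F hn with h1 | h1 | ⟨g, hg, h1⟩ | ⟨g, hg, h1⟩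
    · exact absurd (by rw [h1]; exact one_mem _) hnv
    · exact absurd (by rw [h1]; exact hez) hnv
    · exact ⟨g, hg, Or.inl h1⟩
    · refine ⟨g, hg, ?_⟩
      have h2 : n = g * v (i + 1) * g⁻¹ * e := by rw [← h1, mul_assoc, hee, mul_one]
      rcases he with he | he
      · left; rw [h2, he, mul_one]
      · right; rw [h2, he]
  · -- cenH
    intro x hxC hxH n hn
    have hfix : ∀ n ∈ NU V v i, B (v (i + 1)) n = 1 → x * n * x⁻¹ = n := by
      intro n hn h1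
      have h2 := mem_centralizer_iff.1 hxH n (hH.2 ⟨hn, h1⟩)
      rw [← h2]; group
    have key : x * n * x⁻¹ = n ∨ x * n * x⁻¹ = n * r := by
      rcases h.hyper F hxC hfix with h1 | h1
      · exact Or.inl (h1 n hn)
      · rcases Int.units_eq_one_or (B (v (i + 1)) n) with h2 | h2
        · exact Or.inl (hfix n hn h2)
        · right; rw [h1 n hn h2, hr]
    have e1 : n * x * n⁻¹ * x⁻¹ = n * (x * n * x⁻¹)⁻¹ := by group
    rw [e1]
    rcases key with h1 | h1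
    · rw [h1, mul_inv_cancel]; exact one_mem _
    · have hrN : r ∈ NU V v i := by rw [hr]; exact mul_mem hx h.e_mem
      rw [h1, mul_inv_rev, h.inv_eq hrN, h.inv_eq hn, h.comm r hrN n hn, ← mul_assoc, h.sq n hn, one_mul]
      exact hrr
  · -- Hcen
    intro x hxC hxr
    rw [mem_centralizer_iff]
    intro n hn
    obtain ⟨hnN, h1⟩ := hH.1 hn
    have h2 : x * n * x⁻¹ = n := by
      rcases D.s0_tr_or i hr hee hcomm hxC hxr with h2 | h2
      · exact h2 n hnN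
      · exact (F.tv _ h.x_pt x h2 n hnN).1 h1
    calc n * x = x * n * x⁻¹ * x := by rw [h2]
      _ = x * n := by group
  · -- rad
    intro n hn hc
    have h1 : ∀ w ∈ NU V v i, B n w = 1 := by
      intro w hw
      refine h.ext (φ := fun w => B n w) (ψ := fun _ => 1) (fun _ h1 _ h2 => F.mul _ hn _ h1 _ h2)
        (fun _ _ _ _ => by simp) (fun p hp => ?_) w hw
      obtain ⟨g, hg, rfl⟩ := hp
      have h2 := hc g hg
      rw [mem_conj] at h2
      have h3 := (hH.1 h2).2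
      have h4 := F.inv g hg _ hx _ (hH.1 h2).1
      have e1 : g * (g⁻¹ * n * g) * g⁻¹ = n := by group
      rw [e1] at h4
      change B n (g * v (i + 1) * g⁻¹) = 1
      rw [F.symm n hn _ (h.conj_N hg hx), h4, h3]
    rcases h.rad F hn h1 with h2 | h2
    · rw [h2]; exact one_mem _
    · rw [h2]; exact hez
  · -- inj
    intro c hc hcH
    have huN := h.conj_N hc hx
    have h1 := h.perp_perp F h.x_pt huN (fun w hw h1 => by
      have h2 : w ∈ HU V T i := hH.2 ⟨hw, h1⟩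
      rw [← hcH, mem_conj] at h2
      obtain ⟨h3, h4⟩ := hH.1 h2
      have h5 := F.inv c hc _ hx _ h3
      have e1 : c * (c⁻¹ * w * c) * c⁻¹ = w := by group
      rw [e1] at h5
      rw [h5, h4])
    have hp : c * v (i + 1) * c⁻¹ ∈ Pts (CC v i) (v (i + 1)) := ⟨c, hc, rfl⟩
    have h2 := h.pt_ne F hp
    have h3 : c * v (i + 1) * c⁻¹ = v (i + 1) := by
      rcases h1 with h1 | h1 | h1 | h1
      · exact absurd h1 h2.1
      · exact absurd h1 h2.2
      · exact h1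
      · by_cases he1 : e = 1
        · rw [h1, he1, mul_one]
        · rw [h1] at hp
          exact absurd hp (h.not_both F he1 h.x_pt)
    refine (h.D_iff c).2 ⟨hc, ?_⟩
    calc c * v (i + 1) = c * v (i + 1) * c⁻¹ * c := by group
      _ = v (i + 1) * c := by rw [h3]
  · -- fixT
    intro n hn hT
    obtain ⟨m, hm, w, hw, rfl⟩ := D.mem_E hn
    have hwz : w ∈ zc T := (zpowers_le.2 (D.v_mem_zc i)) hw
    refine mul_mem ?_ hwz
    have h1 : ∀ t ∈ T, t * m * t⁻¹ = m ∨ t * m * t⁻¹ = m * e := by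
      intro t ht
      have hwt : w * t = t * w := ((mem_zc.1 hwz).2.1 t ht).symm
      have h2 := hT t ht
      have e1 : (m * w)⁻¹ * t * (m * w) * t⁻¹ = m⁻¹ * (t * m * t⁻¹) := by
        have hmw : m * w = w * m := by
          have := mem_centralizer_iff.1 (CC_le_cent_zpowers i (D.N_le_C i i hm)) w hw
          exact this.symm
        calc (m * w)⁻¹ * t * (m * w) * t⁻¹ = (w * m)⁻¹ * t * (w * m) * t⁻¹ := by rw [hmw]
          _ = m⁻¹ * w⁻¹ * (t * w) * m * t⁻¹ := by group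
          _ = m⁻¹ * w⁻¹ * (w * t) * m * t⁻¹ := by rw [hwt]
          _ = m⁻¹ * (t * m * t⁻¹) := by group
      rw [e1] at h2
      rcases D.mem_zpv h2 with h3 | h3
      · left
        calc t * m * t⁻¹ = m * (m⁻¹ * (t * m * t⁻¹)) := by group
          _ = m := by rw [h3, mul_one]
      · have h4 : t * m * t⁻¹ = m * v i := by
          calc t * m * t⁻¹ = m * (m⁻¹ * (t * m * t⁻¹)) := by group
            _ = m * v i := by rw [h3]
        rcases he with he1 | he1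
        · exfalso
          apply hvN he1
          have h5 := mul_mem (inv_mem hm) (h.conj_N (D.T_le_C i ht) hm)
          rwa [h3] at h5
        · right; rw [h4, he1]
    have hxz := D.v_mem_zc (i + 1)
    have hez' : e ∈ zc T := (zpowers_le.2 (D.v_mem_zc i)) hez
    rcases h.mem_XX.1 (h.fix_T F hm h1) with h2 | h2 | h2 | h2
    · rw [h2]; exact one_mem _
    · rw [h2]; exact hez'
    · rw [h2]; exact hxz
    · rw [h2]; exact mul_mem hxz hez'

/-- **section 0 of #19487** -/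
theorem sec0 (i : Fin 2) {r : G} (hr : r = v (i + 1) ∨ r = v (i + 1) * v i) {x : G} (hx : x ∈ CC v i)
    (hxN : ¬ x ∈ centralizer (NU V v i : Set G)) (hxr : ∀ n ∈ NU V v i, n * x * n⁻¹ * x⁻¹ ∈ zpowers r) :
    (NU V v i = HU V T i ∧ v i ∉ NU V v i) ∨ (SpF T V v i r ∧ (r = v (i + 1) → v i ∉ NU V v i)) := by
  obtain ⟨a, ha, ha1, hav⟩ := D.exists_ne_v (i + 1)
  obtain ⟨e, he, hr'⟩ : ∃ e, (e = 1 ∨ e = v i) ∧ r = v (i + 1) * e := by
    rcases hr with hr | hr
    · exact ⟨1, Or.inl rfl, by rw [hr, mul_one]⟩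
    · exact ⟨v i, Or.inr rfl, hr⟩
  have hee : e * e = 1 := by
    rcases he with he | he
    · rw [he, mul_one]
    · rw [he]; exact D.v_sq i
  have hcomm : v (i + 1) * e = e * v (i + 1) := by
    rcases he with he | he
    · rw [he]; group
    · rw [he]
      exact D.comm_v i (D.v_mem_T (i + 1))
  have htr : Tr (CC v i) (NU V v i) e (v (i + 1)) x := by
    refine (D.s0_tr_or i hr' hee hcomm hx hxr).resolve_left fun h1 => hxN ?_
    rw [mem_centralizer_iff]
    intro n hn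
    calc n * x = x * n * x⁻¹ * x := by rw [h1 n hn]
      _ = x * n := by group
  have h := D.s0_base i he ha ha1 hav htr
  have hmv := D.mem (i + 1)
  by_cases huniq : ∀ t t', Tr (CC v i) (NU V v i) e (v (i + 1)) t → Tr (CC v i) (NU V v i) e (v (i + 1)) t' →
      ∀ n ∈ NU V v i, t * n * t⁻¹ = t' * n * t'⁻¹
  · right
    have hU : TUn (CC v i) (centralizer (zc T : Set G)) (P (i + 1)) T (NU V v i) (v i) e (v (i + 1)) a :=
      { h with uniq := huniq }
    obtain ⟨B, F⟩ := hU.exists_frm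
    have hti : ∀ t, Tr (CC v i) (NU V v i) e (v (i + 1)) t → t * a * t⁻¹ = a := by
      rcases he with he1 | he1
      · -- `e = 1`
        intro t ht
        have haN := h.pt_mem h.a_pt
        by_contra h1
        have hna : B (v (i + 1)) a = -1 := by
          rcases Int.units_eq_one_or (B (v (i + 1)) a) with h2 | h2
          · exact absurd ((F.tv _ h.x_pt t ht a haN).1 h2) h1
          · exact h2
        have h2 := hU.hyp F he1 (fun t ht => ?_) D.T_isPGroup hna (fun n hn hT => ?_)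
        · -- `N = V (i+1)`
          have h3 : NU V v i ≤ V (i + 1) := by
            intro n hn
            rcases h2 n hn with h4 | h4 | h4 | h4
            · rw [h4]; exact one_mem _
            · rw [h4]; exact hmv
            · rw [h4]; exact ha
            · rw [h4]; exact mul_mem hmv ha
          have h4 : NU V v i = V (i + 1) := le_antisymm h3 (D.V_le_N i)
          have h5 : CC v i ≤ normalizer (V (i + 1) : Set G) := by
            have := D.C_le_N_N i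
            rwa [h4] at this
          refine D.comp (i + 1) fun c hc => ⟨1, one_mem _, c, ?_, by group⟩
          have h6 : CC v (i + 1) ≤ normalizer (V (i + 1) : Set G) :=
            (D.gen (ne_add_one i)).trans (sup_le (D.PN i (i + 1)) ((D.cent_zc_le i).trans h5))
          exact h6 hc
        · have h3 : t * a * t⁻¹ ∈ V (i + 1) := (mem_normalizer_iff.1 (D.T_le_N (i + 1) ht) _).1 ha
          have h4 : t * a * t⁻¹ ≠ 1 := fun h5 => ha1 (conj_eq_one_iff.1 h5)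
          rcases D.eq_of_V hmv (D.ne _) ha ha1 (Ne.symm hav) h3 h4 with h5 | h5 | h5
          · exfalso
            have h6 := D.cen (i + 1) ht
            apply hav
            have h7 : t * a * t⁻¹ = t * v (i + 1) * t⁻¹ := by rw [h5, h6]
            exact mul_left_cancel (mul_right_cancel h7)
          · exact Or.inl h5
          · exact Or.inr h5
        · have h3 : n ∈ zc T := by
            refine mem_zc.2 ⟨D.N_le_T i hn, fun t ht => ?_, D.N_sq i n hn⟩
            calc t * n = t * n * t⁻¹ * t := by group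
              _ = n * t := by rw [hT t ht]
          rcases (D.zT n).1 h3 with h4 | h4 | h4 | h4
          · exact Or.inl h4
          · rcases Fin.exists_fin_two.1 ⟨i, rfl⟩ with h5 | h5
            · right; right; left; rw [h4, h5]
            · right; left; rw [h4, h5]; rfl
          · rcases Fin.exists_fin_two.1 ⟨i, rfl⟩ with h5 | h5
            · right; left; rw [h4, h5]; rfl
            · right; right; left; rw [h4, h5]
          · right; right; right
            rcases Fin.exists_fin_two.1 ⟨i, rfl⟩ with h5 | h5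
            · rw [h4, h5]
              exact D.comm_v 1 (D.v_mem_T 0)
            · rw [h4, h5]; rfl
      · exact fun t ht => hU.ti_of_zz he1 (D.s0_zz i) ht
    have hD : TDat (CC v i) (centralizer (zc T : Set G)) (P (i + 1)) T (NU V v i) (v i) e (v (i + 1)) a :=
      { hU with ti := hti }
    obtain ⟨h1, h2⟩ := D.s0_spf i he hr' ha ha1 hav hD F
    refine ⟨h1, fun h3 => h2 ?_⟩
    rw [h3] at hr'
    exact mul_eq_left.1 hr'.symm
  · left
    have hno : ∃ t t', Tr (CC v i) (NU V v i) e (v (i + 1)) t ∧ Tr (CC v i) (NU V v i) e (v (i + 1)) t' ∧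
        ∃ n ∈ NU V v i, t * n * t⁻¹ ≠ t' * n * t'⁻¹ := by
      push Not at huniq
      obtain ⟨t, t', h1, h2, n, hn, h3⟩ := huniq
      exact ⟨t, t', h1, h2, n, hn, h3⟩
    have he1 := h.gl_e hno (D.s0_zz i)
    refine ⟨le_antisymm ?_ (D.H_le_N i), h.gl_v hno he1 (D.ne i)⟩
    refine h.gl_E hno he1 (E := HU V T i) (D.V_le_H i hmv) (D.V_le_H i ha) fun t ht b hb => ?_
    exact (mem_normalizer_iff.1 (le_normalizer_V _ _ ht) b).1 hb

end Fr

end Cfsg.Agent.Omega.TC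

end

end
end

-- part: Mrg/Omega/TC/ThmD
section
section


/-!
# CARD #18791, [D] (helper918 #19487, helper791 #20268): a critical pair at distance `≥ 3` with `|[N_a, N_b]| = 2`

Inputs as hypotheses: `TCp` (LEMMA TC over `Fr`), `Sec0` (section 0 over `Fr`), `hz` : `v 0 * v 1` is not conjugate
to a `v i`.

* `Fr.swap`, `Fr.N_congr` : `N` of a vertex depends only on its element;
* `Fr.pt` : vertices with a common neighbour (as elements) commute if the critical distance is `≥ 3`;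
* `Fr.crit2` : LEMMA P, critical pair with representatives;
* `Fr.W_le`, `Fr.W_le_last` : (3.4);
* `Fr.thmD` : **THEOREM D**.
-/

set_option autoImplicit false
set_option linter.unusedSectionVars false

namespace Cfsg.Agent.Omega.TC

open Subgroup Cfsg Cfsg.Agent.ZN Cfsg.Agent.Omega.MinPar
open Cfsg.Agent.Omega.OM.KTwo (CC QQ WU NU EU FF ne_add_one eq_add_one add_one_add_one le_normalizer_V le_V
  le_o2_of_commutator)
open Cfsg.Agent.Omega.NoFF.Basic (conj_conj mem_conj conj_le_iff conj_le_centralizer comm_symm comm_mono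
  Z_le_V V_le conj_V_mul)
open Cfsg.Agent.Omega.NOThreeL.Pair (conj_eq_of_mem)
open Cfsg.Agent.Omega.NO3L.LemP (Near Same Adj Comm vx vx_eq vx_same vx_mono vx_mk conj_comm_iff)
open Cfsg.Agent.ZN.ChoiceSit (Syl exists_syl syl_conj o2_le_syl)
open Cfsg.Agent.MinSimple.VModule (mem_zc zc_le normalizer_le_normalizer_zc le_normalizer_o2 le_o2 o2_le
  o2_isPGroup)
open scoped Pointwise

universe u

variable {G : Type u} [Group G]

/-- **section 0** over `Fr`, as a hypothesis -/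
def Sec0 (T : Subgroup G) (V : Fin 2 → Subgroup G) (v : Fin 2 → G) : Prop :=
  ∀ (i : Fin 2) (r : G), (r = v (i + 1) ∨ r = v (i + 1) * v i) → ∀ x ∈ CC v i, x ∉ centralizer (NU V v i : Set G) →
    (∀ n ∈ NU V v i, n * x * n⁻¹ * x⁻¹ ∈ zpowers r) →
    (NU V v i = HU V T i ∧ v i ∉ NU V v i) ∨ (SpF T V v i r ∧ (r = v (i + 1) → v i ∉ NU V v i))

/-- `F^x = F^y` -/
theorem conj_congr {C F : Subgroup G} (hCF : C ≤ normalizer (F : Set G)) {x y : G} (h : y⁻¹ * x ∈ C) :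
    MulAut.conj x • F = MulAut.conj y • F := by
  have h1 := congrArg (fun A => MulAut.conj y • A) (conj_eq_of_mem (hCF h))
  simp only [conj_conj, mul_inv_cancel_left] at h1
  exact h1

section graph

variable {H : Fin 2 → Subgroup G}

theorem near_same_right {n : ℕ} {a b c : Fin 2 × G} (h : Near H n a b) (h' : Same H b c) : Near H n a c := by
  cases n with
  | zero => exact NO3L.LemP.Same.trans h h'
  | succ n =>
    obtain ⟨e, h1, h2⟩ := h
    exact ⟨e, h1, h'.trans_adj h2⟩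

theorem near_same_left {n : ℕ} {a b c : Fin 2 × G} (h : Near H n a b) (h' : Same H a c) : Near H n c b :=
  (near_same_right h.symm h').symm

theorem near_adj (i j : Fin 2) (x : G) : Near H 1 (i, x) (j, x) :=
  ⟨(i, x), Same.refl _, x, by simp, by simp⟩

theorem near_two {k l : Fin 2} {x y : G} (h : x⁻¹ * y ∈ H l) : Near H 2 (k, x) (k, y) := by
  refine ⟨(l, x), near_adj k l x, ?_⟩
  exact ⟨y, h, by simp⟩

end graph

namespace Fr

variable [Finite G] {T : Subgroup G} {V P : Fin 2 → Subgroup G} {v : Fin 2 → G} (D : Fr T V P v)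

include D

theorem v_mul_v (i : Fin 2) : v 0 * v 1 = v (i + 1) * v i := by
  have hc : v 0 * v 1 = v 1 * v 0 := D.comm_v 1 (D.v_mem_T 0)
  rcases Fin.exists_fin_two.1 ⟨i, rfl⟩ with hi | hi
  · rw [hi]; exact hc
  · rw [hi]; rfl

omit [Finite G] D in
/-- `Q` depends only on the element -/
theorem conj_Q {i j : Fin 2} {x : G} (h : x * v i * x⁻¹ = v j) : MulAut.conj x • QQ v i = QQ v j := by
  change MulAut.conj x • o2 (centralizer ({v i} : Set G)) = o2 (centralizer ({v j} : Set G))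
  have h8 : ZN.ChoiceBase.cj x (o2 (centralizer ({v i} : Set G))) =
    o2 (ZN.ChoiceBase.cj x (centralizer ({v i} : Set G))) := (ChoiceSit.o2_cj _ _).symm
  have h9 : ZN.ChoiceBase.cj x (centralizer ({v i} : Set G)) = centralizer ({v j} : Set G) := by
    change MulAut.conj x • centralizer ({v i} : Set G) = _
    ext y
    rw [mem_conj, mem_centralizer_singleton_iff, mem_centralizer_singleton_iff, ← h]
    constructor
    · intro h1
      have h2 := congrArg (fun t => x * t * x⁻¹) h1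
      have e1 : x * (x⁻¹ * y * x * v i) * x⁻¹ = y * (x * v i * x⁻¹) := by group
      have e2 : x * (v i * (x⁻¹ * y * x)) * x⁻¹ = x * v i * x⁻¹ * y := by group
      simp only [e1, e2] at h2
      exact h2
    · intro h1
      have h2 := congrArg (fun t => x⁻¹ * t * x) h1
      have e1 : x⁻¹ * (y * (x * v i * x⁻¹)) * x = x⁻¹ * y * x * v i := by group
      have e2 : x⁻¹ * (x * v i * x⁻¹ * y) * x = v i * (x⁻¹ * y * x) := by group
      simp only [e1, e2] at h2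
      exact h2
  rw [h9] at h8
  exact h8

/-- `N_i` is generated by the conjugates of `v (i+1)` -/
theorem N_le_of_mem (i : Fin 2) {U : Subgroup G} (hv : v (i + 1) ∈ U) (hC : CC v i ≤ normalizer (U : Set G)) :
    NU V v i ≤ U := by
  refine V_le fun c hc w hw => ?_
  rw [mem_conj] at hw
  by_cases hw1 : w = 1
  · rw [hw1]; exact one_mem U
  have hw1' : c⁻¹ * w * c ≠ 1 := by
    intro h
    apply hw1
    have h3 := congrArg (fun t => c * t * c⁻¹) h
    simpa only [mul_assoc, _root_.mul_inv_cancel_left, _root_.mul_inv_cancel, _root_.mul_one] using h3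
  obtain ⟨l, hl, -, hlw⟩ := D.tr (ne_add_one i).symm hw hw1'
  have hlC : l ∈ CC v i := D.PC (i + 1) i (ne_add_one i).symm hl
  have h3 : w = (c * l) * v (i + 1) * (c * l)⁻¹ := by
    have e : (c * l) * v (i + 1) * (c * l)⁻¹ = c * (l * v (i + 1) * l⁻¹) * c⁻¹ := by group
    rw [e, hlw]; group
  rw [h3]
  exact (mem_normalizer_iff.1 (hC (mul_mem hc hlC)) _).1 hv

/-- elements `s` interchanging `v 0`, `v 1` interchange `N 0`, `N 1` -/
theorem conj_N_le {k : Fin 2} {s : G} (h1 : s * v k * s⁻¹ = v (k + 1)) (h2 : s * v (k + 1) * s⁻¹ = v k) :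
    MulAut.conj s • NU V v k ≤ NU V v (k + 1) := by
  have h3 : NU V v k ≤ MulAut.conj s⁻¹ • NU V v (k + 1) := by
    refine D.N_le_of_mem k ?_ fun c hc => ?_
    · rw [mem_conj, inv_inv, h2]
      have := D.mem_N (k + 1)
      rwa [add_one_add_one] at this
    · have h4 : s * c * s⁻¹ ∈ CC v (k + 1) := by
        rw [mem_centralizer_singleton_iff, ← h1]
        have h5 : c * v k = v k * c := mem_centralizer_singleton_iff.1 hc
        calc s * c * s⁻¹ * (s * v k * s⁻¹) = s * (c * v k) * s⁻¹ := by group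
          _ = s * v k * s⁻¹ * (s * c * s⁻¹) := by rw [h5]; group
      have h6 := D.C_le_N_N (k + 1) h4
      refine ChoiceBase.mem_normalizer_iff_cj.2 ?_
      change MulAut.conj c • (MulAut.conj s⁻¹ • NU V v (k + 1)) = _
      have h7 : MulAut.conj (s * c * s⁻¹) • NU V v (k + 1) = NU V v (k + 1) := conj_eq_of_mem h6
      rw [conj_conj]
      have e : c * s⁻¹ = s⁻¹ * (s * c * s⁻¹) := by group
      rw [e, ← conj_conj, h7]
  have h4 := conj_le_iff (g := s) |>.2 h3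
  rwa [conj_conj, mul_inv_cancel, map_one, one_smul] at h4

/-- **the swap** -/
theorem swap (hz : ∀ (j : Fin 2) (g : G), g * (v 0 * v 1) * g⁻¹ ≠ v j) {k : Fin 2} {h : G}
    (hh : h * v k * h⁻¹ = v (k + 1)) :
    ∃ q ∈ CC v (k + 1), MulAut.conj (q * h) • NU V v k = NU V v (k + 1) ∧
      MulAut.conj (q * h) • NU V v (k + 1) = NU V v k := by
  -- `T^h` is Sylow in `C_(k+1)`
  have hCh : MulAut.conj h • CC v k = CC v (k + 1) := by
    ext x
    rw [mem_conj, CC, CC, mem_centralizer_singleton_iff, mem_centralizer_singleton_iff, ← hh]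
    constructor
    · intro h1
      have h2 := congrArg (fun t => h * t * h⁻¹) h1
      have e1 : h * (h⁻¹ * x * h * v k) * h⁻¹ = x * (h * v k * h⁻¹) := by group
      have e2 : h * (v k * (h⁻¹ * x * h)) * h⁻¹ = h * v k * h⁻¹ * x := by group
      simp only [e1, e2] at h2
      exact h2
    · intro h1
      have h2 := congrArg (fun t => h⁻¹ * t * h) h1
      have e1 : h⁻¹ * (x * (h * v k * h⁻¹)) * h = h⁻¹ * x * h * v k := by group
      have e2 : h⁻¹ * (h * v k * h⁻¹ * x) * h = v k * (h⁻¹ * x * h) := by group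
      simp only [e1, e2] at h2
      exact h2
  have hS : Syl (MulAut.conj h • T) (CC v (k + 1)) := by
    rw [← hCh]
    refine ⟨conj_le_iff.2 (D.T_le_C k), D.T_isPGroup.map _, fun Q hQ hQ2 hTQ => ?_⟩
    have h1 : MulAut.conj h⁻¹ • Q ≤ CC v k := by
      have := conj_le_iff (g := h⁻¹) |>.2 hQ
      rwa [conj_conj, inv_mul_cancel, map_one, one_smul] at this
    have h2 : T ≤ MulAut.conj h⁻¹ • Q := by
      have := conj_le_iff (g := h⁻¹) |>.2 hTQ
      rwa [conj_conj, inv_mul_cancel, map_one, one_smul] at this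
    have h3 := (D.syl k).2.2 _ h1 (hQ2.map _) h2
    rw [← h3, conj_conj, mul_inv_cancel, map_one, one_smul]
  obtain ⟨q, hq, hqT⟩ := syl_conj hS (D.syl (k + 1))
  have hqT' : MulAut.conj (q * h) • T = T := by
    rw [← conj_conj]
    exact hqT
  have hN : q * h ∈ normalizer (T : Set G) := ChoiceBase.mem_normalizer_iff_cj.2 hqT'
  have hnz := normalizer_le_normalizer_zc _ hN
  have h1 : q * h * v k * (q * h)⁻¹ = v (k + 1) := by
    have e : q * h * v k * (q * h)⁻¹ = q * (h * v k * h⁻¹) * q⁻¹ := by group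
    rw [e, hh]
    exact D.conj_v _ hq
  have h2 : q * h * v (k + 1) * (q * h)⁻¹ = v k := by
    have h3 : q * h * v (k + 1) * (q * h)⁻¹ ∈ zc T := (mem_normalizer_iff.1 hnz _).1 (D.v_mem_zc _)
    have h4 : q * h * v (k + 1) * (q * h)⁻¹ ≠ 1 := fun h => D.ne _ (conj_eq_one_iff.1 h)
    have h5 : q * h * v (k + 1) * (q * h)⁻¹ ≠ v (k + 1) := by
      intro h6
      rw [← h1] at h6
      have h7 := congrArg (fun t => (q * h)⁻¹ * t * (q * h)) h6
      have e1 : (q * h)⁻¹ * (q * h * (q * h * v k * (q * h)⁻¹) * (q * h)⁻¹) * (q * h) = q * h * v k * (q * h)⁻¹ := by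
        group
      have e2 : (q * h)⁻¹ * (q * h * v k * (q * h)⁻¹) * (q * h) = v k := by group
      simp only [e1, e2] at h7
      rw [h1] at h7
      exact D.v_ne_v (ne_add_one k) h7.symm
    have h6 : q * h * v (k + 1) * (q * h)⁻¹ ≠ v 0 * v 1 := by
      intro h7
      apply hz (k + 1) (q * h)⁻¹
      rw [← h7]; group
    rcases (D.zT _).1 h3 with h | h | h | h
    · exact absurd h h4
    · rcases Fin.exists_fin_two.1 ⟨k, rfl⟩ with hk | hk
      · rw [h, hk]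
      · have e : v (k + 1) = v 0 := by rw [hk]; rfl
        exact absurd (h.trans e.symm) h5
    · rcases Fin.exists_fin_two.1 ⟨k, rfl⟩ with hk | hk
      · have e : v (k + 1) = v 1 := by rw [hk]; rfl
        exact absurd (h.trans e.symm) h5
      · rw [h, hk]
    · exact absurd h h6
  refine ⟨q, hq, le_antisymm (D.conj_N_le h1 h2) ?_, ?_⟩
  · -- `N_(k+1) ≤ N_k^s`
    have h3 : (q * h)⁻¹ * v (k + 1) * (q * h)⁻¹⁻¹ = v (k + 1 + 1) := by
      rw [add_one_add_one, ← h1]; group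
    have h4 : (q * h)⁻¹ * v (k + 1 + 1) * (q * h)⁻¹⁻¹ = v (k + 1) := by
      rw [add_one_add_one, ← h2]; group
    have h5 := D.conj_N_le h3 h4
    rw [add_one_add_one] at h5
    have h6 := conj_le_iff (g := q * h) |>.2 h5
    rwa [conj_conj, mul_inv_cancel, map_one, one_smul] at h6
  · apply le_antisymm
    · have h3 : q * h * v (k + 1) * (q * h)⁻¹ = v (k + 1 + 1) := by rw [add_one_add_one, h2]
      have h4 : q * h * v (k + 1 + 1) * (q * h)⁻¹ = v (k + 1) := by rw [add_one_add_one, h1]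
      have h5 := D.conj_N_le h3 h4
      rwa [add_one_add_one] at h5
    · have h3 : (q * h)⁻¹ * v k * (q * h)⁻¹⁻¹ = v (k + 1) := by rw [← h2]; group
      have h4 : (q * h)⁻¹ * v (k + 1) * (q * h)⁻¹⁻¹ = v k := by rw [← h1]; group
      have h5 := D.conj_N_le h3 h4
      have h6 := conj_le_iff (g := q * h) |>.2 h5
      rwa [conj_conj, mul_inv_cancel, map_one, one_smul] at h6

theorem comm_N {n : ℕ} (hC : Comm (CC v) (EU T v) (n + 1)) {m : ℕ} (hm : m ≤ n) {i j : Fin 2} {x y : G}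
    (h : Near (CC v) m (i, x) (j, y)) :
    MulAut.conj x • NU V v i ≤ centralizer ((MulAut.conj y • NU V v j : Subgroup G) : Set G) :=
  comm_mono (hC m (Nat.lt_succ_of_le hm) _ _ h) (conj_le_iff.2 (D.N_le_E i)) (conj_le_iff.2 (D.N_le_E j))

/-- vertices with a common neighbour -/
theorem pt (hz : ∀ (j : Fin 2) (g : G), g * (v 0 * v 1) * g⁻¹ ≠ v j) {n : ℕ} (hn : 2 ≤ n)
    (hC : Comm (CC v) (EU T v) (n + 1)) {k i : Fin 2} {x y : G}
    (h : x * v (k + 1) * x⁻¹ = y * v (i + 1) * y⁻¹) :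
    MulAut.conj x • NU V v k ≤ centralizer ((MulAut.conj y • NU V v i : Subgroup G) : Set G) := by
  rcases eq_or_ne k i with hki | hki
  · subst hki
    have h1 : x⁻¹ * y ∈ CC v (k + 1) := by
      rw [CC, mem_centralizer_singleton_iff]
      calc x⁻¹ * y * v (k + 1) = x⁻¹ * (y * v (k + 1) * y⁻¹) * y := by group
        _ = v (k + 1) * (x⁻¹ * y) := by rw [← h]; group
    exact D.comm_N hC hn (near_two h1)
  · have hi := eq_add_one hki
    subst hi
    rw [add_one_add_one] at h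
    have hh : x⁻¹ * y * v k * (x⁻¹ * y)⁻¹ = v (k + 1) := by
      have e : x⁻¹ * y * v k * (x⁻¹ * y)⁻¹ = x⁻¹ * (y * v k * y⁻¹) * x := by group
      rw [e, ← h]; group
    obtain ⟨q, hq, -, h1⟩ := D.swap hz hh
    have h2 : MulAut.conj y • NU V v (k + 1) = MulAut.conj (x * q⁻¹) • NU V v k := by
      rw [← h1, conj_conj]
      congr 2
      group
    rw [h2]
    refine D.comm_N hC hn (near_two (l := k + 1) ?_)
    rw [inv_mul_cancel_left]
    exact inv_mem hq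

/-- **LEMMA P**: a critical pair with representatives -/
theorem crit2 :
    ∃ n, Comm (CC v) (EU T v) (n + 1) ∧
      (∀ m ≤ n, ∀ a c : Fin 2 × G, Near (CC v) m a c → vx (EU T v) a ≤ vx (QQ v) c) ∧
      ∃ (i j : Fin 2) (g : G), Near (CC v) n (i, g) (j + 1, 1) ∧ Near (CC v) n (i + 1, g) (j, 1) ∧
        ¬ MulAut.conj g • NU V v i ≤ centralizer (NU V v j : Set G) := by
  obtain ⟨n, h1, h2, i, j, g, -, h4, -, -, h5⟩ := D.crit
  refine ⟨n, h1, h2, ?_⟩
  have hne : ¬ Near (CC v) n (i, g) (j, 1) := by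
    intro h
    have := D.comm_N h1 le_rfl h
    rw [map_one, one_smul] at this
    exact h5 this
  obtain ⟨e, he, x, hx, hx'⟩ := h4
  have h4' : Near (CC v) (n + 1) (j, 1) (i, g) := NO3L.LemP.Near.symm ⟨e, he, x, hx, hx'⟩
  have hej : e.1 = j + 1 := by
    refine eq_add_one fun h => hne (near_same_right he ?_)
    exact NO3L.LemP.Adj.same ⟨x, hx, hx'⟩ h.symm
  obtain ⟨f, hf, y, hy, hy'⟩ := h4'
  have hfi : f.1 = i + 1 := by
    refine eq_add_one fun h => hne (near_same_right hf ?_).symm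
    exact NO3L.LemP.Adj.same ⟨y, hy, hy'⟩ h.symm
  -- representatives
  have s1 : Same (CC v) e (j + 1, x) := ⟨hej, hx⟩
  have s2 : Same (CC v) (j, 1) (j, x) := ⟨rfl, hx'⟩
  have s3 : Same (CC v) f (i + 1, y) := ⟨hfi, hy⟩
  have s4 : Same (CC v) (i, g) (i, y) := ⟨rfl, hy'⟩
  have n1 : Near (CC v) n (i, y) (j + 1, x) := near_same_left (near_same_right he s1) s4
  have n2 : Near (CC v) n (i + 1, y) (j, x) := (near_same_left (near_same_right hf s3) s2).symm
  have n1' := n1.smul x⁻¹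
  have n2' := n2.smul x⁻¹
  simp only [inv_mul_cancel] at n1' n2'
  refine ⟨i, j, x⁻¹ * y, n1', n2', fun h => h5 ?_⟩
  have h6 := conj_le_centralizer (g := x) h
  rw [conj_conj, mul_inv_cancel_left] at h6
  have e1 : MulAut.conj y • NU V v i = MulAut.conj g • NU V v i := by
    have h7 : g⁻¹ * y ∈ CC v i := hy'
    exact conj_congr (D.C_le_N_N i) h7
  have e2 : MulAut.conj x • NU V v j = NU V v j := by
    have h7 : (1 : G)⁻¹ * x ∈ CC v j := hx'
    rw [inv_one, one_mul] at h7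
    exact conj_eq_of_mem (D.C_le_N_N j h7)
  rwa [e1, e2] at h6

/-- (3.4), distance `≤ n - 1` -/
theorem W_le {n : ℕ} (hC : Comm (CC v) (EU T v) (n + 1)) (j : Fin 2) :
    ∀ m, m + 1 ≤ n → ∀ c : Fin 2 × G, Near (CC v) m (j, 1) c → WU V v j ≤ vx (QQ v) c := by
  have hR : ∀ i, CC v i ≤ normalizer (QQ v i : Set G) := fun i => le_normalizer_o2 _
  intro m
  induction m with
  | zero =>
    intro _ c hc
    have h1 : vx (QQ v) (j, 1) = vx (QQ v) c := vx_same hR hc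
    rw [← h1, vx_mk, map_one, one_smul]
    exact D.W_le_Q j
  | succ m ih =>
    intro hm c hc
    have hc' := hc
    obtain ⟨e, he, x, hx, hx'⟩ := hc
    have h1 := ih (by omega) e he
    rw [vx_eq hR hx] at h1
    rw [vx_eq hR hx']
    -- `W_j` centralises `N_c`
    have h2 : WU V v j ≤ centralizer ((MulAut.conj x • NU V v c.1 : Subgroup G) : Set G) := by
      refine V_le fun c' hc'' => ?_
      have h3 : MulAut.conj c' • V j ≤ MulAut.conj c' • NU V v (j + 1) := by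
        have h4 := D.V_le_N (j + 1)
        rw [add_one_add_one] at h4
        exact conj_le_iff.2 h4
      refine h3.trans ?_
      refine D.comm_N hC (m := m + 2) (by omega) ?_
      have h5 : Near (CC v) 1 (j + 1, c') (j, 1) := by
        refine ⟨(j + 1, c'), Same.refl _, c', ?_, ?_⟩
        · simp
        · simpa using hc''
      have h6 : Near (CC v) (m + 1) (j, 1) (c.1, x) := near_same_right hc' ⟨rfl, hx'⟩
      -- concatenation
      exact NO3L.LemP.Near.cons (by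
        refine ⟨c', ?_, ?_⟩
        · simp
        · simpa using hc'') h6
    have h3 : WU V v j ≤ MulAut.conj x • (o2 (centralizer (zc T : Set G)) ⊓ centralizer (NU V v c.1 : Set G)) := by
      intro w hw
      rw [mem_conj]
      refine mem_inf.2 ⟨D.Q_le_o2D e.1 ?_, ?_⟩
      · have := h1 hw
        rwa [mem_conj] at this
      · have h4 := h2 hw
        rw [mem_centralizer_iff] at h4 ⊢
        intro y hy
        have h5 : x * y * x⁻¹ ∈ MulAut.conj x • NU V v c.1 := by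
          rw [mem_conj]
          have e : x⁻¹ * (x * y * x⁻¹) * x = y := by group
          rwa [e]
        have h6 := h4 _ h5
        have h7 := congrArg (fun t => x⁻¹ * t * x) h6
        have e1 : x⁻¹ * (x * y * x⁻¹ * w) * x = y * (x⁻¹ * w * x) := by group
        have e2 : x⁻¹ * (w * (x * y * x⁻¹)) * x = x⁻¹ * w * x * y := by group
        simp only [e1, e2] at h7
        exact h7
    exact h3.trans (conj_le_iff.2 (D.f3 c.1))

omit D in
theorem mem_zp_of_sq {r x : G} (hr : r * r = 1) (hx : x ∈ zpowers r) : x = 1 ∨ x = r := by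
  obtain ⟨k, hk⟩ := mem_zpowers_iff.1 hx
  have h3 : r ^ (2 : ℤ) = 1 := by rw [zpow_two]; exact hr
  rcases Int.even_or_odd k with he | ho
  · obtain ⟨l, hl⟩ := he
    left
    rw [← hk, hl, ← two_mul, zpow_mul, h3, one_zpow]
  · obtain ⟨l, hl⟩ := ho
    right
    rw [← hk, hl, zpow_add, zpow_mul, zpow_one, h3, one_zpow, one_mul]

end Fr

end Cfsg.Agent.Omega.TC

end

section


/-!
# CARD #18791, [C] (helper918 #19487, section 2): `d = 2`, `[N_a, N_b] = ⟨u⟩`

* `Fr.rep2` : a critical pair at distance 2 is `(N_j^g, N_j)` with `g ∈ C_(j+1)`;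
* `Fr.c22` : (2.2) `[W_(j+1), N_j] = 1`;
* `Fr.c23` : (2.3) `[W_j, N_(j+1)] = 1`;
* `Fr.thmC` : **THEOREM C**;
* `Fr.no_trans` : **COROLLARY 2 of #20268 for `d ≥ 2`**.
-/

set_option autoImplicit false
set_option linter.unusedSectionVars false

namespace Cfsg.Agent.Omega.TC

open Subgroup Cfsg Cfsg.Agent.ZN Cfsg.Agent.Omega.MinPar
open Cfsg.Agent.Omega.OM.KTwo (CC QQ WU NU EU FF ne_add_one eq_add_one add_one_add_one le_normalizer_V le_V
  le_o2_of_commutator)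
open Cfsg.Agent.Omega.NoFF.Basic (conj_conj mem_conj conj_le_iff conj_le_centralizer comm_symm comm_mono
  Z_le_V V_le conj_V_mul)
open Cfsg.Agent.Omega.NOThreeL.Pair (conj_eq_of_mem)
open Cfsg.Agent.Omega.NO3L.LemP (Near Same Adj Comm vx vx_eq vx_same vx_mono vx_mk conj_comm_iff)
open Cfsg.Agent.ZN.ChoiceSit (Syl exists_syl syl_conj o2_le_syl)
open Cfsg.Agent.MinSimple.VModule (mem_zc zc_le normalizer_le_normalizer_zc le_normalizer_o2 le_o2 o2_le
  o2_isPGroup)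
open scoped Pointwise

universe u

variable {G : Type u} [Group G]

theorem kp_inv {x y : G} {Z : Subgroup G} (h : x * y * x⁻¹ * y⁻¹ ∈ Z) : y * x * y⁻¹ * x⁻¹ ∈ Z := by
  have := inv_mem h
  have e : (x * y * x⁻¹ * y⁻¹)⁻¹ = y * x * y⁻¹ * x⁻¹ := by group
  rwa [e] at this

theorem kp_conj_mem {g x y : G} {Z : Subgroup G} (h : g⁻¹ * x * g * (g⁻¹ * y * g) * (g⁻¹ * x * g)⁻¹ *
    (g⁻¹ * y * g)⁻¹ ∈ Z) : x * y * x⁻¹ * y⁻¹ ∈ MulAut.conj g • Z := by
  rw [mem_conj]
  have e : g⁻¹ * (x * y * x⁻¹ * y⁻¹) * g =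
    g⁻¹ * x * g * (g⁻¹ * y * g) * (g⁻¹ * x * g)⁻¹ * (g⁻¹ * y * g)⁻¹ := by group
  rwa [e]

namespace Fr

variable [Finite G] {T : Subgroup G} {V P : Fin 2 → Subgroup G} {v : Fin 2 → G} (D : Fr T V P v)

include D

theorem conj_zpv {i : Fin 2} {c : G} (hc : c ∈ CC v i) : MulAut.conj c • zpowers (v i) = zpowers (v i) :=
  conj_eq_of_mem (D.C_le_N_Z i hc)

/-- `[N_j, X] ≤ ⟨v_(j+1)⟩`, `X ≤ N_j^c ≤ Q_(j+1)` : section 0 for a transvection with centre `v_(j+1)` -/
theorem sec_v (hsec : Sec0 T V v) {j : Fin 2} {x : G} (hx : x ∈ CC v j) (hxc : x ∉ centralizer (NU V v j : Set G))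
    (h : ∀ n ∈ NU V v j, n * x * n⁻¹ * x⁻¹ ∈ zpowers (v (j + 1))) :
    v j ∉ NU V v j ∧ (NU V v j = HU V T j ∨ SpF T V v j (v (j + 1))) := by
  rcases hsec j _ (Or.inl rfl) x hx hxc h with h1 | h1
  · exact ⟨h1.2, Or.inl h1.1⟩
  · exact ⟨h1.2 rfl, Or.inr h1.1⟩

theorem W_cent_H (j : Fin 2) : WU V v (j + 1) ≤ centralizer (HU V T j : Set G) :=
  (D.W_comm (j + 1)).trans (centralizer_le (D.H_le_W j))

/-- (2.2): `[W_(j+1), N_j] = 1` -/
theorem c22 {j : Fin 2} (hd : NU V v j ≤ QQ v (j + 1)) (S : SpF T V v j (v (j + 1))) (hvj : v j ∉ NU V v j) :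
    WU V v (j + 1) ≤ centralizer (NU V v j : Set G) := by
  have hQC : QQ v (j + 1) ≤ CC v j := (D.Q_le_T _).trans (D.T_le_C j)
  -- `[N_j, W_(j+1)] ≤ ⟨v_(j+1)⟩`
  have hNW : ∀ w ∈ WU V v (j + 1), ∀ n ∈ NU V v j, n * w * n⁻¹ * w⁻¹ ∈ zpowers (v (j + 1)) := fun w hw n hn =>
    S.cenH w (D.W_le_C (j + 1) j hw) (D.W_cent_H j hw) n hn
  -- the points of `N_j`
  have hpt : ∀ n ∈ NU V v j, n ≠ 1 → ∃ c ∈ CC v j, n = c * v (j + 1) * c⁻¹ := by
    intro n hn hn1
    have h1 : n ∉ zpowers (v j) := by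
      intro h
      rcases D.mem_zpv h with h | h
      · exact hn1 h
      · exact hvj (h ▸ hn)
    obtain ⟨c, hc, h2 | h2⟩ := S.pts n hn h1
    · exact ⟨c, hc, h2⟩
    · exfalso
      apply hvj
      have h3 : c * v (j + 1) * c⁻¹ ∈ NU V v j := (mem_normalizer_iff.1 (D.C_le_N_N j hc) _).1 (D.mem_N j)
      have h4 := mul_mem (inv_mem h3) hn
      rwa [h2, inv_mul_cancel_left] at h4
  refine V_le fun c hc => ?_
  suffices hsuff : MulAut.conj c • HU V T j ≤ centralizer (NU V v j : Set G) from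
    (conj_le_iff.2 (D.V_le_H j)).trans hsuff
  by_contra hcon
  obtain ⟨e, he, hec⟩ := SetLike.not_le_iff_exists.1 hcon
  -- `N' = N_j^c ≤ Q_(j+1)`
  have hN' : MulAut.conj c • NU V v j ≤ QQ v (j + 1) := by
    rw [← D.conj_QQ hc]
    exact conj_le_iff.2 hd
  have heW : e ∈ WU V v (j + 1) := by
    have h1 := conj_le_iff (g := c) |>.2 (D.H_le_W j)
    rw [conj_eq_of_mem (D.C_le_N_W (j + 1) hc)] at h1
    exact h1 he
  have heN : e ∈ MulAut.conj c • NU V v j := conj_le_iff.2 (D.H_le_N j) he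
  by_cases hA : ∀ x ∈ MulAut.conj c • NU V v j, ∀ n ∈ NU V v j, n * x * n⁻¹ * x⁻¹ ∈ zpowers (v (j + 1))
  · -- `N_j` centralises `HU^c`
    apply hec
    rw [mem_centralizer_iff]
    intro y hy
    have hy1 : c⁻¹ * y * c ∈ CC v j := by
      have h1 := hd hy
      rw [← D.conj_QQ hc, mem_conj] at h1
      exact hQC h1
    have hy2 := S.Hcen _ hy1 fun n hn => ?_
    · rw [mem_conj] at he
      have h1 := mem_centralizer_iff.1 hy2 _ he
      have h2 := congrArg (fun t => c * t * c⁻¹) h1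
      have e1 : c * (c⁻¹ * e * c * (c⁻¹ * y * c)) * c⁻¹ = e * y := by group
      have e2 : c * (c⁻¹ * y * c * (c⁻¹ * e * c)) * c⁻¹ = y * e := by group
      simp only [e1, e2] at h2
      exact h2.symm
    · have h1 : c * n * c⁻¹ ∈ MulAut.conj c • NU V v j := by
        rw [mem_conj]
        have e : c⁻¹ * (c * n * c⁻¹) * c = n := by group
        rwa [e]
      have h2 := kp_inv (hA _ h1 y hy)
      have h3 : MulAut.conj c • zpowers (v (j + 1)) = zpowers (v (j + 1)) := D.conj_zpv hc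
      rw [← h3, mem_conj] at h2
      have e : c⁻¹ * (c * n * c⁻¹ * y * (c * n * c⁻¹)⁻¹ * y⁻¹) * c = n * (c⁻¹ * y * c) * n⁻¹ * (c⁻¹ * y * c)⁻¹ := by
        group
      rwa [e] at h2
  · push Not at hA
    obtain ⟨x, hx, n, hn, hρ⟩ := hA
    -- `ρ = [n, x] ∈ N_j ∩ N'`
    set ρ := n * x * n⁻¹ * x⁻¹ with hρdef
    have hρN : ρ ∈ NU V v j := by
      have h1 : x * n⁻¹ * x⁻¹ ∈ NU V v j :=
        (mem_normalizer_iff.1 (D.C_le_N_N j (hQC (hN' hx))) _).1 (inv_mem hn)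
      have e : ρ = n * (x * n⁻¹ * x⁻¹) := by rw [hρdef]; group
      rw [e]
      exact mul_mem hn h1
    have hρN' : ρ ∈ MulAut.conj c • NU V v j := by
      have h1 : c⁻¹ * n * c ∈ CC v j := by
        have h1 := hd hn
        rw [← D.conj_QQ hc, mem_conj] at h1
        exact hQC h1
      have h2 := hx
      rw [mem_conj] at h2 ⊢
      have h3 := (mem_normalizer_iff.1 (D.C_le_N_N j h1) _).1 h2
      have e : c⁻¹ * ρ * c = c⁻¹ * n * c * (c⁻¹ * x * c) * (c⁻¹ * n * c)⁻¹ * (c⁻¹ * x * c)⁻¹ := by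
        rw [hρdef]; group
      rw [e]
      exact mul_mem h3 (inv_mem h2)
    have hρ1 : ρ ≠ 1 := fun h => hρ (by rw [h]; exact one_mem _)
    obtain ⟨c₁, hc₁, hρc⟩ := hpt ρ hρN hρ1
    obtain ⟨c₂, hc₂, hρc'⟩ := hpt (c⁻¹ * ρ * c) (by rwa [mem_conj] at hρN') (by
      intro h
      apply hρ1
      have : ρ = c * (c⁻¹ * ρ * c) * c⁻¹ := by group
      rw [this, h]; group)
    -- `N' ≤ Q_ρ = Q_(j+1)^c₁`
    have hQ1 : MulAut.conj c • NU V v j ≤ MulAut.conj c₁ • QQ v (j + 1) := by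
      have h1 : MulAut.conj (c * c₂) • NU V v j = MulAut.conj c • NU V v j := by
        rw [← conj_conj, conj_eq_of_mem (D.C_le_N_N j hc₂)]
      have h2 : MulAut.conj (c₁⁻¹ * (c * c₂)) • QQ v (j + 1) = QQ v (j + 1) := by
        apply conj_Q
        have e : c₁⁻¹ * (c * c₂) * v (j + 1) * (c₁⁻¹ * (c * c₂))⁻¹ =
          c₁⁻¹ * (c * (c₂ * v (j + 1) * c₂⁻¹) * c⁻¹) * c₁ := by group
        rw [e, ← hρc']
        have e2 : c₁⁻¹ * (c * (c⁻¹ * ρ * c) * c⁻¹) * c₁ = c₁⁻¹ * ρ * c₁ := by group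
        rw [e2, hρc]; group
      rw [← h1]
      refine (conj_le_iff.2 hd).trans ?_
      have h3 := congrArg (fun A => MulAut.conj c₁ • A) h2
      simp only [conj_conj, mul_inv_cancel_left] at h3
      exact h3.le
    -- `e` centralises `HU^c₁`
    have hρz : MulAut.conj c₁ • zpowers (v (j + 1)) = zpowers ρ := by
      rw [hρc]
      ext y
      rw [mem_conj, mem_zpowers_iff, mem_zpowers_iff]
      constructor
      · rintro ⟨k, hk⟩
        exact ⟨k, by rw [conj_zpow, hk]; group⟩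
      · rintro ⟨k, hk⟩
        exact ⟨k, by rw [← hk, conj_zpow]; group⟩
    have hρρ : ρ * ρ = 1 := by
      have := D.N_sq j ρ hρN
      rwa [pow_two] at this
    have he1 : ∀ m ∈ MulAut.conj c₁ • HU V T j, m * e = e * m := by
      intro m hm
      have h1 : m * e * m⁻¹ * e⁻¹ ∈ zpowers ρ := by
        rw [← hρz]
        refine kp_conj_mem (D.comm_W_Q (j + 1) _ (D.H_le_W j ?_) _ ?_)
        · rwa [mem_conj] at hm
        · have := hQ1 heN
          rwa [mem_conj] at this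
      have h2 : m * e * m⁻¹ * e⁻¹ ∈ zpowers (v (j + 1)) := by
        refine hNW e heW m ?_
        have h3 := conj_le_iff (g := c₁) |>.2 (D.H_le_N j)
        rw [conj_eq_of_mem (D.C_le_N_N j hc₁)] at h3
        exact h3 hm
      rcases D.mem_zpv h2 with h3 | h3
      · exact comm_of_kp h3
      · exfalso
        rcases mem_zp_of_sq hρρ h1 with h4 | h4
        · rw [h3] at h4
          exact D.ne _ h4
        · apply hρ
          rw [← h4, h3]
          exact mem_zpowers _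
    have he0 : ∀ m ∈ HU V T j, m * e = e * m := fun m hm => mem_centralizer_iff.1 (D.W_cent_H j heW) m hm
    by_cases heq : MulAut.conj c₁ • HU V T j = HU V T j
    · -- `c₁ ∈ D`
      have h1 := D.cent_zc_le (j + 1) (S.inj c₁ hc₁ heq)
      apply hρ
      rw [hρc, D.conj_v _ h1]
      exact mem_zpowers _
    · apply hec
      obtain ⟨m₀, hm₀, hm₀'⟩ : ∃ m₀ ∈ MulAut.conj c₁ • HU V T j, m₀ ∉ HU V T j := by
        by_contra hcon2
        push Not at hcon2
        apply heq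
        refine Subgroup.eq_of_le_of_card_ge hcon2 ?_
        exact (Nat.card_congr (Subgroup.equivSMul (MulAut.conj c₁) (HU V T j)).toEquiv).le
      have hm₀N : m₀ ∈ NU V v j := by
        have h3 := conj_le_iff (g := c₁) |>.2 (D.H_le_N j)
        rw [conj_eq_of_mem (D.C_le_N_N j hc₁)] at h3
        exact h3 hm₀
      rw [mem_centralizer_iff]
      intro y hy
      by_cases hyH : y ∈ HU V T j
      · exact he0 y hyH
      · have h1 := he0 _ (mul_mem_of_idx S.idx hy hm₀N hyH hm₀')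
        have h2 := he1 m₀ hm₀
        calc y * e = y * (e * m₀) * m₀⁻¹ := by group
          _ = y * m₀ * e * m₀⁻¹ := by rw [← h2]; group
          _ = e * (y * m₀) * m₀⁻¹ := by rw [h1]
          _ = e * y := by group

/-- (2.3): `[W_j, N_(j+1)] = 1` -/
theorem c23 (hsec : Sec0 T V v) {j : Fin 2} (hd : NU V v (j + 1) ≤ QQ v j) (hWQ : WU V v (j + 1) ≤ QQ v j) :
    WU V v j ≤ centralizer (NU V v (j + 1) : Set G) := by
  by_contra hcon
  obtain ⟨w, hw, hwc⟩ := SetLike.not_le_iff_exists.1 hcon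
  have hvv : v (j + 1 + 1) = v j := by rw [add_one_add_one]
  have hcomm : ∀ x ∈ WU V v j, ∀ n ∈ NU V v (j + 1), n * x * n⁻¹ * x⁻¹ ∈ zpowers (v j) := fun x hx n hn =>
    kp_inv (D.comm_W_Q j x hx n (hd hn))
  obtain ⟨h1, h2⟩ := D.sec_v hsec (j := j + 1) (D.W_le_C j (j + 1) hw) hwc (fun n hn => by
    rw [hvv]; exact hcomm w hw n hn)
  rcases h2 with h2 | S
  · apply hwc
    rw [h2]
    have h3 := D.W_cent_H (j + 1)
    rw [add_one_add_one] at h3
    exact h3 hw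
  · rw [hvv] at S
    set R := NoFF.Basic.V (WU V v j) (CC v (j + 1)) with hR
    have hRC : R ≤ CC v (j + 1) := by
      refine V_le fun c hc => ?_
      rw [← NoFF.Basic.conj_self hc]
      exact conj_le_iff.2 (D.W_le_C j (j + 1))
    refine D.lemX (i := j + 1) (R := R) hRC (le_normalizer_V _ _) (fun h => hcon ((le_V _ _).trans h)) ?_ S.fixT
      (D.fixR S (D.W_le_C j (j + 1)) hcon (fun n hn x hx => hcomm x hx n hn) ?_)
    · intro r hr' u hu
      have h1 := comm_V (B := NU V v (j + 1)) (Q := WU V v (j + 1)) (D.W_le_C j (j + 1)) (D.C_le_N_N (j + 1))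
        (D.C_le_N_W (j + 1)) (fun x hx y hy => by
          have h4 := D.comm_W_Q j x hx y (hWQ hy)
          have h5 : zpowers (v j) ≤ NU V v (j + 1) := by
            rw [zpowers_le, ← hvv]
            exact D.mem_N (j + 1)
          exact h5 h4) r hr' u⁻¹ (inv_mem (D.V_le_W (j + 1) hu))
      have e : u⁻¹ * r * u * r⁻¹ = (r * u⁻¹ * r⁻¹ * u⁻¹⁻¹)⁻¹ := by group
      rw [e]
      exact D.N_le_E (j + 1) (inv_mem h1)
    · intro h
      rcases D.mem_zpv h with h | h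
      · exact D.ne _ h
      · exact D.v_ne_v (ne_add_one j) h.symm

end Fr

end Cfsg.Agent.Omega.TC

end

section


/-!
# THEOREM PC (helper691 #20995 (A)): two transvections `a`, `b` with `a b a = b a b`

`s3` : `M` abelian of exponent 2, `a`, `b` induce transvections (or 1) of order `≤ 2` on `M` with `(ab)³ = 1`; then
`a = b` on `M` or every vector moved by `a` and by `b` is fixed by `b a b`.
-/

set_option autoImplicit false

namespace Cfsg.Agent.Omega.TC.PC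

theorem s3' {M : Type*} [AddCommGroup M] (h2 : ∀ x : M, x + x = 0) (A B : M →+ M) (hA : ∀ x, A (A x) = x)
    (hB : ∀ x, B (B x) = x) (Ta : ∀ y y', A y ≠ y → A y' ≠ y' → A y + y = A y' + y')
    (Tb : ∀ y y', B y ≠ y → B y' ≠ y' → B y + y = B y' + y') (hc : ∀ y, A (B (A y)) = B (A (B y))) {m : M}
    (h1 : A m ≠ m) (h1' : B m ≠ m) : B (A (B m)) = m ∨ ∀ y, A y = B y := by
  have hcan : ∀ x y : M, x + (x + y) = y := fun x y => by rw [← add_assoc, h2, zero_add]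
  have hz : ∀ x y : M, x + y = 0 → x = y := fun x y h => by
    calc x = x + (x + y) := by rw [h, add_zero]
      _ = y := hcan x y
  obtain ⟨k, hk⟩ : ∃ k, k = A m + m := ⟨_, rfl⟩
  obtain ⟨l, hl⟩ : ∃ l, l = B m + m := ⟨_, rfl⟩
  have hk0 : k ≠ 0 := fun h => h1 (hz _ _ (hk.symm.trans h))
  have hl0 : l ≠ 0 := fun h => h1' (hz _ _ (hl.symm.trans h))
  have hAm : A m = k + m := by rw [hk, add_assoc, h2, add_zero]
  have hBm : B m = l + m := by rw [hl, add_assoc, h2, add_zero]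
  have hAk : A k = k := by rw [hk, map_add, hA, add_comm]
  have hBl : B l = l := by rw [hl, map_add, hB, add_comm]
  have hAy : ∀ y, A y = y ∨ A y = k + y := by
    intro y
    by_cases h : A y = y
    · exact Or.inl h
    · right
      rw [hk, ← Ta y m h h1, add_assoc, h2, add_zero]
  have hBy : ∀ y, B y = y ∨ B y = l + y := by
    intro y
    by_cases h : B y = y
    · exact Or.inl h
    · right
      rw [hl, ← Tb y m h h1', add_assoc, h2, add_zero]
  have hcm := hc m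
  rcases hAy l with hAl | hAl <;> rcases hBy k with hBk | hBk
  · -- `k = l`
    have e1 : A (B (A m)) = l + m := by
      rw [hAm, map_add, hBk, hBm, map_add, map_add, hAk, hAl, hAm]
      rw [add_left_comm l k m, hcan]
    have e2 : B (A (B m)) = k + m := by
      rw [hBm, map_add, hAl, hAm, map_add, map_add, hBl, hBk, hBm]
      rw [add_left_comm k l m, hcan]
    rw [e1, e2] at hcm
    have hlk : l = k := add_right_cancel hcm
    subst hlk
    right
    intro y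
    have hcy := hc y
    rcases hAy y with h | h <;> rcases hBy y with h' | h'
    · rw [h, h']
    · exfalso
      apply hk0
      rw [h, h', map_add, map_add, hAk, h, hBl, h', hcan] at hcy
      exact add_eq_right.1 hcy
    · exfalso
      apply hk0
      rw [h, h', map_add, hBl, h', map_add, hAk, h, hcan, map_add, hBl, h'] at hcy
      exact add_eq_right.1 hcy.symm
    · rw [h, h']
  · left
    rw [← hcm, hAm, map_add, hBk, hBm]
    have e : l + k + (l + m) = k + m := by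
      rw [add_comm l k, add_assoc, hcan]
    rw [e, map_add, hAk, hAm, hcan]
  · left
    rw [hBm, map_add, hAl, hAm]
    have e : k + l + (k + m) = l + m := by
      rw [add_comm k l, add_assoc, hcan]
    rw [e, map_add, hBl, hBm, hcan]
  · left
    rw [hBm, map_add, hAl, hAm]
    have e : k + l + (k + m) = l + m := by
      rw [add_comm k l, add_assoc, hcan]
    rw [e, map_add, hBl, hBm, hcan]

/-- the same for elements of a group acting by conjugation on `M` modulo `E` -/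
theorem s3 {G : Type*} [Group G] {S E : Subgroup G} (hSc : ∀ x ∈ S, ∀ y ∈ S, x * y = y * x)
    (hS2 : ∀ x ∈ S, x * x = 1) {a b : G} (haS : ∀ y ∈ S, a * y * a⁻¹ ∈ S)
    (hbS : ∀ y ∈ S, b * y * b⁻¹ ∈ S) (haE : ∀ y ∈ E, a * y * a⁻¹ ∈ E) (hbE : ∀ y ∈ E, b * y * b⁻¹ ∈ E)
    (ha2 : a * a = 1) (hb2 : b * b = 1)
    (Ta : ∀ y ∈ S, ∀ y' ∈ S, a * y * a⁻¹ * y⁻¹ ∉ E → a * y' * a⁻¹ * y'⁻¹ ∉ E → a * (y * y') * a⁻¹ * (y * y')⁻¹ ∈ E)
    (Tb : ∀ y ∈ S, ∀ y' ∈ S, b * y * b⁻¹ * y⁻¹ ∉ E → b * y' * b⁻¹ * y'⁻¹ ∉ E → b * (y * y') * b⁻¹ * (y * y')⁻¹ ∈ E)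
    (hc : ∀ y ∈ S, (a * b * a * y * (a * b * a)⁻¹) * (b * a * b * y * (b * a * b)⁻¹)⁻¹ ∈ E) {m : G} (hm : m ∈ S)
    (h1 : a * m * a⁻¹ * m⁻¹ ∉ E) (h2 : b * m * b⁻¹ * m⁻¹ ∉ E) :
    b * a * b * m * (b * a * b)⁻¹ * m⁻¹ ∈ E ∨ ∀ y ∈ S, (a * y * a⁻¹) * (b * y * b⁻¹)⁻¹ ∈ E := by
  let _ : CommGroup S := { (inferInstance : Group S) with
    mul_comm := fun x y => Subtype.ext (hSc x x.2 y y.2) }
  let E' : Subgroup S := E.subgroupOf S
  let cg : ∀ {c : G}, (∀ y ∈ S, c * y * c⁻¹ ∈ S) → (S →* S) := fun {c} h =>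
    { toFun := fun y => ⟨c * y * c⁻¹, h y y.2⟩
      map_one' := Subtype.ext (by simp)
      map_mul' := fun x y => Subtype.ext (by
        change c * ((x : G) * y) * c⁻¹ = c * x * c⁻¹ * (c * y * c⁻¹)
        group) }
  have hcE : ∀ {c : G} (h : ∀ y ∈ S, c * y * c⁻¹ ∈ S), (∀ y ∈ E, c * y * c⁻¹ ∈ E) → E' ≤ E'.comap (cg h) := by
    intro c h h' x hx
    rw [Subgroup.mem_comap]
    exact h' _ hx
  let A : Additive (S ⧸ E') →+ Additive (S ⧸ E') := (QuotientGroup.map E' E' (cg haS) (hcE haS haE)).toAdditive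
  let B : Additive (S ⧸ E') →+ Additive (S ⧸ E') := (QuotientGroup.map E' E' (cg hbS) (hcE hbS hbE)).toAdditive
  let q : S → Additive (S ⧸ E') := fun y => Additive.ofMul (QuotientGroup.mk y)
  have hq : ∀ x : Additive (S ⧸ E'), ∃ y : S, q y = x := fun x => by
    obtain ⟨y, hy⟩ := QuotientGroup.mk_surjective (Additive.toMul x)
    exact ⟨y, congrArg Additive.ofMul hy⟩
  have hAq : ∀ y : S, A (q y) = q (cg haS y) := fun y => rfl
  have hBq : ∀ y : S, B (q y) = q (cg hbS y) := fun y => rfl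
  have hqadd : ∀ x y : S, q x + q y = q (x * y) := fun x y => rfl
  have hq0 : ∀ x y : S, q x = q y ↔ (x : G) * (y : G)⁻¹ ∈ E := by
    intro x y
    have h3 : q x = q y ↔ (QuotientGroup.mk x : S ⧸ E') = QuotientGroup.mk y := Iff.rfl
    rw [h3, QuotientGroup.eq_iff_div_mem, Subgroup.mem_subgroupOf, div_eq_mul_inv]
    rfl
  have hxx : ∀ x : S, x * x = 1 := fun x => Subtype.ext (hS2 x x.2)
  have h22 : ∀ x : Additive (S ⧸ E'), x + x = 0 := by
    intro x
    obtain ⟨y, rfl⟩ := hq x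
    rw [hqadd, hxx]
    rfl
  have hTr : ∀ {c : G} (h : ∀ y ∈ S, c * y * c⁻¹ ∈ S), (∀ y ∈ S, ∀ y' ∈ S, c * y * c⁻¹ * y⁻¹ ∉ E →
      c * y' * c⁻¹ * y'⁻¹ ∉ E → c * (y * y') * c⁻¹ * (y * y')⁻¹ ∈ E) → ∀ y y' : S, q (cg h y) ≠ q y →
      q (cg h y') ≠ q y' → q (cg h y) + q y = q (cg h y') + q y' := by
    intro c h hT y y' h3 h4
    have h5 := hT y y.2 y' y'.2 (fun h => h3 ((hq0 _ _).2 h)) fun h => h4 ((hq0 _ _).2 h)
    have h6 : q (cg h (y * y')) = q (y * y') := (hq0 _ _).2 h5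
    rw [map_mul, ← hqadd, ← hqadd] at h6
    -- `A y + A y' = y + y'`
    have h7 : ∀ s t u w : Additive (S ⧸ E'), s + t = u + w → s + u = t + w := by
      intro s t u w h8
      calc s + u = s + (t + t) + u := by rw [h22, add_zero]
        _ = (s + t) + (t + u) := by abel
        _ = (u + w) + (t + u) := by rw [h8]
        _ = (u + u) + (t + w) := by abel
        _ = t + w := by rw [h22, zero_add]
    exact h7 _ _ _ _ h6
  have hinv : ∀ {c : G} (h : ∀ y ∈ S, c * y * c⁻¹ ∈ S), c * c = 1 → ∀ y : S, cg h (cg h y) = y := by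
    intro c h hcc y
    apply Subtype.ext
    change c * (c * y * c⁻¹) * c⁻¹ = y
    have e : c * (c * (y : G) * c⁻¹) * c⁻¹ = (c * c) * y * (c * c)⁻¹ := by group
    rw [e, hcc]; group
  have key := s3' h22 A B (fun x => by
      obtain ⟨y, rfl⟩ := hq x
      rw [hAq, hAq, hinv haS ha2]) (fun x => by
      obtain ⟨y, rfl⟩ := hq x
      rw [hBq, hBq, hinv hbS hb2]) (fun x x' => by
      obtain ⟨y, rfl⟩ := hq x
      obtain ⟨y', rfl⟩ := hq x'
      exact hTr haS Ta y y') (fun x x' => by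
      obtain ⟨y, rfl⟩ := hq x
      obtain ⟨y', rfl⟩ := hq x'
      exact hTr hbS Tb y y') (fun x => by
      obtain ⟨y, rfl⟩ := hq x
      rw [hAq, hBq, hAq, hBq, hAq, hBq]
      apply (hq0 _ _).2
      have h3 := hc y y.2
      have e : ((cg haS (cg hbS (cg haS y)) : S) : G) * ((cg hbS (cg haS (cg hbS y)) : S) : G)⁻¹ =
          (a * b * a * y * (a * b * a)⁻¹) * (b * a * b * y * (b * a * b)⁻¹)⁻¹ := by
        change a * (b * (a * (y : G) * a⁻¹) * b⁻¹) * a⁻¹ * (b * (a * (b * (y : G) * b⁻¹) * a⁻¹) * b⁻¹)⁻¹ = _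
        group
      rwa [e]) (m := q ⟨m, hm⟩) (fun h => h1 ((hq0 _ _).1 h)) (fun h => h2 ((hq0 _ _).1 h))
  rcases key with h | h
  · left
    rw [hBq, hAq, hBq] at h
    have h3 := (hq0 _ _).1 h
    have e : ((cg hbS (cg haS (cg hbS ⟨m, hm⟩)) : S) : G) * (m : G)⁻¹ =
        b * a * b * m * (b * a * b)⁻¹ * m⁻¹ := by
      change b * (a * (b * m * b⁻¹) * a⁻¹) * b⁻¹ * m⁻¹ = _
      group
    rwa [← e]
  · right
    intro y hy
    exact (hq0 _ _).1 (h (q ⟨y, hy⟩))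

end Cfsg.Agent.Omega.TC.PC

end

section


/-!
# CARD #18791, THEOREM PC (helper691 #20995 (A)): `d ≥ 2 ⟹ [W_a, N_b] = 1` for all `a ~ b`

`Fr.pc` : `N_k ≤ Q_(k+1)` for both `k` implies `[W_j, N_(j+1)] = 1`.  Inputs: `Sec0` (section 0), `FrmP` (the
invariant form, representability).
-/

set_option autoImplicit false
set_option linter.unusedSectionVars false

namespace Cfsg.Agent.Omega.TC

open Subgroup Cfsg Cfsg.Agent.ZN Cfsg.Agent.Omega.MinPar
open Cfsg.Agent.Omega.OM.KTwo (CC QQ WU NU EU FF ne_add_one eq_add_one add_one_add_one le_normalizer_V le_V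
  le_o2_of_commutator)
open Cfsg.Agent.Omega.OM.KTwo.StrSp (Pts Tr Frm)
open Cfsg.Agent.Omega.NoFF.Basic (conj_conj mem_conj conj_le_iff conj_le_centralizer comm_symm comm_mono
  Z_le_V V_le conj_V_mul)
open Cfsg.Agent.Omega.NOThreeL.Pair (conj_eq_of_mem)
open Cfsg.Agent.MinSimple.VModule (mem_zc zc_le normalizer_le_normalizer_zc le_normalizer_o2 le_o2 o2_le
  o2_isPGroup)
open scoped Pointwise

universe u

variable {G : Type u} [Group G]

/-- the invariant form on `N_i`, no radical -/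
structure BForm (T : Subgroup G) (V : Fin 2 → Subgroup G) (v : Fin 2 → G) (i : Fin 2) (B : G → G → ℤˣ) : Prop where
  F : Frm (CC v i) (NU V v i) 1 (v (i + 1)) B
  H_iff : ∀ n ∈ NU V v i, n ∈ HU V T i ↔ B (v (i + 1)) n = 1
  nd : ∀ u ∈ NU V v i, (∀ w ∈ NU V v i, B u w = 1) → u = 1
  rep : ∀ f : G → ℤˣ, f 1 = 1 → (∀ x ∈ NU V v i, ∀ y ∈ NU V v i, B x y = -1 → f (x * y) = f x * f y) →
    (∀ x ∈ V (i + 1), f x = 1) → ∃ z ∈ NU V v i, ∀ x ∈ NU V v i, f x = B z x

/-- section 0 with the form, as a hypothesis -/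
def FrmP (T : Subgroup G) (V : Fin 2 → Subgroup G) (v : Fin 2 → G) : Prop :=
  ∀ (i : Fin 2), ∀ x ∈ CC v i, x ∉ centralizer (NU V v i : Set G) →
    (∀ n ∈ NU V v i, n * x * n⁻¹ * x⁻¹ ∈ zpowers (v (i + 1))) → NU V v i = HU V T i ∨ ∃ B, BForm T V v i B

/-- `W_x`, `x = v_j^c` -/
def Wx (V : Fin 2 → Subgroup G) (v : Fin 2 → G) (i : Fin 2) (x : G) : Set G :=
  {w | ∃ c ∈ CC v i, c * v (i + 1) * c⁻¹ = x ∧ c⁻¹ * w * c ∈ WU V v (i + 1)}

/-- `x` fixes `y` modulo `E` -/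
def Fx (E : Subgroup G) (x y : G) : Prop := x * y * x⁻¹ * y⁻¹ ∈ E

/-- the situation: `[W_j, N_i] = ⟨v_j⟩`, `[W_i, N_j] = ⟨v_i⟩`, `j = i + 1` -/
structure PS [Finite G] (T : Subgroup G) (V P : Fin 2 → Subgroup G) (v : Fin 2 → G) (i : Fin 2)
    (B : G → G → ℤˣ) : Prop where
  D : Fr T V P v
  hd : ∀ k, NU V v k ≤ QQ v (k + 1)
  hmv : ¬ WU V v (i + 1) ≤ centralizer (NU V v i : Set G)
  hmv' : ¬ WU V v i ≤ centralizer (NU V v (i + 1) : Set G)
  hv : v i ∉ NU V v i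
  Si : SpF T V v i (v (i + 1))
  Sj : SpF T V v (i + 1) (v i)
  bf : BForm T V v i B

namespace PS

variable [Finite G] {T : Subgroup G} {V P : Fin 2 → Subgroup G} {v : Fin 2 → G} {i : Fin 2} {B : G → G → ℤˣ}
  (h : PS T V P v i B)

include h

/-- the abelian group `S = W_i N_i` -/
theorem S_comm : ∀ x ∈ WU V v i ⊔ NU V v i, ∀ y ∈ WU V v i ⊔ NU V v i, x * y = y * x := fun x hx _ hy =>
  (mem_centralizer_iff.1 (h.D.WN_comm i hy) x hx)

theorem S_sq : ∀ x ∈ WU V v i ⊔ NU V v i, x * x = 1 := fun x hx => by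
  have := h.D.WN_sq i x hx
  rwa [pow_two] at this

theorem C_le_N_S : CC v i ≤ normalizer ((WU V v i ⊔ NU V v i : Subgroup G) : Set G) := by
  intro c hc
  refine ChoiceBase.mem_normalizer_iff_cj.2 ?_
  change MulAut.conj c • (WU V v i ⊔ NU V v i) = _
  rw [Subgroup.smul_sup, conj_eq_of_mem (h.D.C_le_N_N i hc), conj_eq_of_mem (h.D.C_le_N_W i hc)]

theorem conj_S {c y : G} (hc : c ∈ CC v i) (hy : y ∈ WU V v i ⊔ NU V v i) : c * y * c⁻¹ ∈ WU V v i ⊔ NU V v i :=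
  (mem_normalizer_iff.1 (h.C_le_N_S hc) y).1 hy

theorem conj_E {c y : G} (hc : c ∈ CC v i) (hy : y ∈ EU T v i) : c * y * c⁻¹ ∈ EU T v i :=
  (mem_normalizer_iff.1 (h.D.C_le_N_E i hc) y).1 hy

theorem conj_N {c y : G} (hc : c ∈ CC v i) (hy : y ∈ NU V v i) : c * y * c⁻¹ ∈ NU V v i :=
  (mem_normalizer_iff.1 (h.D.C_le_N_N i hc) y).1 hy

theorem S_le_C : WU V v i ⊔ NU V v i ≤ CC v i := sup_le (h.D.W_le_C i i) (h.D.N_le_C i i)

omit h in
theorem fx_mul {E : Subgroup G} {x y z : G} (hE : x * (y * z * y⁻¹ * z⁻¹) * x⁻¹ ∈ E) (h2 : Fx E x z) : Fx E (x * y) z := by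
  have e : x * y * z * (x * y)⁻¹ * z⁻¹ = (x * (y * z * y⁻¹ * z⁻¹) * x⁻¹) * (x * z * x⁻¹ * z⁻¹) := by group
  unfold Fx at *
  rw [e]
  exact mul_mem hE h2

theorem fx_mul' {x y z : G} (hx : x ∈ CC v i) (h1 : Fx (EU T v i) y z) (h2 : Fx (EU T v i) x z) :
    Fx (EU T v i) (x * y) z := fx_mul (h.conj_E hx h1) h2

/-- modulo `E`, for `y`, `z ∈ S` -/
theorem fx_mul_right {x y z : G} (hy : y ∈ WU V v i ⊔ NU V v i) (h1 : Fx (EU T v i) x y)
    (h2 : Fx (EU T v i) x z) : Fx (EU T v i) x (y * z) := by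
  have e : x * (y * z) * x⁻¹ * (y * z)⁻¹ = (x * y * x⁻¹ * y⁻¹) * (y * (x * z * x⁻¹ * z⁻¹) * y⁻¹) := by group
  unfold Fx at *
  rw [e]
  exact mul_mem h1 (h.conj_E (h.S_le_C hy) h2)

theorem fx_conj {g x y : G} (hg : g ∈ CC v i) (h1 : Fx (EU T v i) x y) :
    Fx (EU T v i) (g * x * g⁻¹) (g * y * g⁻¹) := by
  have e : g * x * g⁻¹ * (g * y * g⁻¹) * (g * x * g⁻¹)⁻¹ * (g * y * g⁻¹)⁻¹ = g * (x * y * x⁻¹ * y⁻¹) * g⁻¹ := by group
  unfold Fx at *
  rw [e]
  exact h.conj_E hg h1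

/-- `Q_i` is trivial on `W_i N_i` modulo `E` -/
theorem fx_Q {x y : G} (hx : x ∈ QQ v i) (hy : y ∈ WU V v i ⊔ NU V v i) : Fx (EU T v i) x y := by
  obtain ⟨s, hs, n, hn, rfl⟩ := OM.KTwo.exists_mul_of_mem_sup ((h.D.N_le_C i i).trans (h.D.C_le_N_W i)) hy
  refine h.fx_mul_right (mem_sup_left hs) ?_ ?_
  · exact (zpowers_le.2 (h.D.v_mem_E i i)) (kp_inv (h.D.comm_W_Q i s hs x hx))
  · have h1 : x * n = n * x := (mem_centralizer_iff.1 (h.D.Q_le_cent_N i hx) n hn).symm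
    unfold Fx
    rw [kp_of_comm h1]
    exact one_mem _

theorem fx_N {x n : G} (hx : x ∈ CC v i) (hn : n ∈ NU V v i) : Fx (EU T v i) x n :=
  h.D.N_le_E i (mul_mem (h.conj_N hx hn) (inv_mem hn))

/-! ### the groups `W_x` -/

theorem wx_C {x w : G} (hw : w ∈ Wx V v i x) : w ∈ CC v i := by
  obtain ⟨c, hc, -, h1⟩ := hw
  have h2 := mul_mem (mul_mem hc (h.D.W_le_C (i + 1) i h1)) (inv_mem hc)
  have e : c * (c⁻¹ * w * c) * c⁻¹ = w := by group
  rwa [e] at h2

theorem wx_sq {x w : G} (hw : w ∈ Wx V v i x) : w * w = 1 := by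
  obtain ⟨c, hc, -, h1⟩ := hw
  have h2 := h.D.W_sq (i + 1) _ h1
  rw [pow_two] at h2
  have e : w * w = c * (c⁻¹ * w * c * (c⁻¹ * w * c)) * c⁻¹ := by group
  rw [e, h2]; group

theorem wx_conj {x w g : G} (hg : g ∈ CC v i) (hw : w ∈ Wx V v i x) : g * w * g⁻¹ ∈ Wx V v i (g * x * g⁻¹) := by
  obtain ⟨c, hc, h1, h2⟩ := hw
  refine ⟨g * c, mul_mem hg hc, ?_, ?_⟩
  · rw [← h1]; group
  · have e : (g * c)⁻¹ * (g * w * g⁻¹) * (g * c) = c⁻¹ * w * c := by group
    rwa [e]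

theorem wx_rep {c w : G} (hc : c ∈ CC v i) (hw : w ∈ Wx V v i (c * v (i + 1) * c⁻¹)) :
    c⁻¹ * w * c ∈ WU V v (i + 1) := by
  obtain ⟨c', hc', h1, h2⟩ := hw
  have h3 : c⁻¹ * c' ∈ CC v (i + 1) := by
    rw [CC, mem_centralizer_singleton_iff]
    calc c⁻¹ * c' * v (i + 1) = c⁻¹ * (c' * v (i + 1) * c'⁻¹) * c' := by group
      _ = v (i + 1) * (c⁻¹ * c') := by rw [h1]; group
  have h4 := (mem_normalizer_iff.1 (h.D.C_le_N_W (i + 1) h3) _).1 h2
  have e : c⁻¹ * c' * (c'⁻¹ * w * c') * (c⁻¹ * c')⁻¹ = c⁻¹ * w * c := by group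
  rwa [e] at h4

theorem wx_mul {x w w' : G} (hw : w ∈ Wx V v i x) (hw' : w' ∈ Wx V v i x) : w * w' ∈ Wx V v i x := by
  obtain ⟨c, hc, h1, h2⟩ := hw
  rw [← h1] at hw'
  have h3 := h.wx_rep hc hw'
  refine ⟨c, hc, h1, ?_⟩
  have h4 := mul_mem h2 h3
  have e : c⁻¹ * w * c * (c⁻¹ * w' * c) = c⁻¹ * (w * w') * c := by group
  rwa [e] at h4

/-- `[N_i, w] ≤ ⟨x⟩` -/
theorem wx_N {x w n : G} (hw : w ∈ Wx V v i x) (hn : n ∈ NU V v i) : w * n * w⁻¹ = n ∨ w * n * w⁻¹ = n * x := by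
  obtain ⟨c, hc, h1, h2⟩ := hw
  have hn' : c⁻¹ * n * c ∈ NU V v i := by
    have := h.conj_N (inv_mem hc) hn
    rwa [inv_inv] at this
  have hnQ : c⁻¹ * n * c ∈ QQ v (i + 1) := h.hd i hn'
  have h3 := h.D.comm_W_Q (i + 1) _ h2 _ (inv_mem hnQ)
  -- `[w', n'⁻¹] ∈ ⟨v j⟩`
  rcases h.D.mem_zpv (kp_inv h3) with h4 | h4
  · left
    have h5 := comm_of_kp h4
    have h6 : (c⁻¹ * n * c) * (c⁻¹ * w * c) = c⁻¹ * w * c * (c⁻¹ * n * c) := by
      have h7 : Commute (c⁻¹ * n * c)⁻¹ (c⁻¹ * w * c) := h5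
      have h8 := h7.inv_left
      rw [inv_inv] at h8
      exact h8.eq
    have h7 := congrArg (fun t => c * t * c⁻¹) h6
    have e1 : c * (c⁻¹ * n * c * (c⁻¹ * w * c)) * c⁻¹ = n * w := by group
    have e2 : c * (c⁻¹ * w * c * (c⁻¹ * n * c)) * c⁻¹ = w * n := by group
    simp only [e1, e2] at h7
    rw [← h7]; group
  · right
    have h7 := congrArg (fun t => c * t * c⁻¹) h4
    have e1 : c * ((c⁻¹ * n * c)⁻¹ * (c⁻¹ * w * c) * (c⁻¹ * n * c)⁻¹⁻¹ * (c⁻¹ * w * c)⁻¹) * c⁻¹ =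
      n⁻¹ * (w * n * w⁻¹) := by group
    simp only [e1] at h7
    rw [h1] at h7
    rw [← h7]; group

/-- elements of `W_x` which centralise `N_i` are in `Q_i` -/
theorem wx_Q {x w : G} (hw : w ∈ Wx V v i x) (h1 : w ∈ centralizer (NU V v i : Set G)) : w ∈ QQ v i := by
  obtain ⟨c, hc, -, h2⟩ := hw
  have h3 : c⁻¹ * w * c ∈ centralizer (NU V v i : Set G) := by
    rw [mem_centralizer_iff] at h1 ⊢
    intro n hn
    have h4 := h1 _ (h.conj_N hc hn)
    have h5 := congrArg (fun t => c⁻¹ * t * c) h4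
    have e1 : c⁻¹ * (c * n * c⁻¹ * w) * c = n * (c⁻¹ * w * c) := by group
    have e2 : c⁻¹ * (w * (c * n * c⁻¹)) * c = c⁻¹ * w * c * n := by group
    simp only [e1, e2] at h5
    exact h5
  have h4 : c⁻¹ * w * c ∈ QQ v i :=
    h.D.f3 i ⟨h.D.Q_le_o2D (i + 1) (h.D.W_le_Q (i + 1) h2), h3⟩
  have h5 : c * (c⁻¹ * w * c) * c⁻¹ ∈ QQ v i := (mem_normalizer_iff.1 (le_normalizer_o2 _ hc) _).1 h4
  have e : c * (c⁻¹ * w * c) * c⁻¹ = w := by group
  rwa [e] at h5

theorem wx_fx {x w y : G} (hw : w ∈ Wx V v i x) (h1 : w ∈ centralizer (NU V v i : Set G))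
    (hy : y ∈ WU V v i ⊔ NU V v i) : Fx (EU T v i) w y := h.fx_Q (h.wx_Q hw h1) hy

/-- two elements of `W_i` not centralising `N_j` -/
theorem idx_W {s s' : G} (hs : s ∈ WU V v i) (hs' : s' ∈ WU V v i) (h1 : s ∉ centralizer (NU V v (i + 1) : Set G))
    (h2 : s' ∉ centralizer (NU V v (i + 1) : Set G)) : s * s' ∈ centralizer (NU V v (i + 1) : Set G) := by
  have hjj : i + 1 + 1 = i := add_one_add_one i
  have hH : WU V v i ≤ centralizer (HU V T (i + 1) : Set G) := by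
    have := h.D.W_cent_H (i + 1)
    rwa [hjj] at this
  have hNQ : NU V v (i + 1) ≤ QQ v i := by
    have := h.hd (i + 1)
    rwa [hjj] at this
  -- `[s, n] = v i` for `n ∉ H_j`
  have key : ∀ t ∈ WU V v i, t ∉ centralizer (NU V v (i + 1) : Set G) → ∀ n ∈ NU V v (i + 1), n ∉ HU V T (i + 1) →
      t * n * t⁻¹ * n⁻¹ = v i := by
    intro t ht htc n hn hnH
    rcases h.D.mem_zpv (h.D.comm_W_Q i t ht n (hNQ hn)) with h3 | h3
    · exfalso
      apply hnH
      refine h.D.mem_H h.Sj.idx (X := zpowers t) ?_ ?_ hn fun x hx => ?_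
      · rw [zpowers_le]; exact hH ht
      · intro h4; exact htc (h4 (mem_zpowers _))
      · obtain ⟨k, rfl⟩ := mem_zpowers_iff.1 hx
        have h4 : Commute t n := comm_of_kp h3
        exact (h4.zpow_left k).eq
    · exact h3
  rw [mem_centralizer_iff]
  intro n hn
  by_cases hnH : n ∈ HU V T (i + 1)
  · have h3 := mem_centralizer_iff.1 (hH hs) n hnH
    have h4 := mem_centralizer_iff.1 (hH hs') n hnH
    calc n * (s * s') = (n * s) * s' := by group
      _ = s * (n * s') := by rw [h3]; group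
      _ = s * s' * n := by rw [h4]; group
  · have h3 := key s hs h1 n hn hnH
    have h4 := key s' hs' h2 n hn hnH
    have h5 : s' * n * s'⁻¹ = v i * n := by rw [← h4]; group
    have h6 : s * n * s⁻¹ = v i * n := by rw [← h3]; group
    have h7 : s * v i * s⁻¹ = v i := h.D.conj_v i (h.D.W_le_C i i hs)
    have h8 : s * s' * n * (s * s')⁻¹ = n := by
      calc s * s' * n * (s * s')⁻¹ = s * (s' * n * s'⁻¹) * s⁻¹ := by group
        _ = (s * v i * s⁻¹) * (s * n * s⁻¹) := by rw [h5]; group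
        _ = n := by rw [h7, h6, ← mul_assoc, h.D.v_sq, one_mul]
    calc n * (s * s') = s * s' * n * (s * s')⁻¹ * (s * s') := by rw [h8]
      _ = s * s' * n := by group

/-- every `w ∈ W_x` acts as `1` or as a transvection on `W_i N_i / E` -/
theorem wx_T1 {x w y y' : G} (hw : w ∈ Wx V v i x) (hy : y ∈ WU V v i ⊔ NU V v i) (hy' : y' ∈ WU V v i ⊔ NU V v i)
    (h1 : ¬ Fx (EU T v i) w y) (h2 : ¬ Fx (EU T v i) w y') : Fx (EU T v i) w (y * y') := by
  have hwC := h.wx_C hw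
  obtain ⟨c, hc, -, hwW⟩ := hw
  have hjj : i + 1 + 1 = i := add_one_add_one i
  -- reduce to `c = 1`
  have hci := inv_mem hc
  set w' := c⁻¹ * w * c with hw'
  have hw'C : w' ∈ CC v i := by
    have := mul_mem (mul_mem hci hwC) hc
    exact this
  have tr1 : ∀ z : G, Fx (EU T v i) w' (c⁻¹ * z * c) → Fx (EU T v i) w z := by
    intro z hz
    have h3 := h.fx_conj hc hz
    have e1 : c * w' * c⁻¹ = w := by rw [hw']; group
    have e2 : c * (c⁻¹ * z * c) * c⁻¹ = z := by group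
    rwa [e1, e2] at h3
  have hcS : ∀ z ∈ WU V v i ⊔ NU V v i, c⁻¹ * z * c ∈ WU V v i ⊔ NU V v i := by
    intro z hz
    have := h.conj_S hci hz
    rwa [inv_inv] at this
  -- elements of `W_i ∩ C(N_j)` are fixed by `w'`
  have hfix : ∀ s ∈ WU V v i, s ∈ centralizer (NU V v (i + 1) : Set G) → Fx (EU T v i) w' s := by
    intro s hs hsc
    have hsQ : s ∈ QQ v (i + 1) := h.D.f3 (i + 1) ⟨h.D.Q_le_o2D i (h.D.W_le_Q i hs), hsc⟩
    have h3 := h.D.comm_W_Q (i + 1) w' hwW s hsQ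
    have h4 : zpowers (v (i + 1)) ≤ EU T v i := zpowers_le.2 (h.D.v_mem_E i (i + 1))
    exact h4 h3
  have hstep : ∀ z ∈ WU V v i ⊔ NU V v i, ¬ Fx (EU T v i) w' z → ∃ s ∈ WU V v i, ∃ n ∈ NU V v i, z = s * n ∧
      s ∉ centralizer (NU V v (i + 1) : Set G) := by
    intro z hz hnz
    obtain ⟨s, hs, n, hn, rfl⟩ := OM.KTwo.exists_mul_of_mem_sup ((h.D.N_le_C i i).trans (h.D.C_le_N_W i)) hz
    refine ⟨s, hs, n, hn, rfl, fun hsc => hnz ?_⟩
    exact h.fx_mul_right (mem_sup_left hs) (hfix s hs hsc) (h.fx_N hw'C hn)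
  apply tr1
  have h3 : ¬ Fx (EU T v i) w' (c⁻¹ * y * c) := fun h3 => h1 (tr1 _ h3)
  have h4 : ¬ Fx (EU T v i) w' (c⁻¹ * y' * c) := fun h3 => h2 (tr1 _ h3)
  obtain ⟨s, hs, n, hn, e, hsc⟩ := hstep _ (hcS y hy) h3
  obtain ⟨s', hs', n', hn', e', hsc'⟩ := hstep _ (hcS y' hy') h4
  have e3 : c⁻¹ * (y * y') * c = s * s' * (n * n') := by
    have h5 : n * s' = s' * n := h.S_comm n (mem_sup_right hn) s' (mem_sup_left hs')
    calc c⁻¹ * (y * y') * c = (c⁻¹ * y * c) * (c⁻¹ * y' * c) := by group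
      _ = s * (n * s') * n' := by rw [e, e']; group
      _ = s * s' * (n * n') := by rw [h5]; group
  rw [e3]
  exact h.fx_mul_right (mem_sup_left (mul_mem hs hs')) (hfix _ (mul_mem hs hs') (h.idx_W hs hs' hsc hsc'))
    (h.fx_N hw'C (mul_mem hn hn'))

/-! ### faithfulness -/

theorem pt_of {x : G} (hx : x ∈ NU V v i) (hx1 : x ≠ 1) : ∃ c ∈ CC v i, x = c * v (i + 1) * c⁻¹ := by
  have h1 : x ∉ zpowers (v i) := by
    intro h2
    rcases h.D.mem_zpv h2 with h3 | h3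
    · exact hx1 h3
    · exact h.hv (h3 ▸ hx)
  obtain ⟨c, hc, h2 | h2⟩ := h.Si.pts x hx h1
  · exact ⟨c, hc, h2⟩
  · exfalso
    apply h.hv
    have h3 : c * v (i + 1) * c⁻¹ ∈ NU V v i := h.conj_N hc (h.D.mem_N i)
    have h4 := mul_mem (inv_mem h3) hx
    rwa [h2, inv_mul_cancel_left] at h4

/-- a normal subgroup of `C_i` which moves `N_i` has no fixed point on `E / ⟨v_i⟩` -/
theorem fixK {K : Subgroup G} (hKC : K ≤ CC v i) (hCK : CC v i ≤ normalizer (K : Set G))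
    (hm : ¬ K ≤ centralizer (NU V v i : Set G)) :
    ∀ n ∈ EU T v i, (∀ x ∈ K, n⁻¹ * x * n * x⁻¹ ∈ zpowers (v i)) → n ∈ zpowers (v i) := by
  intro n hn hfix
  obtain ⟨m, hmN, w, hw, rfl⟩ := h.D.mem_E hn
  refine mul_mem ?_ hw
  by_cases hm1 : m = 1
  · rw [hm1]; exact one_mem _
  exfalso
  -- `m` commutes with `K`
  have hmK : ∀ x ∈ K, m * x = x * m := by
    intro x hx
    have hwx : w * x = x * w := mem_centralizer_iff.1 (Fr.CC_le_cent_zpowers i (hKC hx)) w hw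
    have hwm : w * m = m * w := mem_centralizer_iff.1 (Fr.CC_le_cent_zpowers i (h.D.N_le_C i i hmN)) w hw
    have h1 := hfix x hx
    have e : (m * w)⁻¹ * x * (m * w) * x⁻¹ = m⁻¹ * x * m * x⁻¹ := by
      calc (m * w)⁻¹ * x * (m * w) * x⁻¹ = (m * w)⁻¹ * x * (w * m) * x⁻¹ := by rw [hwm]
        _ = (m * w)⁻¹ * (x * w) * m * x⁻¹ := by group
        _ = (w * m)⁻¹ * (w * x) * m * x⁻¹ := by rw [hwx, hwm]
        _ = m⁻¹ * x * m * x⁻¹ := by group
    rw [e] at h1
    have h2 : m⁻¹ * x * m * x⁻¹ ∈ NU V v i := by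
      have e2 : m⁻¹ * x * m * x⁻¹ = m⁻¹ * (x * m * x⁻¹) := by group
      rw [e2]
      exact mul_mem (inv_mem hmN) (h.conj_N (hKC hx) hmN)
    rcases h.D.mem_zpv h1 with h3 | h3
    · calc m * x = m * (m⁻¹ * x * m * x⁻¹)⁻¹ * (m⁻¹ * x * m * x⁻¹) * x := by group
        _ = m * (m⁻¹ * x * m * x⁻¹) * x := by rw [h3]; simp
        _ = x * m := by group
    · exact absurd (h3 ▸ h2) h.hv
  obtain ⟨c, hc, hmc⟩ := h.pt_of hmN hm1
  apply hm
  apply comm_symm
  refine h.D.N_le_of_mem i ?_ fun g hg => ?_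
  · rw [mem_centralizer_iff]
    intro x hx
    have h1 : c * x * c⁻¹ ∈ K := (mem_normalizer_iff.1 (hCK hc) x).1 hx
    have h2 := hmK _ h1
    rw [hmc] at h2
    have h3 := congrArg (fun t => c⁻¹ * t * c) h2
    have e1 : c⁻¹ * (c * v (i + 1) * c⁻¹ * (c * x * c⁻¹)) * c = v (i + 1) * x := by group
    have e2 : c⁻¹ * (c * x * c⁻¹ * (c * v (i + 1) * c⁻¹)) * c = x * v (i + 1) := by group
    simp only [e1, e2] at h3
    exact h3.symm
  · rw [mem_normalizer_iff]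
    have key : ∀ g ∈ CC v i, ∀ y ∈ centralizer (K : Set G), g * y * g⁻¹ ∈ centralizer (K : Set G) := by
      intro g hg y hy
      rw [mem_centralizer_iff] at hy ⊢
      intro x hx
      have h1 : g⁻¹ * x * g ∈ K := by
        have := (mem_normalizer_iff.1 (hCK (inv_mem hg)) x).1 hx
        rwa [inv_inv] at this
      have h2 := hy _ h1
      calc x * (g * y * g⁻¹) = g * (g⁻¹ * x * g * y) * g⁻¹ := by group
        _ = g * (y * (g⁻¹ * x * g)) * g⁻¹ := by rw [h2]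
        _ = g * y * g⁻¹ * x := by group
    intro y
    refine ⟨key g hg y, fun hy => ?_⟩
    have h1 := key g⁻¹ (inv_mem hg) _ hy
    have e : g⁻¹ * (g * y * g⁻¹) * g⁻¹⁻¹ = y := by group
    rwa [e] at h1

/-- **(FAITH)** -/
theorem faith {k : G} (hk : k ∈ CC v i) (h1 : ∀ y ∈ WU V v i ⊔ NU V v i, Fx (EU T v i) k y) :
    k ∈ centralizer (NU V v i : Set G) := by
  let K : Subgroup G :=
    { carrier := {k | k ∈ CC v i ∧ ∀ y ∈ WU V v i ⊔ NU V v i, Fx (EU T v i) k y}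
      one_mem' := ⟨one_mem _, fun y _ => by unfold Fx; simp⟩
      mul_mem' := fun {a b} ha hb => ⟨mul_mem ha.1 hb.1, fun y hy => h.fx_mul' ha.1 (hb.2 y hy) (ha.2 y hy)⟩
      inv_mem' := fun {a} ha => by
        refine ⟨inv_mem ha.1, fun y hy => ?_⟩
        have h2 := h.conj_E (inv_mem ha.1) (inv_mem (ha.2 y hy))
        unfold Fx
        have e : a⁻¹ * (a * y * a⁻¹ * y⁻¹)⁻¹ * a⁻¹⁻¹ = a⁻¹ * y * a⁻¹⁻¹ * y⁻¹ := by group
        rwa [e] at h2 }
  have hCK : CC v i ≤ normalizer (K : Set G) := by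
    have key : ∀ g ∈ CC v i, ∀ a ∈ K, g * a * g⁻¹ ∈ K := by
      rintro g hg a ⟨ha, ha'⟩
      refine ⟨mul_mem (mul_mem hg ha) (inv_mem hg), fun y hy => ?_⟩
      have h2 := h.fx_conj hg (ha' _ (h.conj_S (inv_mem hg) hy))
      have e : g * (g⁻¹ * y * g⁻¹⁻¹) * g⁻¹ = y := by group
      rwa [e] at h2
    intro g hg
    rw [mem_normalizer_iff]
    intro y
    refine ⟨key g hg y, fun hy => ?_⟩
    have h1 := key g⁻¹ (inv_mem hg) _ hy
    have e : g⁻¹ * (g * y * g⁻¹) * g⁻¹⁻¹ = y := by group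
    rwa [e] at h1
  have hKC : K ≤ CC v i := fun _ hx => hx.1
  have hKK : K ≤ centralizer (NU V v i : Set G) := by
    by_contra hcon
    refine h.D.lemX hKC hCK hcon ?_ h.Si.fixT (h.fixK hKC hCK hcon)
    intro r hr u hu
    have h2 := hr.2 u⁻¹ (mem_sup_left (inv_mem (h.D.V_le_W i hu)))
    unfold Fx at h2
    have e : u⁻¹ * r * u * r⁻¹ = (r * u⁻¹ * r⁻¹ * u⁻¹⁻¹)⁻¹ := by group
    rw [e]
    exact inv_mem h2
  exact hKK ⟨hk, h1⟩

/-! ### the transvections -/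

theorem wx_tr {x w : G} (hw : w ∈ Wx V v i x) (hwc : w ∉ centralizer (NU V v i : Set G)) :
    Tr (CC v i) (NU V v i) 1 x w := by
  refine ⟨h.wx_C hw, fun n hn => ?_, ?_⟩
  · rw [mul_one]; exact h.wx_N hw hn
  · by_contra hcon
    push Not at hcon
    apply hwc
    rw [mem_centralizer_iff]
    intro n hn
    have h1 := hcon n hn
    calc n * w = w * n * w⁻¹ * w := by rw [h1]
      _ = w * n := by group

theorem wx_pt {x w : G} (hw : w ∈ Wx V v i x) : x ∈ Pts (CC v i) (v (i + 1)) := by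
  obtain ⟨c, hc, h1, -⟩ := hw
  exact ⟨c, hc, h1.symm⟩

theorem wx_fix {x w n : G} (hw : w ∈ Wx V v i x) (hwc : w ∉ centralizer (NU V v i : Set G)) (hn : n ∈ NU V v i) :
    B x n = 1 ↔ w * n * w⁻¹ = n := h.bf.F.tv x (h.wx_pt hw) w (h.wx_tr hw hwc) n hn

theorem wx_mv {x w n : G} (hw : w ∈ Wx V v i x) (hwc : w ∉ centralizer (NU V v i : Set G)) (hn : n ∈ NU V v i)
    (hB : B x n = -1) : w * n * w⁻¹ = n * x := by
  rcases h.wx_N hw hn with h1 | h1
  · have h2 := (h.wx_fix hw hwc hn).2 h1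
    rw [hB] at h2
    exact absurd h2 (by decide)
  · exact h1

theorem wx_ex {x : G} (hx : x ∈ NU V v i) (hx1 : x ≠ 1) : ∃ w ∈ Wx V v i x, w ∉ centralizer (NU V v i : Set G) := by
  obtain ⟨c, hc, rfl⟩ := h.pt_of hx hx1
  obtain ⟨w, hw, hwc⟩ := SetLike.not_le_iff_exists.1 h.hmv
  refine ⟨c * w * c⁻¹, ⟨c, hc, rfl, ?_⟩, fun h1 => hwc ?_⟩
  · have e : c⁻¹ * (c * w * c⁻¹) * c = w := by group
    rwa [e]
  · rw [mem_centralizer_iff] at h1 ⊢
    intro n hn
    have h2 := h1 _ (h.conj_N hc hn)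
    have h3 := congrArg (fun t => c⁻¹ * t * c) h2
    have e1 : c⁻¹ * (c * n * c⁻¹ * (c * w * c⁻¹)) * c = n * w := by group
    have e2 : c⁻¹ * (c * w * c⁻¹ * (c * n * c⁻¹)) * c = w * n := by group
    simp only [e1, e2] at h3
    exact h3

theorem conj_cent {g w : G} (hg : g ∈ CC v i) (hw : w ∉ centralizer (NU V v i : Set G)) :
    g * w * g⁻¹ ∉ centralizer (NU V v i : Set G) := by
  intro h1
  apply hw
  rw [mem_centralizer_iff] at h1 ⊢
  intro n hn
  have h2 := h1 _ (h.conj_N hg hn)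
  have h3 := congrArg (fun t => g⁻¹ * t * g) h2
  have e1 : g⁻¹ * (g * n * g⁻¹ * (g * w * g⁻¹)) * g = n * w := by group
  have e2 : g⁻¹ * (g * w * g⁻¹ * (g * n * g⁻¹)) * g = w * n := by group
  simp only [e1, e2] at h3
  exact h3

/-- two transvections with the same centre -/
theorem wx_two {x w w' : G} (hw : w ∈ Wx V v i x) (hwc : w ∉ centralizer (NU V v i : Set G))
    (hw' : w' ∈ Wx V v i x) (hwc' : w' ∉ centralizer (NU V v i : Set G)) :
    w * w' ∈ centralizer (NU V v i : Set G) := by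
  rw [mem_centralizer_iff]
  intro n hn
  have hN : ∀ u ∈ Wx V v i x, ∀ m ∈ NU V v i, u * m * u⁻¹ = m ∨ u * m * u⁻¹ = m * x := fun u hu m hm => h.wx_N hu hm
  have hxN : x ∈ NU V v i := by
    obtain ⟨c, hc, h1, -⟩ := hw
    rw [← h1]
    exact h.conj_N hc (h.D.mem_N i)
  have hBx : B x x = 1 := h.bf.F.self x hxN
  have hwx : w * x * w⁻¹ = x := (h.wx_fix hw hwc hxN).1 hBx
  have key : w * w' * n * (w * w')⁻¹ = n := by
    have e : w * w' * n * (w * w')⁻¹ = w * (w' * n * w'⁻¹) * w⁻¹ := by group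
    rw [e]
    by_cases hB : B x n = 1
    · rw [(h.wx_fix hw' hwc' hn).1 hB, (h.wx_fix hw hwc hn).1 hB]
    · have hB' : B x n = -1 := (Int.units_eq_one_or _).resolve_left hB
      rw [h.wx_mv hw' hwc' hn hB']
      have e2 : w * (n * x) * w⁻¹ = (w * n * w⁻¹) * (w * x * w⁻¹) := by group
      have hxx : x * x = 1 := h.S_sq x (mem_sup_right hxN)
      rw [e2, h.wx_mv hw hwc hn hB', hwx, mul_assoc, hxx, mul_one]
  calc n * (w * w') = w * w' * n * (w * w')⁻¹ * (w * w') := by rw [key]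
    _ = w * w' * n := by group

omit h in
/-- `W_x` fixes `u` modulo `E` -/
def Pf (T : Subgroup G) (V : Fin 2 → Subgroup G) (v : Fin 2 → G) (i : Fin 2) (u x : G) : Prop :=
  ∀ w ∈ Wx V v i x, Fx (EU T v i) w u

theorem ne_one_of {x y : G} (hy : y ∈ NU V v i) (hB : B x y = -1) : x ≠ 1 := by
  rintro rfl
  have h1 : B 1 y = 1 := by
    have h2 := h.bf.F.symm 1 (one_mem _) y hy
    have h3 := h.bf.F.mul y hy 1 (one_mem _) 1 (one_mem _)
    rw [mul_one] at h3
    rw [h2]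
    rcases Int.units_eq_one_or (B y 1) with h4 | h4
    · exact h4
    · rw [h4] at h3; exact absurd h3 (by decide)
  rw [h1] at hB
  exact absurd hB (by decide)

theorem pf_A {u x y : G} (hx : x ∈ NU V v i) (hy : y ∈ NU V v i) (hB : B x y = -1)
    (h1 : Pf T V v i u x) (h2 : Pf T V v i u y) : Pf T V v i u (x * y) := by
  have hB' : B y x = -1 := by rw [h.bf.F.symm y hy x hx]; exact hB
  obtain ⟨b, hb, hbc⟩ := h.wx_ex hy (h.ne_one_of hx hB')
  have hbx := h.wx_mv hb hbc hx hB'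
  have hbC := h.wx_C hb
  have hbb := h.wx_sq hb
  have hbi : b⁻¹ = b := inv_eq_of_mul_eq_one_left hbb
  intro w hw
  rw [← hbx] at hw
  have hw' := h.wx_conj (inv_mem hbC) hw
  have e : b⁻¹ * (b * x * b⁻¹) * b⁻¹⁻¹ = x := by group
  rw [e] at hw'
  have h3 := h1 _ hw'
  have h4 := h2 b hb
  -- `w = b (b⁻¹ w b) b⁻¹`
  have h5 : Fx (EU T v i) (b * (b⁻¹ * w * b⁻¹⁻¹) * b) u :=
    h.fx_mul' (mul_mem hbC (h.wx_C hw')) h4 (h.fx_mul' hbC h3 h4)
  have e2 : b * (b⁻¹ * w * b⁻¹⁻¹) * b = w * (b * b) := by group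
  rwa [e2, hbb, mul_one] at h5

theorem pf_B {u x y : G} (hu : u ∈ WU V v i ⊔ NU V v i) (hx : x ∈ NU V v i) (hy : y ∈ NU V v i) (hB : B x y = -1)
    (h1 : ¬ Pf T V v i u x) (h2 : ¬ Pf T V v i u y) : Pf T V v i u (x * y) := by
  have hB' : B y x = -1 := by rw [h.bf.F.symm y hy x hx]; exact hB
  unfold Pf at h1 h2
  push Not at h1 h2
  obtain ⟨a, ha, hau⟩ := h1
  obtain ⟨b, hb, hbu⟩ := h2
  have hac : a ∉ centralizer (NU V v i : Set G) := fun h3 => hau (h.wx_fx ha h3 hu)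
  have hbc : b ∉ centralizer (NU V v i : Set G) := fun h3 => hbu (h.wx_fx hb h3 hu)
  have haC := h.wx_C ha
  have hbC := h.wx_C hb
  have haa := h.wx_sq ha
  have hbb := h.wx_sq hb
  have hai : a⁻¹ = a := inv_eq_of_mul_eq_one_left haa
  have hbi : b⁻¹ = b := inv_eq_of_mul_eq_one_left hbb
  have hxy : y * x = x * y := h.S_comm y (mem_sup_right hy) x (mem_sup_right hx)
  have hc : b * a * b ∈ Wx V v i (x * y) := by
    have h3 := h.wx_conj hbC ha
    rwa [h.wx_mv hb hbc hx hB', hbi] at h3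
  have hc' : a * b * a ∈ Wx V v i (x * y) := by
    have h3 := h.wx_conj haC hb
    rwa [h.wx_mv ha hac hy hB, hai, hxy] at h3
  have hcc : b * a * b ∉ centralizer (NU V v i : Set G) := by
    have h3 := h.conj_cent hbC hac
    rwa [hbi] at h3
  have hcc' : a * b * a ∉ centralizer (NU V v i : Set G) := by
    have h3 := h.conj_cent haC hbc
    rwa [hai] at h3
  have hccC := h.wx_C hc
  -- `c c'` is trivial on `S / E`
  have hci : (b * a * b)⁻¹ = b * a * b := inv_eq_of_mul_eq_one_left (h.wx_sq hc)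
  have htriv : ∀ s ∈ WU V v i ⊔ NU V v i,
      (a * b * a * s * (a * b * a)⁻¹) * (b * a * b * s * (b * a * b)⁻¹)⁻¹ ∈ EU T v i := by
    intro s hs
    have h3 := h.wx_fx (h.wx_mul hc hc') (h.wx_two hc hcc hc' hcc') hs
    have h4 := h.conj_E hccC h3
    have e : b * a * b * (b * a * b * (a * b * a) * s * (b * a * b * (a * b * a))⁻¹ * s⁻¹) * (b * a * b)⁻¹ =
        ((b * a * b) * (b * a * b)) * (a * b * a) * s * (a * b * a)⁻¹ * ((b * a * b) * (b * a * b))⁻¹ *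
        (b * a * b * s * (b * a * b)⁻¹)⁻¹ := by group
    rw [e, h.wx_sq hc] at h4
    have e2 : 1 * (a * b * a) * s * (a * b * a)⁻¹ * (1 : G)⁻¹ * (b * a * b * s * (b * a * b)⁻¹)⁻¹ =
      (a * b * a * s * (a * b * a)⁻¹) * (b * a * b * s * (b * a * b)⁻¹)⁻¹ := by group
    rwa [e2] at h4
  have hs3 := PC.s3 (E := EU T v i) h.S_comm h.S_sq (a := a) (b := b) (fun s hs => h.conj_S haC hs)
    (fun s hs => h.conj_S hbC hs) (fun s hs => h.conj_E haC hs) (fun s hs => h.conj_E hbC hs) haa hbb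
    (fun s hs s' hs' => h.wx_T1 ha hs hs') (fun s hs s' hs' => h.wx_T1 hb hs hs') htriv hu hau hbu
  rcases hs3 with hs3 | hs3
  · intro w hw
    by_cases hwc : w ∈ centralizer (NU V v i : Set G)
    · exact h.wx_fx hw hwc hu
    · have h3 := h.wx_fx (h.wx_mul hw hc) (h.wx_two hw hwc hc hcc) hu
      have h4 := h.fx_mul' (mul_mem (h.wx_C hw) hccC) hs3 h3
      have e : w * (b * a * b) * (b * a * b) = w * ((b * a * b) * (b * a * b)) := by group
      rwa [e, h.wx_sq hc, mul_one] at h4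
  · exfalso
    have h3 : b⁻¹ * a ∈ centralizer (NU V v i : Set G) := by
      refine h.faith (mul_mem (inv_mem hbC) haC) fun s hs => ?_
      have h4 := h.conj_E (inv_mem hbC) (hs3 s hs)
      unfold Fx
      have e : b⁻¹ * (a * s * a⁻¹ * (b * s * b⁻¹)⁻¹) * b⁻¹⁻¹ = b⁻¹ * a * s * (b⁻¹ * a)⁻¹ * s⁻¹ := by group
      rwa [e] at h4
    have h4 := mem_centralizer_iff.1 h3 x hx
    have hax : a * x * a⁻¹ = x := (h.wx_fix ha hac hx).1 (h.bf.F.self x hx)
    have hbx := h.wx_mv hb hbc hx hB'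
    have h5 : b * x * b⁻¹ = x := by
      calc b * x * b⁻¹ = b * (x * (b⁻¹ * a)) * a⁻¹ := by group
        _ = b * (b⁻¹ * a * x) * a⁻¹ := by rw [h4]
        _ = a * x * a⁻¹ := by group
        _ = x := hax
    rw [h5] at hbx
    apply h.ne_one_of hx hB'
    calc y = x⁻¹ * (x * y) := by group
      _ = 1 := by rw [← hbx]; group

theorem pf_conj {u g x : G} (hu : u ∈ WU V v i ⊔ NU V v i) (hg : g ∈ CC v i) (hgu : Fx (EU T v i) g u)
    (h1 : Pf T V v i u x) : Pf T V v i u (g * x * g⁻¹) := by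
  intro w hw
  have hw' := h.wx_conj (inv_mem hg) hw
  have e : g⁻¹ * (g * x * g⁻¹) * g⁻¹⁻¹ = x := by group
  rw [e] at hw'
  have h2 := h.fx_conj hg (h1 _ hw')
  have e2 : g * (g⁻¹ * w * g⁻¹⁻¹) * g⁻¹ = w := by group
  rw [e2] at h2
  -- `u = e⁻¹ (g u g⁻¹)`, `e = g u g⁻¹ u⁻¹ ∈ E`
  have hE : (g * u * g⁻¹ * u⁻¹)⁻¹ ∈ EU T v i := inv_mem hgu
  have hwC := h.wx_C hw
  have h3 : Fx (EU T v i) w (g * u * g⁻¹ * u⁻¹)⁻¹ := mul_mem (h.conj_E hwC hE) (inv_mem hE)
  have hES : (g * u * g⁻¹ * u⁻¹)⁻¹ ∈ WU V v i ⊔ NU V v i := h.D.E_le_WN i hE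
  have h4 := h.fx_mul_right hES h3 h2
  have hcomm : (g * u * g⁻¹ * u⁻¹)⁻¹ * (g * u * g⁻¹) = u := by group
  rwa [hcomm] at h4

open Classical in
/-- **the kernel of the proof**: all `W_x` fix `u ∈ V_i` modulo `E` -/
theorem pf_all {u : G} (hu : u ∈ V i) {x : G} (hx : x ∈ NU V v i) : Pf T V v i u x := by
  have huS : u ∈ WU V v i ⊔ NU V v i := mem_sup_left (h.D.V_le_W i hu)
  let f : G → ℤˣ := fun x => if Pf T V v i u x then 1 else -1
  have f1 : ∀ x, f x = 1 ↔ Pf T V v i u x := by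
    intro x
    constructor
    · intro hf
      by_contra hc
      have : f x = -1 := if_neg hc
      rw [this] at hf
      exact absurd hf (by decide)
    · exact fun hc => if_pos hc
  have f2 : ∀ x, f x = -1 ↔ ¬ Pf T V v i u x := by
    intro x
    constructor
    · intro hf hc
      have : f x = 1 := if_pos hc
      rw [this] at hf
      exact absurd hf (by decide)
    · exact fun hc => if_neg hc
  have hsym : ∀ x ∈ NU V v i, ∀ y ∈ NU V v i, B x y = B y x := fun x hx y hy => h.bf.F.symm x hx y hy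
  have hxy : ∀ x ∈ NU V v i, ∀ y ∈ NU V v i, x * y = y * x := fun x hx y hy =>
    h.S_comm x (mem_sup_right hx) y (mem_sup_right hy)
  have hsq : ∀ x ∈ NU V v i, x * x = 1 := fun x hx => h.S_sq x (mem_sup_right hx)
  -- `C`: one fixed, one not
  have hC : ∀ x ∈ NU V v i, ∀ y ∈ NU V v i, B x y = -1 → Pf T V v i u x → ¬ Pf T V v i u y →
      ¬ Pf T V v i u (x * y) := by
    intro x hx y hy hB h1 h2 h3
    apply h2
    have hB2 : B x (x * y) = -1 := by
      rw [h.bf.F.mul x hx x hx y hy, h.bf.F.self x hx, one_mul]; exact hB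
    have h4 := h.pf_A hx (mul_mem hx hy) hB2 h1 h3
    rwa [← mul_assoc, hsq x hx, one_mul] at h4
  have hadd : ∀ x ∈ NU V v i, ∀ y ∈ NU V v i, B x y = -1 → f (x * y) = f x * f y := by
    intro x hx y hy hB
    by_cases h1 : Pf T V v i u x <;> by_cases h2 : Pf T V v i u y
    · rw [(f1 _).2 h1, (f1 _).2 h2, (f1 _).2 (h.pf_A hx hy hB h1 h2)]; rfl
    · rw [(f1 _).2 h1, (f2 _).2 h2, (f2 _).2 (hC x hx y hy hB h1 h2)]; rfl
    · have hB' : B y x = -1 := by rw [← hsym x hx y hy]; exact hB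
      have h3 := hC y hy x hx hB' h2 h1
      rw [hxy y hy x hx] at h3
      rw [(f2 _).2 h1, (f1 _).2 h2, (f2 _).2 h3]; rfl
    · rw [(f2 _).2 h1, (f2 _).2 h2, (f1 _).2 (h.pf_B huS hx hy hB h1 h2)]; rfl
  have hf1 : f 1 = 1 := by
    rw [f1]
    intro w hw
    obtain ⟨c, hc, h1, -⟩ := hw
    exact absurd (conj_eq_one_iff.1 h1) (h.D.ne (i + 1))
  have hij := ne_add_one i
  -- elements of `V_(i+1)`
  have hTfix : ∀ t ∈ T, Fx (EU T v i) t u := fun t ht =>
    (zpowers_le.2 (h.D.v_mem_E i i)) (kp_inv (h.D.comm_VQ i hu ht))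
  have hVf : ∀ x ∈ V (i + 1), f x = 1 := by
    intro x hx
    by_cases hx1 : x = 1
    · rw [hx1]; exact hf1
    rw [f1]
    obtain ⟨l, hl, hlV, hlx⟩ := h.D.tr hij.symm hx hx1
    have hlC : l ∈ CC v i := h.D.PC (i + 1) i hij.symm hl
    intro w hw
    rw [← hlx] at hw
    have hw' := h.wx_rep hlC hw
    have h1 := hTfix _ (h.D.W_le_T (i + 1) hw')
    have h2 := h.fx_conj hlC h1
    have e1 : l * (l⁻¹ * w * l) * l⁻¹ = w := by group
    have e2 : l * u * l⁻¹ = u := by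
      have := mem_centralizer_iff.1 hlV u hu
      rw [← this]; group
    rwa [e1, e2] at h2
  obtain ⟨z, hz, hfz⟩ := h.bf.rep f hf1 hadd hVf
  -- `z` is fixed by the elements which fix `u` modulo `E`
  have hzfix : ∀ g ∈ CC v i, Fx (EU T v i) g u → Fx (EU T v i) g⁻¹ u → g * z * g⁻¹ = z := by
    intro g hg hgu hgu'
    have hfg : ∀ x ∈ NU V v i, f (g * x * g⁻¹) = f x := by
      intro x hx
      by_cases h1 : Pf T V v i u x
      · rw [(f1 _).2 h1, (f1 _).2 (h.pf_conj huS hg hgu h1)]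
      · rw [(f2 _).2 h1, (f2 _).2]
        intro h2
        apply h1
        have h3 := h.pf_conj huS (inv_mem hg) hgu' h2
        have e : g⁻¹ * (g * x * g⁻¹) * g⁻¹⁻¹ = x := by group
        rwa [e] at h3
    have hgz : g * z * g⁻¹ ∈ NU V v i := h.conj_N hg hz
    have h1 : z * (g * z * g⁻¹) = 1 := by
      refine h.bf.nd _ (mul_mem hz hgz) fun y hy => ?_
      have hy' : g⁻¹ * y * g ∈ NU V v i := by
        have := h.conj_N (inv_mem hg) hy
        rwa [inv_inv] at this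
      have h2 : B (g * z * g⁻¹) y = B z y := by
        have h3 := h.bf.F.inv g hg z hz (g⁻¹ * y * g) hy'
        have e : g * (g⁻¹ * y * g) * g⁻¹ = y := by group
        rw [e] at h3
        rw [h3, ← hfz _ hy', ← hfz y hy, ← hfg _ hy', e]
      rw [hsym _ (mul_mem hz hgz) y hy, h.bf.F.mul y hy z hz _ hgz, hsym y hy z hz, hsym y hy _ hgz, h2]
      rcases Int.units_eq_one_or (B z y) with h4 | h4 <;> rw [h4] <;> rfl
    calc g * z * g⁻¹ = z * z * (g * z * g⁻¹) := by rw [hsq z hz, one_mul]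
      _ = z := by rw [mul_assoc, h1, mul_one]
  have hinvT : ∀ t ∈ T, t * z = z * t := by
    intro t ht
    have h1 := hzfix t (h.D.T_le_C i ht) (hTfix t ht) (hTfix _ (inv_mem ht))
    calc t * z = t * z * t⁻¹ * t := by group
      _ = z * t := by rw [h1]
  have hzT : z ∈ zc T := mem_zc.2 ⟨h.D.N_le_T i hz, hinvT, h.D.N_sq i z hz⟩
  have hz1 : z = 1 := by
    by_contra hz1
    have hzv : z = v (i + 1) := by
      have hvv : v 0 * v 1 = v (i + 1) * v i := h.D.v_mul_v i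
      rcases (h.D.zT z).1 hzT with h1 | h1 | h1 | h1
      · exact absurd h1 hz1
      · rcases Fin.exists_fin_two.1 ⟨i, rfl⟩ with hi | hi
        · exfalso; apply h.hv; rw [hi] at hz ⊢; rw [← h1]; exact hz
        · rw [h1, hi]; rfl
      · rcases Fin.exists_fin_two.1 ⟨i, rfl⟩ with hi | hi
        · rw [h1, hi]; rfl
        · exfalso; apply h.hv; rw [hi] at hz ⊢; rw [← h1]; exact hz
      · exfalso
        apply h.hv
        rw [hvv] at h1
        rw [h1] at hz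
        have h2 := mul_mem (inv_mem (h.D.mem_N i)) hz
        rwa [inv_mul_cancel_left] at h2
    obtain ⟨y, hy, hy1, hyv⟩ := h.D.exists_ne_v (i + 1)
    obtain ⟨l, hl, hlV, hly⟩ := h.D.tr hij.symm hy hy1
    have hlC : l ∈ CC v i := h.D.PC (i + 1) i hij.symm hl
    have hlu : l * u = u * l := (mem_centralizer_iff.1 hlV u hu).symm
    have hlfx : Fx (EU T v i) l u := by
      unfold Fx
      rw [kp_of_comm hlu]; exact one_mem _
    have hlfx' : Fx (EU T v i) l⁻¹ u := by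
      have h1 : l⁻¹ * u = u * l⁻¹ := by
        calc l⁻¹ * u = l⁻¹ * (u * l) * l⁻¹ := by group
          _ = u * l⁻¹ := by rw [← hlu]; group
      unfold Fx
      rw [kp_of_comm h1]; exact one_mem _
    have h1 := hzfix l hlC hlfx hlfx'
    rw [hzv, hly] at h1
    exact hyv h1
  rw [← f1, hfz x hx, hz1]
  by_contra hcon
  exact h.ne_one_of hx ((Int.units_eq_one_or _).resolve_left hcon) rfl

/-- the situation is impossible -/
theorem false_of : False := by
  set R := NoFF.Basic.V (WU V v (i + 1)) (CC v i) with hR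
  have hRC : R ≤ CC v i := by
    refine V_le fun c hc => ?_
    rw [← NoFF.Basic.conj_self hc]
    exact conj_le_iff.2 (h.D.W_le_C (i + 1) i)
  have hm : ¬ R ≤ centralizer (NU V v i : Set G) := fun h1 => h.hmv ((le_V _ _).trans h1)
  refine h.D.lemX hRC (le_normalizer_V _ _) hm ?_ h.Si.fixT (h.fixK hRC (le_normalizer_V _ _) hm)
  -- `[R, u] ≤ E`
  have key : ∀ u ∈ V i, ∀ r ∈ R, Fx (EU T v i) r u := by
    intro u hu
    let K : Subgroup G :=
      { carrier := {k | k ∈ CC v i ∧ Fx (EU T v i) k u}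
        one_mem' := ⟨one_mem _, by unfold Fx; simp⟩
        mul_mem' := fun {a b} ha hb => ⟨mul_mem ha.1 hb.1, h.fx_mul' ha.1 hb.2 ha.2⟩
        inv_mem' := fun {a} ha => by
          refine ⟨inv_mem ha.1, ?_⟩
          have h2 := h.conj_E (inv_mem ha.1) (inv_mem ha.2)
          unfold Fx
          have e : a⁻¹ * (a * u * a⁻¹ * u⁻¹)⁻¹ * a⁻¹⁻¹ = a⁻¹ * u * a⁻¹⁻¹ * u⁻¹ := by group
          rwa [e] at h2 }
    have hK : R ≤ K := by
      refine V_le fun c hc w hw => ?_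
      rw [mem_conj] at hw
      have hw' : w ∈ Wx V v i (c * v (i + 1) * c⁻¹) := ⟨c, hc, rfl, hw⟩
      exact ⟨h.wx_C hw', h.pf_all hu (h.conj_N hc (h.D.mem_N i)) w hw'⟩
    exact fun r hr => (hK hr).2
  intro r hr u hu
  have h2 := key u⁻¹ (inv_mem hu) r hr
  unfold Fx at h2
  have e : u⁻¹ * r * u * r⁻¹ = (r * u⁻¹ * r⁻¹ * u⁻¹⁻¹)⁻¹ := by group
  rw [e]
  exact inv_mem h2

end PS

namespace Fr

variable [Finite G] {T : Subgroup G} {V P : Fin 2 → Subgroup G} {v : Fin 2 → G} (D : Fr T V P v)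

include D

/-- **THEOREM PC** (691 #20995 (A)), form of the result with `i`: `[W_(i+1), N_i] = 1` -/
theorem pc' (hsec : Sec0 T V v) (hfr : FrmP T V v) (hd : ∀ k, NU V v k ≤ QQ v (k + 1)) (i : Fin 2) :
    WU V v (i + 1) ≤ centralizer (NU V v i : Set G) := by
  by_contra hcon
  have hjj : i + 1 + 1 = i := add_one_add_one i
  have hcomm : ∀ k, ∀ x ∈ WU V v (k + 1), ∀ n ∈ NU V v k, n * x * n⁻¹ * x⁻¹ ∈ zpowers (v (k + 1)) :=
    fun k x hx n hn => kp_inv (D.comm_W_Q (k + 1) x hx n (hd k hn))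
  have hside : ∀ k, ¬ WU V v (k + 1) ≤ centralizer (NU V v k : Set G) → v k ∉ NU V v k ∧
      SpF T V v k (v (k + 1)) ∧ ∃ B, BForm T V v k B := by
    intro k hk
    obtain ⟨w, hw, hwc⟩ := SetLike.not_le_iff_exists.1 hk
    have hgl : NU V v k ≠ HU V T k := by
      intro h
      apply hwc
      rw [h]
      exact D.W_cent_H k hw
    obtain ⟨h1, h2⟩ := D.sec_v hsec (D.W_le_C (k + 1) k hw) hwc (fun n hn => hcomm k w hw n hn)
    refine ⟨h1, h2.resolve_left hgl, ?_⟩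
    exact (hfr k w (D.W_le_C (k + 1) k hw) hwc (fun n hn => hcomm k w hw n hn)).resolve_left hgl
  obtain ⟨hv, Si, B, hB⟩ := hside i hcon
  by_cases hcon' : WU V v i ≤ centralizer (NU V v (i + 1) : Set G)
  · -- `W_i ≤ Q_(i+1)`, (2.3)
    have h1 : WU V v i ≤ QQ v (i + 1) :=
      (le_inf ((D.W_le_Q i).trans (D.Q_le_o2D i)) hcon').trans (D.f3 (i + 1))
    have h2 := D.c23 hsec (j := i + 1) (by rw [hjj]; exact hd i) (by rw [hjj]; exact h1)
    rw [hjj] at h2
    exact hcon h2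
  · obtain ⟨-, Sj, -⟩ := hside (i + 1) (by rw [hjj]; exact hcon')
    rw [hjj] at Sj
    exact PS.false_of (h := { D := D, hd := hd, hmv := hcon, hmv' := hcon', hv := hv, Si := Si, Sj := Sj, bf := hB })

/-- **THEOREM PC** -/
theorem pc (hsec : Sec0 T V v) (hfr : FrmP T V v) (hd : ∀ k, NU V v k ≤ QQ v (k + 1)) (j : Fin 2) :
    WU V v j ≤ centralizer (NU V v (j + 1) : Set G) := by
  have := D.pc' hsec hfr hd (j + 1)
  rwa [add_one_add_one] at this

end Fr

end Cfsg.Agent.Omega.TC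

end
end

-- part: Mrg/Omega/TC/FrmRep
section
/-!
# CARD #18791: section 0 with the invariant form and representability (input `FrmP` of THEOREM PC), and THEOREM PC

* `NDeg.exists_rep` : a non-degenerate alternating form on a finite elementary abelian `N`, `f` a function additive on
  the hyperbolic pairs and trivial on a totally isotropic line: `f = B z`;
* `Fr.frmP : FrmP T V v`;
* `Fr.pcF` : THEOREM PC: `N_k ≤ Q_(k+1)` for both `k` implies `[W_j, N_(j+1)] = 1`.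
-/

set_option autoImplicit false
set_option linter.unusedSectionVars false

namespace Cfsg.Agent.Omega.TC

open Subgroup Cfsg Cfsg.Agent.ZN Cfsg.Agent.Omega.MinPar
open Cfsg.Agent.Omega.OM.KTwo (CC QQ WU NU EU FF ne_add_one eq_add_one add_one_add_one le_normalizer_V le_V
  le_o2_of_commutator)
open Cfsg.Agent.Omega.OM.KTwo.StrSp (Pts Tr TBase TUn TDat Frm exists_conj_mem)
open Cfsg.Agent.Omega.NoFF.Basic (conj_conj mem_conj conj_le_iff conj_le_centralizer comm_symm comm_mono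
  Z_le_V V_le conj_V_mul)
open Cfsg.Agent.MinSimple.VModule (mem_zc zc_le le_normalizer_o2 le_o2 o2_le o2_isPGroup
  normalizer_le_normalizer_zc)
open scoped Pointwise

universe u

variable {G : Type u} [Group G]

/-- a non-degenerate alternating form -/
structure NDeg (N : Subgroup G) (B : G → G → ℤˣ) : Prop where
  sq : ∀ n ∈ N, n * n = 1
  comm : ∀ n ∈ N, ∀ m ∈ N, n * m = m * n
  mul : ∀ u ∈ N, ∀ w ∈ N, ∀ w' ∈ N, B u (w * w') = B u w * B u w'
  symm : ∀ u ∈ N, ∀ w ∈ N, B u w = B w u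
  self : ∀ u ∈ N, B u u = 1
  nd : ∀ u ∈ N, (∀ w ∈ N, B u w = 1) → u = 1

namespace NDeg

variable {N : Subgroup G} {B : G → G → ℤˣ} (h : NDeg N B)
include h

theorem mul_left {u w x : G} (hu : u ∈ N) (hw : w ∈ N) (hx : x ∈ N) : B (u * w) x = B u x * B w x := by
  rw [h.symm _ (mul_mem hu hw) x hx, h.mul x hx u hu w hw, h.symm x hx u hu, h.symm x hx w hw]

omit h in
/-- the sign as an element of `F₂` -/
def sg2 (a : ℤˣ) : ZMod 2 := if a = 1 then 0 else 1

omit h in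
theorem sg2_mul (a b : ℤˣ) : sg2 (a * b) = sg2 a + sg2 b := by
  rcases Int.units_eq_one_or a with rfl | rfl <;> rcases Int.units_eq_one_or b with rfl | rfl <;> decide

omit h in
theorem sg2_inj {a b : ℤˣ} (hab : sg2 a = sg2 b) : a = b := by
  rcases Int.units_eq_one_or a with rfl | rfl <;> rcases Int.units_eq_one_or b with rfl | rfl <;>
    first
      | rfl
      | exact absurd hab (by decide)

omit h in
theorem sg2_zero {a : ℤˣ} (ha : sg2 a = 0) : a = 1 := sg2_inj (ha.trans (by decide))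

/-- linear functions are represented -/
theorem rep_lin [Finite G] {f : G → ℤˣ} (hf : ∀ x ∈ N, ∀ y ∈ N, f (x * y) = f x * f y) :
    ∃ z ∈ N, ∀ x ∈ N, f x = B z x := by
  obtain ⟨z, hz, h1⟩ := Cfsg.Agent.Omega.HTwo.Eight.exists_rep (U := N) (fun u hu v hv => h.comm u hu v hv) h.sq
    (f := fun u w => sg2 (B u w)) (fun u hu v hv w hw => by
      rw [h.mul_left hu hv hw, sg2_mul])
    (fun u hu v hv => by
      rw [h.symm u hu v hv])
    (Ψ := fun u => sg2 (f u)) (fun u hu v hv => by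
      rw [hf u hu v hv, sg2_mul])
    (fun u hu hr => by
      have h2 : u = 1 := h.nd u hu fun w hw => sg2_zero (hr w hw)
      have h3 := hf 1 (one_mem _) 1 (one_mem _)
      rw [mul_one] at h3
      have h4 : f 1 = 1 := by
        rcases Int.units_eq_one_or (f 1) with h4 | h4
        · exact h4
        · rw [h4] at h3
          exact absurd h3 (by decide)
      change sg2 (f u) = 0
      rw [h2, h4]
      decide)
  exact ⟨z, hz, fun x hx => sg2_inj (h1 x hx)⟩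

/-- two non-zero functionals are simultaneously `-1` on the kernel of a third one -/
theorem two_neg {y x x' w w' : G} (hx : x ∈ N) (hx' : x' ∈ N) (hw : w ∈ N) (hw' : w' ∈ N) (hy : y ∈ N)
    (h1 : B y w = 1) (h2 : B y w' = 1) (h3 : B x w = -1) (h4 : B x' w' = -1) :
    ∃ t ∈ N, B y t = 1 ∧ B x t = -1 ∧ B x' t = -1 := by
  rcases Int.units_eq_one_or (B x' w) with h5 | h5
  · rcases Int.units_eq_one_or (B x w') with h6 | h6
    · refine ⟨w * w', mul_mem hw hw', ?_, ?_, ?_⟩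
      · rw [h.mul y hy w hw w' hw', h1, h2, one_mul]
      · rw [h.mul x hx w hw w' hw', h3, h6, mul_one]
      · rw [h.mul x' hx' w hw w' hw', h5, h4, one_mul]
    · exact ⟨w', hw', h2, h6, h4⟩
  · exact ⟨w, hw, h1, h3, h5⟩

/-- `x ∉ {1, y}`: some `w ∈ y^⊥` does not centralise `x` -/
theorem exists_neg {x y : G} (hx : x ∈ N) (hy : y ∈ N) (hx1 : x ≠ 1) (hxy : x ≠ y) :
    ∃ w ∈ N, B y w = 1 ∧ B x w = -1 := by
  by_contra hcon
  push Not at hcon
  have h1 : ∀ w ∈ N, B y w = 1 → B x w = 1 := fun w hw hw1 =>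
    (Int.units_eq_one_or (B x w)).resolve_right (hcon w hw hw1)
  by_cases h2 : ∀ w ∈ N, B y w = 1
  · exact hx1 (h.nd x hx fun w hw => h1 w hw (h2 w hw))
  push Not at h2
  obtain ⟨w0, hw0, h3⟩ := h2
  have h3' : B y w0 = -1 := (Int.units_eq_one_or _).resolve_left h3
  rcases Int.units_eq_one_or (B x w0) with h4 | h4
  · -- `x` in the radical
    apply hx1
    refine h.nd x hx fun w hw => ?_
    rcases Int.units_eq_one_or (B y w) with h5 | h5
    · exact h1 w hw h5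
    · have h6 := h1 (w * w0) (mul_mem hw hw0) (by rw [h.mul y hy w hw w0 hw0, h5, h3']; decide)
      rwa [h.mul x hx w hw w0 hw0, h4, mul_one] at h6
  · apply hxy
    have h7 : x * y = 1 := by
      refine h.nd _ (mul_mem hx hy) fun w hw => ?_
      rw [h.mul_left hx hy hw]
      rcases Int.units_eq_one_or (B y w) with h5 | h5
      · rw [h1 w hw h5, h5, one_mul]
      · have h6 := h1 (w * w0) (mul_mem hw hw0) (by rw [h.mul y hy w hw w0 hw0, h5, h3']; decide)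
        rw [h.mul x hx w hw w0 hw0, h4] at h6
        rcases Int.units_eq_one_or (B x w) with h8 | h8
        · rw [h8] at h6
          exact absurd h6 (by decide)
        · rw [h8, h5]; decide
    calc x = x * y * y := by rw [mul_assoc, h.sq y hy, mul_one]
      _ = y := by rw [h7, one_mul]

/-- **a function additive on the hyperbolic pairs and trivial on a totally isotropic line is linear** -/
theorem lin [Finite G] {f : G → ℤˣ} (f1 : f 1 = 1)
    (hf : ∀ x ∈ N, ∀ y ∈ N, B x y = -1 → f (x * y) = f x * f y) {p q : G} (hp : p ∈ N) (hq : q ∈ N) (hp1 : p ≠ 1)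
    (hq1 : q ≠ 1) (hpq : p ≠ q) (hB : B p q = 1) (fp : f p = 1) (fq : f q = 1) (fpq : f (p * q) = 1) :
    ∀ x ∈ N, ∀ y ∈ N, f (x * y) = f x * f y := by
  -- the defect
  let δ : G → G → ℤˣ := fun x y => f (x * y) * f x * f y
  have hδ : ∀ x y, δ x y = f (x * y) * f x * f y := fun _ _ => rfl
  have δsymm : ∀ x ∈ N, ∀ y ∈ N, δ x y = δ y x := by
    intro x hx y hy
    rw [hδ, hδ, h.comm x hx y hy, mul_assoc, mul_assoc, mul_comm (f x)]
  -- `δ x y = δ y w` for `x ⊥ y ⊥ w`, `x` not `⊥ w`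
  have step : ∀ x ∈ N, ∀ y ∈ N, ∀ w ∈ N, B x y = 1 → B y w = 1 → B x w = -1 → δ x y = δ y w := by
    intro x hx y hy w hw h1 h2 h3
    have e1 : x * y = x * w * (y * w) := by
      calc x * y = x * (w * w) * y := by rw [h.sq w hw, mul_one]
        _ = x * w * (w * y) := by group
        _ = x * w * (y * w) := by rw [h.comm w hw y hy]
    have h4 : B (x * w) (y * w) = -1 := by
      rw [h.mul_left hx hw (mul_mem hy hw), h.mul x hx y hy w hw, h.mul w hw y hy w hw, h1, h3, h.self w hw,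
        h.symm w hw y hy, h2]
      decide
    have h5 : f (x * y) = f x * f w * f (y * w) := by
      rw [e1, hf _ (mul_mem hx hw) _ (mul_mem hy hw) h4, hf x hx w hw h3]
    rw [hδ, hδ, h5]
    have h6 := Int.units_mul_self (f x)
    calc f x * f w * f (y * w) * f x * f y = (f x * f x) * (f (y * w) * f y * f w) := by ac_rfl
      _ = f (y * w) * f y * f w := by rw [h6, one_mul]
  -- `δ y x = δ y x'`
  have same : ∀ y ∈ N, y ≠ 1 → ∀ x ∈ N, ∀ x' ∈ N, B y x = 1 → B y x' = 1 → x ≠ 1 → x ≠ y → x' ≠ 1 → x' ≠ y →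
      δ y x = δ y x' := by
    intro y hy hy1 x hx x' hx' h1 h2 hx1 hxy hx1' hxy'
    obtain ⟨w, hw, h3, h4⟩ := h.exists_neg hx hy hx1 hxy
    obtain ⟨w', hw', h3', h4'⟩ := h.exists_neg hx' hy hx1' hxy'
    obtain ⟨t, ht, h5, h6, h7⟩ := h.two_neg hx hx' hw hw' hy h3 h3' h4 h4'
    have e1 := step x hx y hy t ht (by rw [h.symm x hx y hy, h1]) h5 h6
    have e2 := step x' hx' y hy t ht (by rw [h.symm x' hx' y hy, h2]) h5 h7
    rw [δsymm y hy x hx, e1, ← e2, δsymm x' hx' y hy]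
  -- all defects are equal to `δ p q = 1`
  have hpq1 : δ p q = 1 := by rw [hδ, fp, fq, fpq]; decide
  have all : ∀ x ∈ N, ∀ y ∈ N, x ≠ 1 → y ≠ 1 → x ≠ y → B x y = 1 → δ x y = 1 := by
    -- from `p` to every `z ⊥ p`
    have A1 : ∀ z ∈ N, z ≠ 1 → z ≠ p → B p z = 1 → δ p z = 1 := fun z hz hz1 hzp hpz => by
      rw [same p hp hp1 z hz q hq hpz hB hz1 hzp hq1 (Ne.symm hpq), hpq1]
    have A2 : ∀ z ∈ N, z ≠ 1 → z ≠ p → B p z = 1 → ∀ y ∈ N, y ≠ 1 → y ≠ z → B z y = 1 → δ z y = 1 := by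
      intro z hz hz1 hzp hpz y hy hy1 hyz hzy
      rw [same z hz hz1 y hy p hp hzy (by rw [h.symm z hz p hp, hpz]) hy1 hyz hp1 (Ne.symm hzp), δsymm z hz p hp]
      exact A1 z hz hz1 hzp hpz
    intro x hx y hy hx1 hy1 hxy hB1
    rcases Int.units_eq_one_or (B p x) with h1 | h1
    · by_cases hxp : x = p
      · subst hxp
        exact A1 y hy hy1 (Ne.symm hxy) hB1
      · exact A2 x hx hx1 hxp h1 y hy hy1 (Ne.symm hxy) hB1
    · -- some `z ∈ ⟨p, q⟩` with `z ⊥ x`, `z ≠ p`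
      obtain ⟨z, hz, hz1, hzp, hpz, hxz⟩ : ∃ z ∈ N, z ≠ 1 ∧ z ≠ p ∧ B p z = 1 ∧ B x z = 1 := by
        rcases Int.units_eq_one_or (B x q) with h2 | h2
        · exact ⟨q, hq, hq1, Ne.symm hpq, hB, h2⟩
        · refine ⟨p * q, mul_mem hp hq, ?_, ?_, ?_, ?_⟩
          · intro h3
            apply hpq
            calc p = p * (q * q) := by rw [h.sq q hq, mul_one]
              _ = p * q * q := by group
              _ = q := by rw [h3, one_mul]
          · intro h3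
            exact hq1 (mul_eq_left.1 h3)
          · rw [h.mul p hp p hp q hq, h.self p hp, hB, one_mul]
          · rw [h.mul x hx p hp q hq, h2, h.symm x hx p hp, h1]; decide
      have hxz' : x ≠ z := by
        rintro rfl
        rw [hpz] at h1
        exact absurd h1 (by decide)
      rw [same x hx hx1 y hy z hz hB1 hxz hy1 (Ne.symm hxy) hz1 (Ne.symm hxz'), δsymm x hx z hz]
      exact A2 z hz hz1 hzp hpz x hx hx1 hxz' (by rw [h.symm z hz x hx, hxz])
  intro x hx y hy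
  by_cases hx1 : x = 1
  · rw [hx1, one_mul, f1, one_mul]
  by_cases hy1 : y = 1
  · rw [hy1, mul_one, f1, mul_one]
  by_cases hxy : x = y
  · rw [hxy, h.sq y hy, f1, Int.units_mul_self]
  rcases Int.units_eq_one_or (B x y) with h1 | h1
  · have h2 := all x hx y hy hx1 hy1 hxy h1
    rw [hδ] at h2
    calc f (x * y) = f (x * y) * (f x * f x) * (f y * f y) := by
          rw [Int.units_mul_self, Int.units_mul_self, mul_one, mul_one]
      _ = (f (x * y) * f x * f y) * (f x * f y) := by ac_rfl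
      _ = f x * f y := by rw [h2, one_mul]
  · exact hf x hx y hy h1

theorem exists_rep [Finite G] {f : G → ℤˣ} (f1 : f 1 = 1)
    (hf : ∀ x ∈ N, ∀ y ∈ N, B x y = -1 → f (x * y) = f x * f y) {p q : G} (hp : p ∈ N) (hq : q ∈ N) (hp1 : p ≠ 1)
    (hq1 : q ≠ 1) (hpq : p ≠ q) (hB : B p q = 1) (fp : f p = 1) (fq : f q = 1) (fpq : f (p * q) = 1) :
    ∃ z ∈ N, ∀ x ∈ N, f x = B z x :=
  h.rep_lin (h.lin f1 hf hp hq hp1 hq1 hpq hB fp fq fpq)

end NDeg

namespace Fr

variable [Finite G] {T : Subgroup G} {V P : Fin 2 → Subgroup G} {v : Fin 2 → G} (D : Fr T V P v)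

include D

theorem bform (i : Fin 2) {a : G} {B : G → G → ℤˣ}
    (ha : a ∈ V (i + 1)) (ha1 : a ≠ 1) (hav : a ≠ v (i + 1))
    (h : TDat (CC v i) (centralizer (zc T : Set G)) (P (i + 1)) T (NU V v i) (v i) 1 (v (i + 1)) a)
    (F : Frm (CC v i) (NU V v i) 1 (v (i + 1)) B) : BForm T V v i B := by
  have hnd : ∀ u ∈ NU V v i, (∀ w ∈ NU V v i, B u w = 1) → u = 1 := fun u hu hw =>
    (h.rad F hu hw).elim id id
  have hND : NDeg (NU V v i) B :=
    { sq := h.sq
      comm := h.comm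
      mul := F.mul
      symm := F.symm
      self := F.self
      nd := hnd }
  refine ⟨F, fun n hn => ?_, hnd, fun f f1 hf hV => ?_⟩
  · rw [D.s0_mem_HU i ha ha1 hav h F]
    exact ⟨fun h1 => h1.2, fun h1 => ⟨hn, h1⟩⟩
  · exact hND.exists_rep f1 hf h.x_mem (h.pt_mem h.a_pt) (D.ne (i + 1)) ha1 (Ne.symm hav) (h.B_xa F)
      (hV _ (D.mem (i + 1))) (hV _ ha) (hV _ (mul_mem (D.mem (i + 1)) ha))

/-- **section 0 with the form (input `FrmP` of THEOREM PC)** -/
theorem frmP : FrmP T V v := by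
  intro i x hx hxN hxr
  obtain ⟨a, ha, ha1, hav⟩ := D.exists_ne_v (i + 1)
  have htr : Tr (CC v i) (NU V v i) 1 (v (i + 1)) x := by
    refine (D.s0_tr_or i (r := v (i + 1)) (mul_one _).symm (mul_one 1) (by group) hx hxr).resolve_left
      fun h1 => hxN ?_
    rw [mem_centralizer_iff]
    intro n hn
    calc n * x = x * n * x⁻¹ * x := by rw [h1 n hn]
      _ = x * n := by group
  have h := D.s0_base i (Or.inl rfl) ha ha1 hav htr
  have hmv := D.mem (i + 1)
  by_cases huniq : ∀ t t', Tr (CC v i) (NU V v i) 1 (v (i + 1)) t → Tr (CC v i) (NU V v i) 1 (v (i + 1)) t' →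
      ∀ n ∈ NU V v i, t * n * t⁻¹ = t' * n * t'⁻¹
  · right
    have hU : TUn (CC v i) (centralizer (zc T : Set G)) (P (i + 1)) T (NU V v i) (v i) 1 (v (i + 1)) a :=
      { h with uniq := huniq }
    obtain ⟨B, F⟩ := hU.exists_frm
    have hti : ∀ t, Tr (CC v i) (NU V v i) 1 (v (i + 1)) t → t * a * t⁻¹ = a := by
      intro t ht
      have haN := h.pt_mem h.a_pt
      by_contra h1
      have hna : B (v (i + 1)) a = -1 := by
        rcases Int.units_eq_one_or (B (v (i + 1)) a) with h2 | h2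
        · exact absurd ((F.tv _ h.x_pt t ht a haN).1 h2) h1
        · exact h2
      have h2 := hU.hyp F rfl (fun t ht => ?_) D.T_isPGroup hna (fun n hn hT => ?_)
      · -- `N = V (i+1)`
        have h3 : NU V v i ≤ V (i + 1) := by
          intro n hn
          rcases h2 n hn with h4 | h4 | h4 | h4
          · rw [h4]; exact one_mem _
          · rw [h4]; exact hmv
          · rw [h4]; exact ha
          · rw [h4]; exact mul_mem hmv ha
        have h4 : NU V v i = V (i + 1) := le_antisymm h3 (D.V_le_N i)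
        have h5 : CC v i ≤ normalizer (V (i + 1) : Set G) := by
          have := D.C_le_N_N i
          rwa [h4] at this
        refine D.comp (i + 1) fun c hc => ⟨1, one_mem _, c, ?_, by group⟩
        have h6 : CC v (i + 1) ≤ normalizer (V (i + 1) : Set G) :=
          (D.gen (ne_add_one i)).trans (sup_le (D.PN i (i + 1)) ((D.cent_zc_le i).trans h5))
        exact h6 hc
      · have h3 : t * a * t⁻¹ ∈ V (i + 1) := (mem_normalizer_iff.1 (D.T_le_N (i + 1) ht) _).1 ha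
        have h4 : t * a * t⁻¹ ≠ 1 := fun h5 => ha1 (conj_eq_one_iff.1 h5)
        rcases D.eq_of_V hmv (D.ne _) ha ha1 (Ne.symm hav) h3 h4 with h5 | h5 | h5
        · exfalso
          have h6 := D.cen (i + 1) ht
          apply hav
          have h7 : t * a * t⁻¹ = t * v (i + 1) * t⁻¹ := by rw [h5, h6]
          exact mul_left_cancel (mul_right_cancel h7)
        · exact Or.inl h5
        · exact Or.inr h5
      · have h3 : n ∈ zc T := by
          refine mem_zc.2 ⟨D.N_le_T i hn, fun t ht => ?_, D.N_sq i n hn⟩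
          calc t * n = t * n * t⁻¹ * t := by group
            _ = n * t := by rw [hT t ht]
        rcases (D.zT n).1 h3 with h4 | h4 | h4 | h4
        · exact Or.inl h4
        · rcases Fin.exists_fin_two.1 ⟨i, rfl⟩ with h5 | h5
          · right; right; left; rw [h4, h5]
          · right; left; rw [h4, h5]; rfl
        · rcases Fin.exists_fin_two.1 ⟨i, rfl⟩ with h5 | h5
          · right; left; rw [h4, h5]; rfl
          · right; right; left; rw [h4, h5]
        · right; right; right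
          rcases Fin.exists_fin_two.1 ⟨i, rfl⟩ with h5 | h5
          · rw [h4, h5]
            exact D.comm_v 1 (D.v_mem_T 0)
          · rw [h4, h5]; rfl
    have hD : TDat (CC v i) (centralizer (zc T : Set G)) (P (i + 1)) T (NU V v i) (v i) 1 (v (i + 1)) a :=
      { hU with ti := hti }
    exact ⟨B, D.bform i ha ha1 hav hD F⟩
  · left
    have hno : ∃ t t', Tr (CC v i) (NU V v i) 1 (v (i + 1)) t ∧ Tr (CC v i) (NU V v i) 1 (v (i + 1)) t' ∧
        ∃ n ∈ NU V v i, t * n * t⁻¹ ≠ t' * n * t'⁻¹ := by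
      push Not at huniq
      obtain ⟨t, t', h1, h2, n, hn, h3⟩ := huniq
      exact ⟨t, t', h1, h2, n, hn, h3⟩
    refine le_antisymm ?_ (D.H_le_N i)
    refine h.gl_E hno rfl (E := HU V T i) (D.V_le_H i hmv) (D.V_le_H i ha) fun t ht b hb => ?_
    exact (mem_normalizer_iff.1 (le_normalizer_V _ _ ht) b).1 hb

/-- **THEOREM PC** (#20995 (A)): `d ≥ 2 ⟹ [W_a, N_b] = 1` for all `a ~ b` -/
theorem pcF (hd : ∀ k, NU V v k ≤ QQ v (k + 1)) (j : Fin 2) : WU V v j ≤ centralizer (NU V v (j + 1) : Set G) :=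
  D.pc (fun i _ hr _ hx hxN hxr => D.sec0 i hr hx hxN hxr) D.frmP hd j

end Fr

end Cfsg.Agent.Omega.TC
end

private theorem dce_7107bebfe5fe : _root_.True := by
  try have : _root_.True := by simp only [_root_.Cfsg.Agent.Omega.OM.KTwo.CC.eq_1]
  try have : _root_.True := by simp only [_root_.Cfsg.Agent.Omega.OM.Delta.fb.eq_1]
  exact _root_.True.intro
end
end
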